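import Cfsg.Agent.Lib.CosetEnum.HNP.Steps

/-!
Data for a subgroup `A12` of the presented Harada-Norton group: ten elements playing the part of the
three-cycles `(0 1 i+2)`, and the walks showing Carmichael's relations between them.
-/

set_option autoImplicit false
set_option maxRecDepth 100000
set_option Elab.async false

namespace Cfsg.Agent.Lib.HNAlt13

open Cfsg.Agent.Lib.CosetEnum.HNP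

/-- The starting points: the base point and five points at node 1. -/
def starts : List (ℕ × List ℕ) :=
  [(0, []), (1, []), (1, [4]), (1, [4, 2]), (1, [4, 3]), (1, [4, 2, 2])]

/-- The ten elements as paths. -/
def elts : List (List (List ℕ × ℕ)) :=
  [[([3, 3, 4, 3, 3, 4, 3, 3, 4, 3, 3, 4], 0)]
  , [([0, 3, 3, 0, 2, 0, 2, 0, 3, 0, 3, 3, 0, 2, 0, 2, 0], 0)]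
  , [([0, 2, 0, 3, 0, 3, 0, 3, 0, 2, 0, 2, 0, 3, 3, 0, 3, 0, 2, 2], 1), ([4, 3, 4], 1), ([3, 3, 0, 2, 0, 2, 2, 0, 2, 0, 2, 0, 2], 0)]
  , [([0, 3, 0, 3, 0, 3, 3, 0, 3, 3, 1, 2, 2, 4, 0, 2, 0, 3, 3, 0, 3, 3], 1), ([4, 3, 4], 1), ([3, 0, 3, 4, 3, 0, 3, 0, 4, 2, 2, 2, 4, 3], 0)]
  , [([0, 2, 0, 3, 0, 3, 0, 3, 0, 2, 0, 2, 1, 3, 3, 0, 3, 0, 2, 2], 1), ([4, 3, 4], 1), ([3, 3, 0, 2, 0, 2, 2, 0, 2, 0, 2, 1, 2], 0)]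
  , [([0, 3, 0, 2, 2, 0, 2, 0, 2, 0, 3, 0, 3, 0, 2, 0, 2], 0)]
  , [([0, 3, 0, 3, 0, 3, 3, 0, 3, 3, 0, 2, 2, 4, 0, 2, 0, 3, 3, 0, 3, 3], 1), ([4, 3, 4], 1), ([3, 0, 3, 4, 3, 0, 3, 1, 4, 2, 2, 2, 4, 3], 0)]
  , [([3, 0, 3, 0, 2, 0, 2, 0, 2, 0, 3, 1, 2], 0)]
  , [([2, 2, 0, 3, 3, 4, 3, 3, 4, 3, 3, 1, 3, 3], 0)]
  , [([4, 2, 2, 0, 3, 3, 4, 3, 3, 4, 3, 3, 1, 3, 3, 4], 0)]]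

/-- The pairs of distinct elements. -/
def pairs : List (ℕ × ℕ) :=
  [(0, 1), (0, 2), (0, 3), (0, 4), (0, 5), (0, 6), (0, 7), (0, 8), (0, 9), (1, 2), (1, 3), (1, 4), (1, 5), (1, 6), (1, 7), (1, 8), (1, 9), (2, 3), (2, 4), (2, 5), (2, 6), (2, 7), (2, 8), (2, 9), (3, 4), (3, 5), (3, 6), (3, 7), (3, 8), (3, 9), (4, 5), (4, 6), (4, 7), (4, 8), (4, 9), (5, 6), (5, 7), (5, 8), (5, 9), (6, 7), (6, 8), (6, 9), (7, 8), (7, 9), (8, 9)]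

/-- Walks of relation 0. -/
def cert0 : List (List StepCert × List (ℕ × Bool)) :=
  [([(0, [0, 2, 2, 0, 2, 0, 3, 0, 2, 2, 0, 2, 0, 3, 0, 2, 2, 2, 0, 3, 3], 0), (0, [0, 2, 0, 2, 0, 2, 2, 2, 0, 3, 0, 2, 2, 2, 0, 2, 0, 2, 0, 3, 3], 0), (0, [], 0)], [])
  , ([(0, [0, 2, 2, 0, 2, 0, 3, 0, 2, 2, 0, 2, 0, 3, 0, 2, 2, 2, 0, 3, 3], 0), (0, [0, 2, 0, 2, 0, 2, 2, 2, 0, 3, 0, 2, 2, 2, 0, 2, 0, 2, 0, 3, 3], 0), (0, [], 0)], [])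
  , ([(1, [0, 2, 2, 0, 2, 0, 3, 0, 2, 2, 0, 2, 0, 3, 0, 2, 2, 2, 0, 3, 3], 0), (1, [0, 2, 0, 2, 0, 2, 2, 2, 0, 3, 0, 2, 2, 2, 0, 2, 0, 2, 0, 3, 3], 0), (1, [], 0)], [])
  , ([(1, [0, 2, 0, 3, 3, 0, 2, 2, 0, 2, 0, 2, 2, 0, 3, 3, 0, 2, 0, 2], 0), (1, [0, 3, 0, 2, 2, 0, 3, 3, 0, 3, 0, 3, 3, 0, 2, 2, 0, 3, 0, 2], 0), (1, [2], 0)], [])
  , ([(1, [0, 2, 0, 3, 3, 0, 2, 2, 0, 2, 0, 2, 2, 0, 3, 3, 0, 2, 0, 3], 0), (1, [0, 3, 0, 2, 2, 0, 3, 3, 0, 3, 0, 3, 3, 0, 2, 2, 0, 3, 0, 3], 0), (1, [3], 0)], [])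
  , ([(1, [0, 2, 2, 0, 2, 0, 3, 0, 2, 2, 0, 2, 0, 3, 0, 2, 2, 2, 0], 0), (1, [0, 2, 0, 2, 0, 2, 2, 2, 0, 3, 0, 2, 2, 2, 0, 2, 0, 2, 0], 0), (1, [2, 2], 0)], [])]

/-- Walks of relation 1. -/
def cert1 : List (List StepCert × List (ℕ × Bool)) :=
  [([(0, [0, 3, 3, 0, 2, 0, 2, 0, 3, 0, 3, 3, 0, 2, 0, 2, 0], 0), (0, [0, 3, 0, 3, 0, 2, 2, 0, 2, 0, 3, 0, 3, 0, 2, 2, 0], 0), (0, [], 0)], [])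
  , ([(0, [0, 3, 3, 0, 2, 0, 2, 0, 3, 0, 3, 3, 0, 2, 0, 2, 0], 0), (0, [0, 3, 0, 3, 0, 2, 2, 0, 2, 0, 3, 0, 3, 0, 2, 2, 0], 0), (0, [], 0)], [])
  , ([(1, [0, 3, 3, 0, 2, 0, 2, 0, 3, 0, 3, 3, 0, 2, 0, 2, 0], 0), (1, [0, 3, 0, 3, 0, 2, 2, 0, 2, 0, 3, 0, 3, 0, 2, 2, 0], 0), (1, [], 0)], [])
  , ([(1, [2, 0, 3, 3, 0, 2, 0, 2, 0, 3, 0, 3, 3, 0, 2, 0, 2, 0], 0), (1, [2, 0, 3, 0, 3, 0, 2, 2, 0, 2, 0, 3, 0, 3, 0, 2, 2, 0], 0), (1, [2], 0)], [])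
  , ([(1, [3, 0, 3, 3, 0, 2, 0, 2, 0, 3, 0, 3, 3, 0, 2, 0, 2, 0], 0), (1, [3, 0, 3, 0, 3, 0, 2, 2, 0, 2, 0, 3, 0, 3, 0, 2, 2, 0], 0), (1, [3], 0)], [])
  , ([(1, [0, 2, 0, 2, 0, 3, 3, 0, 2, 0, 3, 3, 0, 2, 0, 2, 0], 0), (1, [0, 2, 2, 0, 3, 0, 3, 0, 2, 0, 2, 2, 0, 3, 0, 3, 0, 2, 2], 0), (1, [2, 2], 0)], [])]

/-- Walks of relation 2. -/
def cert2 : List (List StepCert × List (ℕ × Bool)) :=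
  [([(0, [0, 2, 0, 3, 0, 3, 0, 3, 0, 2, 0, 2, 0, 3, 3, 0, 3, 0, 2, 2], 2), (326, [0, 3, 0, 3, 3, 0, 3, 3, 0, 2, 2, 0, 3, 3, 0, 3, 0, 2, 2, 2, 0], 1), (0, [3, 3, 0, 2, 0, 2, 0, 3, 0, 3, 0, 3, 0, 2, 2, 2, 1, 3, 3], 0), (0, [2, 2, 2, 0, 2, 2, 0, 2, 0, 3, 3, 0, 2, 0, 2, 2, 2, 0, 2, 2, 0, 2, 1], 4), (40, [0, 3, 3, 0, 3, 3, 0, 2, 2, 0, 3, 3, 0, 3, 0, 3, 3, 0, 2, 0, 3, 3], 4), (4, [2, 2, 2, 0, 2, 0, 3, 3, 0, 2, 0, 2, 2, 0, 2, 0, 2, 0, 3, 1], 0), (0, [2, 2, 0, 3, 0, 2, 2, 0, 2, 0, 3, 0, 3, 3, 0, 3, 0, 3, 1], 4), (0, [0, 2, 0, 2, 2, 0, 3, 0, 3, 0, 3, 0, 2, 0, 2, 2, 0, 2, 0, 2, 0], 4), (0, [2, 0, 2, 0, 3, 3, 0, 2, 0, 3, 3, 0, 3, 0, 2, 2, 0, 2, 2, 0, 2, 1], 0)], [(2, false), (1, false), (1, false), (0, true), (1, true), (2,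 false), (1, false), (1, false), (1, false), (2, false), (1, true), (2, false), (0, false), (1, false), (1, false), (2, false), (1, false), (2, false), (0, false), (1, true), (0, false)])
  , ([(0, [0, 2, 0, 3, 0, 3, 0, 3, 0, 2, 0, 2, 0, 3, 3, 0, 3, 0, 2, 2], 2), (351, [0, 3, 0, 2, 2, 0, 3, 3, 0, 3, 0, 3, 3, 0, 2, 1], 4), (4, [0, 3, 3, 0, 3, 3, 0, 3, 0, 2, 2, 0, 2, 0, 3, 0, 3, 1, 3, 3], 0), (0, [2, 0, 2, 2, 0, 3, 0, 3, 0, 2, 0, 2, 0, 2, 0, 3, 0, 3, 0, 3, 3, 0], 4), (20, [2, 2, 0, 2, 0, 2, 2, 0, 3, 3, 0, 2, 2, 0, 2, 1, 2, 2, 2], 4), (4, [2, 2, 2, 0, 2, 2, 0, 2, 0, 2, 0, 3, 0, 2, 2, 0, 2, 0, 3, 1, 3], 0), (0, [3, 0, 2, 0, 2, 2, 2, 0, 2, 0, 2, 0, 2, 2, 0, 3, 3, 0, 3, 1, 3, 3], 4), (0, [0, 2, 2, 0, 3, 0, 2, 2, 0, 2, 0,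 2, 2, 0, 3, 3, 0, 3, 0, 2, 0, 2, 1], 1), (0, [3, 0, 3, 0, 2, 2, 0, 2, 2, 0, 2, 0, 2, 2, 2, 0, 3, 0, 3, 3, 0, 3], 0)], [(1, false), (0, false), (1, true), (0, false), (0, false), (0, false), (1, false), (0, false), (1, false), (0, true), (1, false), (0, false), (1, false), (1, false)])
  , ([(1, [0, 2, 0, 3, 0, 3, 0, 3, 0, 2, 0, 2, 0, 3, 3, 0, 3, 0, 2, 2], 2), (259, [3, 3, 0, 2, 0, 2, 0, 3, 0, 2, 2, 0, 2, 0, 3, 1, 3], 1), (91, [0, 3, 0, 3, 0, 2, 2, 2, 0, 3, 3, 0, 3, 0, 3, 0, 2, 0, 2, 0, 2, 0, 3], 0), (1, [2, 2, 2, 0, 3, 0, 2, 2, 0, 3, 0, 3, 3, 0, 2, 0, 2, 0, 3, 0], 1), (261, [0, 2, 0, 2, 0, 2, 0, 3, 0, 3, 3, 0, 3, 0, 3, 0, 3, 3, 1, 3], 1), (91, [0, 2, 2, 0, 3, 3, 0, 2, 2, 0, 2, 0, 2, 0, 2, 2, 2], 0), (1, [0, 2, 0,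 2, 2, 0, 3, 0, 3, 0, 2, 0, 2, 0, 2, 2, 2, 0, 2, 2], 1), (35, [0, 2, 0, 2, 2, 2, 0, 3, 3, 0, 3, 3], 3), (1, [0, 3, 0, 2, 2, 0, 2, 2, 0, 3], 0)], [(0, false), (0, false), (1, false), (0, false), (0, false), (1, true), (0, true), (1, false), (0, false), (1, true), (0, false), (1, true)])
  , ([(1, [2, 0, 2, 0, 3, 0, 3, 0, 3, 0, 2, 0, 2, 0, 3, 3, 0, 3, 0, 2, 2], 2), (275, [3, 3, 0, 2, 0, 2, 2, 0, 3, 3, 0, 2, 2, 0, 2, 2, 0, 3, 1, 3], 3), (30, [3, 0, 2, 2, 2, 0, 2, 2, 0, 3, 0, 3, 3, 0, 3, 0, 3, 3], 0), (30, [2, 0, 3, 0, 2, 2, 2, 0, 2, 2, 0, 2, 2, 0, 3, 0, 3, 3, 0, 3, 3], 3), (335, [0, 3, 3, 0, 2, 0, 2, 2, 0, 2, 0, 3, 3, 0, 2, 0, 2, 2, 0, 2, 0, 3, 1], 3), (30, [0, 3, 0, 3, 3, 0, 3, 3, 0, 2, 0, 2, 2, 0, 2, 0, 3, 1, 2, 2],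 0), (30, [2, 2, 2, 0, 3, 3, 0, 3, 0, 3, 0, 2, 1, 3], 3), (35, [3, 0, 2, 0, 3, 3, 0, 2, 0, 2, 2, 0, 2, 2, 2, 0, 2, 0, 2, 0, 2], 3), (1, [2, 2, 0, 2, 2, 0, 3, 0, 3, 3, 0, 3, 3, 0, 3, 0, 2, 2, 0, 3, 0], 0)], [(1, true), (0, true), (0, true), (1, false), (0, false), (1, true), (0, true), (1, false), (0, true), (0, true), (1, false), (0, true), (1, false)])
  , ([(1, [0, 2, 2, 0, 2, 0, 2, 0, 3, 0, 3, 3, 0, 2, 0, 2, 0, 3, 0, 3], 2), (149, [0, 2, 0, 2, 2, 2, 0, 2, 0, 3, 3, 0, 2, 0, 3, 3, 0, 3], 2), (30, [0, 3, 3, 0, 2, 0, 3, 3, 0, 2, 0, 2, 2, 2, 0, 2, 2, 0, 2, 1, 2], 0), (30, [0, 2, 2, 2, 0, 2, 2, 0, 3, 0, 3, 3, 0, 3, 0, 2, 2, 0, 3, 0, 3, 3, 1], 3), (91, [0, 2, 2, 0, 3, 3, 0, 3, 0, 2, 0, 2, 0, 3, 0, 3, 3, 0, 2, 2, 0], 4),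 (12, [3, 3, 0, 3, 3, 0, 2, 0, 2, 0, 2, 0, 3, 0, 2, 2, 0, 3, 3, 1], 0), (12, [3, 0, 3, 0, 2, 2, 0, 3, 0, 3, 3, 0, 3, 0, 2, 0, 2, 0, 2, 2, 1, 2, 2], 1), (35, [3, 0, 2, 0, 2, 0, 3, 0, 2, 2, 2, 0, 3, 3, 0, 3, 0, 2, 0], 3), (1, [3, 0, 2, 2, 2, 0, 3, 0, 3, 3, 0, 2, 2, 0, 3, 3, 0, 3, 0, 3, 0], 0)], [(1, false), (1, false), (0, true), (1, true), (0, true), (0, true), (1, false), (0, false), (0, false), (1, false), (0, true), (0, true)])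
  , ([(1, [2, 2, 0, 2, 0, 3, 0, 3, 0, 3, 0, 2, 0, 2, 0, 3, 3, 0, 3, 0, 2, 2], 2), (20, [2, 2, 0, 2, 0, 2, 2, 2, 0, 3, 0, 3, 3, 0, 3, 3, 0, 2, 0, 2, 1, 2], 1), (91, [2, 0, 2, 0, 2, 0, 3, 3, 0, 3, 0, 2, 0, 2, 0, 3, 0, 3, 0, 3, 0, 3, 3], 0), (1, [3, 3, 0, 2, 0, 2, 2, 0, 3, 0, 3, 0, 3, 3, 0, 3, 0, 3, 0, 3], 1), (261, [0, 2, 0, 2, 2, 0, 3, 0, 3, 0, 2, 0, 3, 3, 0, 2, 2, 0, 2, 2, 1, 3], 1), (91, [2, 2, 2, 0, 3, 3, 0, 2, 0, 2, 2, 0, 3, 0, 3, 3, 0, 3, 0, 2, 2, 1, 3], 0), (1, [0, 2, 0, 2, 2, 0, 2, 2, 0, 3, 0, 3, 3, 0, 3, 0, 3, 3, 0, 2, 2, 0, 2, 1], 1), (35, [2, 0, 3, 0, 3, 3, 0, 2, 2, 2, 0, 2, 0, 2, 1, 3], 3), (1, [0, 3, 3, 0, 2, 0, 2, 2, 2, 0, 3, 3, 0, 2, 2, 1, 3, 3], 0)], [(1, false), (0, true), (1, false), (1, false), (0,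 false), (1, true), (0, true), (0, true), (1, false), (0, false), (0, false), (0, false), (1, false)])]

/-- Walks of relation 3. -/
def cert3 : List (List StepCert × List (ℕ × Bool)) :=
  [([(5, [3, 0, 2, 0, 2, 0, 3, 0, 3, 3, 0, 2, 2, 2, 0, 3, 0, 3, 0, 3], 1), (26, [2, 0, 3, 0, 2, 2, 0, 3, 0, 3, 3, 0, 2, 2, 0, 2, 0, 2, 0, 2, 2, 0, 2, 2], 1), (76, [2, 0, 3, 0, 2, 2, 0, 2, 0, 3, 3, 0, 3, 3, 0, 2, 2, 0, 2, 0, 3, 3, 1, 3], 0), (111, [3, 0, 3, 0, 2, 0, 2, 0, 3, 0, 3, 0, 2], 4), (201, [0, 2, 2, 2, 0, 3, 0, 3, 3, 0, 3, 0, 2, 2, 0, 3, 3], 4), (96, [0, 3, 3, 0, 2, 2, 0, 3, 3, 0, 3, 0, 2, 2, 0, 2, 2, 0, 3, 3, 1, 3], 0), (171, [3, 0, 3, 3, 0, 2, 2, 0, 2, 2, 0, 2, 2, 2], 4), (0, [3, 0, 3, 0, 3, 0, 2, 2, 2, 0, 3, 0, 3, 0, 3],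 4), (240, [3, 0, 3, 3, 0, 3, 0, 3, 0, 2, 0, 2, 0, 2, 2, 0, 2, 0, 3], 0)], [(1, true), (1, true), (2, false), (1, true), (1, true), (2, false), (0, false), (1, false), (2, false), (1, false), (2, false), (1, false), (0, false), (1, false), (0, false), (1, true), (2, false), (1, true), (0, false), (1, false), (2, false), (0, false)])
  , ([(5, [3, 0, 2, 0, 2, 0, 3, 0, 3, 3, 0, 2, 2, 2, 0, 3, 0, 3, 0, 3], 1), (18, [0, 2, 2, 0, 2, 2, 2, 0, 3, 0, 3, 3, 0, 2, 2, 0, 2, 0, 2, 2], 1), (0, [0, 3, 3, 0, 2, 0, 2, 0, 2, 0, 3, 0, 3, 0, 2, 2, 0, 2, 0, 3, 1], 0), (1, [0, 2, 0, 3, 0, 3, 3, 0, 2, 2, 2, 0, 2, 2, 1], 1), (110, [2, 0, 3, 0, 2, 2, 2, 0, 2, 2, 2, 0, 3, 3, 0], 1), (0, [3, 0, 3, 3, 0, 3, 0, 2, 2, 2, 0, 3, 3, 0, 3, 0, 3,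 3, 0, 2, 0, 3], 0), (1, [3, 0, 3, 0, 2, 0, 2, 0, 2, 0, 3, 0, 2, 2, 0, 2, 0, 2, 2, 0, 3, 3, 1], 1), (3, [2, 0, 2, 0, 2, 2, 0, 2, 0, 2, 0, 3, 0, 3, 3, 0, 3, 0, 2, 2], 1), (0, [3, 0, 3, 0, 3, 3, 0, 2, 0, 3, 3, 0, 3, 0, 2, 2, 2, 0, 3, 0], 0)], [(0, false), (0, false), (1, true), (0, false), (1, true), (0, false), (0, false), (1, false), (0, false), (0, false), (1, true), (0, false)])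
  , ([(14, [3, 0, 2, 0, 2, 0, 3, 0, 3, 3, 0, 2, 2, 2, 0, 3, 0, 3, 0, 3], 4), (300, [0, 3, 0, 2, 0, 2, 0, 3, 0, 2, 2, 0, 2, 0, 3, 0, 2, 2, 1, 2], 3), (325, [0, 2, 2, 0, 3, 0, 2, 2, 0, 2, 2, 0, 3, 0, 3, 0, 3, 3, 0, 2, 1, 3], 0), (181, [0, 3, 0, 2, 0, 2, 0, 3, 0, 3, 0, 3, 3, 0, 2, 2, 0, 2, 0, 2, 0, 2], 2), (273, [2, 0, 3, 0, 3, 0, 3, 0, 2, 2, 2, 0, 3, 0, 3, 0, 2, 0, 2, 2], 3), (74, [2, 0, 3, 3, 0, 3, 0, 3, 3, 0, 2, 2, 0, 3, 3, 0], 0), (96, [0, 2, 2, 2, 0, 3, 3, 0, 3, 0, 3, 3, 0, 2, 2, 0, 3, 3, 0, 3, 0, 3, 1], 2), (3, [0, 2, 0, 2, 0, 3, 3, 0, 3, 0, 2, 0, 2, 0, 3, 0, 3, 3, 1, 2, 2], 4), (287, [2, 0, 3, 3, 0, 3, 0, 3, 0, 2, 0, 3, 3, 0, 3, 3, 1, 2], 0)], [(0, true), (0, true), (1, false), (0, true), (1, false), (1, false),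 (0, true), (0, true), (0, true), (1, false), (1, false), (0, false), (1, true)])
  , ([(6, [3, 0, 2, 0, 2, 0, 3, 0, 3, 3, 0, 2, 2, 2, 0, 3, 0, 3, 0, 3], 1), (26, [2, 0, 3, 0, 2, 2, 0, 3, 0, 3, 3, 0, 2, 2, 0, 2, 0, 2, 0, 2, 2, 0, 2, 2], 1), (3, [2, 0, 2, 2, 0, 2, 0, 2, 0, 3, 3, 0, 3, 0, 3, 3, 0, 3, 3, 1, 2], 0), (50, [3, 0, 3, 0, 2, 0, 2, 0, 2, 0, 3, 0, 2, 2, 0, 2, 1, 3, 3], 4), (192, [2, 0, 2, 0, 3, 0, 3, 0, 3, 3, 0, 2, 0, 2, 0, 3, 0, 3, 0, 3, 0], 4), (3, [0, 3, 3, 0, 3, 0, 3, 3, 0, 2, 0, 2, 0, 2, 2, 0, 3, 1, 3, 3], 0), (50, [0, 2, 0, 2, 2, 0, 2, 0, 3, 0, 2, 2, 0, 3, 3], 4), (4, [0, 2, 0, 2, 0, 2, 2, 0, 3, 3, 0, 3, 3, 0, 2, 0, 2, 2, 0, 3, 3, 1, 2, 2], 4), (287, [3, 3, 0, 2, 0, 3, 3, 0, 2, 2, 0, 2, 2, 0, 3, 3, 0,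 2, 1, 3, 3], 0)], [(0, true), (1, false), (1, false), (0, true), (1, false), (0, true), (1, true)])
  , ([(28, [3, 0, 2, 0, 2, 0, 3, 0, 3, 3, 0, 2, 2, 2, 0, 3, 0, 3, 0, 3], 1), (179, [0, 3, 3, 0, 2, 0, 2, 2, 0, 3, 3, 0, 3, 0, 3, 3, 0, 3, 0, 2, 2, 0, 2, 1, 2], 1), (113, [0, 3, 0, 2, 2, 0, 2, 0, 2, 2, 2, 0, 2, 2, 0, 2, 0, 2, 2, 0, 3, 3], 0), (3, [3, 3, 0, 3, 3, 0, 2, 2, 0, 3, 3, 0, 3, 0, 2, 2, 0, 2, 0, 3, 0], 4), (240, [0, 3, 3, 0, 3, 0, 2, 2, 0, 2, 0, 3, 3, 0, 3, 3, 0, 3, 3, 0, 3, 1], 2), (12, [3, 0, 3, 0, 2, 0, 3, 3, 0, 3, 3, 0, 2, 0, 2, 2, 0, 2, 0, 3, 0, 3, 0, 3], 0), (30, [0, 3, 0, 2, 2, 0, 3, 0, 2, 2, 0, 3, 0, 3, 0, 3, 0, 3, 3, 1], 3), (3, [0, 2, 0, 3, 0, 2, 2, 0, 2, 0, 2, 2, 0, 3, 3, 0, 3, 0, 2, 2, 1, 3], 4),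 (148, [3, 0, 2, 2, 0, 2, 0, 3, 0, 3, 3, 0, 2, 2, 0, 3, 3, 0, 3, 3, 1, 3], 0)], [(0, true), (1, true), (0, false), (1, false), (0, true), (0, true), (1, false), (0, false), (0, false), (1, true)])
  , ([(0, [3, 0, 2, 0, 2, 0, 3, 0, 3, 3, 0, 2, 2, 2, 0, 3, 0, 3, 0, 3], 1), (333, [2, 2, 2, 0, 2, 2, 0, 3, 0, 2, 2, 0, 2, 2, 0], 3), (347, [2, 0, 2, 2, 0, 2, 0, 3, 3, 0, 3, 0, 2, 2, 2, 0], 0), (303, [3, 0, 3, 3, 0, 3, 3, 0, 3, 0, 3, 3], 3), (201, [0, 3, 3, 0, 3, 3, 0, 2, 2, 0, 2, 0, 2, 2, 0, 3, 0, 3, 3, 0, 3, 0], 2), (148, [2, 0, 2, 2, 2, 0, 3, 0, 3, 0, 3, 3, 0, 3, 3, 0, 2, 0], 0), (20, [2, 2, 0, 2, 0, 2, 2, 0, 3, 3, 0, 3, 0, 3, 3, 0, 2, 2, 1, 2], 3), (0, [0, 3, 3, 0, 3, 1, 3, 3], 2), (24, [3, 0, 3, 0, 2, 2, 2, 0, 2, 2,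 2, 0, 3, 1, 2], 0)], [(0, false), (0, false), (1, true), (0, false), (1, true), (0, true), (0, true), (0, true), (1, true), (0, false), (1, false), (0, false), (0, false)])]

/-- Walks of relation 4. -/
def cert4 : List (List StepCert × List (ℕ × Bool)) :=
  [([(0, [0, 2, 0, 3, 0, 3, 0, 3, 0, 2, 0, 2, 0, 3, 3, 0, 3, 1, 2, 2], 3), (326, [0, 3, 0, 3, 3, 0, 3, 3, 0, 2, 2, 0, 3, 3, 0, 3, 0, 2, 2, 2, 0], 1), (0, [3, 3, 0, 2, 0, 2, 0, 3, 0, 3, 0, 3, 0, 2, 2, 2, 0, 3, 3], 0), (0, [2, 2, 2, 0, 2, 2, 0, 2, 0, 3, 3, 0, 2, 0, 2, 2, 2, 0, 2, 2, 0, 2, 1], 4), (40, [0, 3, 3, 0, 3, 3, 0, 2, 2, 0, 3, 3, 0, 3, 0, 3, 3, 0, 2, 0, 3, 3], 4), (4, [2, 2, 2, 0, 2, 0, 3, 3, 0, 2, 0, 2, 2, 0, 2, 0, 2, 0, 3, 0], 0), (0, [2, 2, 0, 3, 0, 2,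 2, 0, 2, 0, 3, 0, 3, 3, 0, 3, 0, 3, 1], 4), (0, [0, 2, 0, 2, 2, 0, 3, 0, 3, 0, 3, 0, 2, 0, 2, 2, 0, 2, 0, 2, 0], 4), (0, [2, 0, 2, 0, 3, 3, 0, 2, 0, 3, 3, 0, 3, 0, 2, 2, 0, 2, 2, 0, 2, 0], 0)], [(2, false), (1, false), (1, false), (0, false), (1, true), (2, false), (1, false), (1, false), (1, false), (2, false), (1, true), (2, false), (0, false), (1, false), (1, false), (2, false), (1, false), (2, false), (0, false), (1, true), (0, false)])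
  , ([(0, [0, 2, 0, 3, 0, 3, 0, 3, 0, 2, 0, 2, 0, 3, 3, 0, 3, 1, 2, 2], 3), (103, [2, 0, 3, 0, 3, 3, 0, 2, 2, 0, 2, 0, 2, 2, 0, 3, 0, 3, 3, 1], 2), (303, [2, 0, 3, 3, 0, 3, 3, 0, 3, 3, 0, 2, 2, 0, 3, 3, 0, 3, 1, 2], 0), (303, [2, 2, 0, 2, 2, 0, 3, 3, 0, 3, 0], 3), (20, [2, 0, 3, 0, 3, 3, 0, 2, 2, 0, 2, 2, 0, 2, 2, 0, 3, 0, 3, 0, 2, 1, 2], 2), (303, [2, 2, 0, 3, 0, 2, 2, 2, 0, 3, 0, 3, 0, 2, 0, 2, 1, 3], 0), (303, [2, 0, 3, 0, 2, 2, 2, 0, 3, 3, 0, 3, 0, 3, 3, 1, 3], 3), (0, [3, 3, 0, 2, 2, 0, 2, 0, 3, 3, 0, 3, 0, 3, 0, 2, 0, 2, 2], 3), (0, [2, 0, 2, 2, 0, 3, 3, 0, 2, 2, 0, 2, 2, 0, 2, 0, 3, 0, 3, 0], 0)], [(0, false), (1, true), (0, false), (0, false), (1, true), (0, false), (0, false), (0, false), (1, false), (0,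 true), (1, true), (0, true)])
  , ([(1, [0, 2, 0, 3, 0, 3, 0, 3, 0, 2, 0, 2, 0, 3, 3, 0, 3, 1, 2, 2], 3), (306, [2, 2, 2, 0, 2, 2, 0, 2, 0, 2, 2, 0, 3, 0, 3, 1, 3], 4), (285, [3, 3, 0, 3, 0, 2, 2, 0, 2, 2, 0, 2, 2, 0, 2, 0, 3, 0, 3, 3, 0, 3], 0), (285, [0, 3, 3, 0, 3, 0, 2, 2, 0, 3, 0, 3, 3, 0, 3, 0, 2, 0, 2, 2, 1], 4), (165, [0, 3, 0, 3, 3, 0, 3, 0, 2, 0, 2, 0, 3, 3, 0, 3, 1, 2, 2, 2], 4), (285, [3, 3, 0, 2, 2, 0, 3, 0, 2, 2, 2, 0, 2, 0, 3, 1], 0), (285, [3, 0, 3, 3, 0, 2, 0, 3, 3, 0, 2, 2, 0, 2, 0, 2, 0, 2, 2, 2], 4), (269, [0, 2, 2, 2, 0, 3, 3, 0, 3, 0, 2, 2, 2], 1), (1, [0, 2, 0, 3, 3, 0, 3, 0, 2, 2, 2, 0, 2, 2, 1, 3, 3], 0)], [(1, false), (0, true), (0, true), (1, false), (1, false), (0, true), (1, false), (0,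 true), (0, true), (1, false), (0, false)])
  , ([(1, [2, 0, 2, 0, 3, 0, 3, 0, 3, 0, 2, 0, 2, 0, 3, 3, 0, 3, 1, 2, 2], 3), (90, [0, 2, 0, 3, 3, 0, 3, 0, 2, 2, 0, 2, 0, 3, 0, 3, 0, 2, 0, 2, 2, 0, 3, 3, 0, 2], 3), (219, [2, 0, 2, 2, 2, 0, 2, 2, 2, 0, 2, 0, 3, 3, 0, 2, 0, 2, 2, 0, 3, 3, 1], 0), (219, [0, 3, 0, 2, 2, 0, 3, 0, 2, 2, 0, 2, 0, 3, 3, 1, 2, 2, 2], 3), (181, [3, 0, 3, 0, 2, 0, 2, 0, 3, 0, 2, 2, 0, 2, 2, 0, 3, 1], 2), (219, [0, 3, 0, 2, 2, 2, 0, 2, 2, 0, 2, 0, 2, 0, 2, 2, 0, 2, 2, 1, 3], 0), (219, [0, 2, 0, 3, 0, 3, 3, 0, 3, 0, 3, 3, 0, 2, 0, 2, 2, 0, 3, 3, 0, 2], 3), (236, [0, 2, 0, 2, 2, 0, 3, 0, 3, 0, 2, 2, 2, 0, 2, 2, 1, 2, 2], 1), (1, [2, 0, 2, 2, 0, 2, 0, 3, 0, 3, 0, 2, 0, 2, 2, 0, 3, 0, 2, 2], 0)], [(1,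 false), (0, false), (0, false), (1, false), (0, true), (0, true), (0, true), (1, true), (0, false), (0, false), (1, false), (0, true), (0, true)])
  , ([(1, [0, 2, 2, 0, 2, 0, 2, 0, 3, 0, 3, 3, 0, 2, 0, 2, 0, 3, 1, 3], 3), (137, [0, 2, 2, 0, 2, 0, 2, 0, 2, 2, 0, 3, 3, 0, 3, 3, 0, 2, 0, 2, 2, 0, 3], 2), (219, [3, 0, 3, 0, 2, 2, 2, 0, 3, 3, 0, 3, 0, 2, 0, 2, 0, 3, 1, 3], 0), (219, [3, 0, 3, 0, 2, 0, 3, 3, 0, 3, 0, 2, 2, 2, 0, 2, 1, 3, 3], 3), (282, [2, 2, 2, 0, 3, 3, 0, 2, 0, 3, 3, 0, 2, 0, 2, 2, 0, 2, 2], 1), (285, [0, 3, 3, 0, 3, 0, 3, 3, 0, 3, 3, 0, 3, 0, 3, 0, 3, 3, 0, 2, 2], 0), (285, [0, 3, 0, 3, 0, 2, 0, 3, 3, 0, 3, 3, 0, 2, 2, 0, 2, 0, 3, 3, 1], 4), (101, [2, 0, 3, 3, 0, 3, 3, 0, 3, 3, 0, 2, 0, 2, 2, 0, 3,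 3, 0, 2, 2, 0], 4), (1, [2, 0, 2, 2, 0, 2, 0, 2, 2, 0, 3, 3, 0, 2, 2, 0, 2, 0, 3, 0], 0)], [(0, false), (0, false), (0, false), (1, false), (0, true), (0, true), (1, false), (1, false), (0, false), (1, true), (0, false), (1, true)])
  , ([(1, [2, 2, 0, 2, 0, 3, 0, 3, 0, 3, 0, 2, 0, 2, 0, 3, 3, 0, 3, 1, 2, 2], 3), (62, [2, 2, 0, 2, 0, 3, 0, 3, 0, 2, 0, 2, 0, 2, 2, 0, 2, 0, 3, 0, 3, 0, 3, 0], 4), (285, [3, 3, 0, 2, 2, 0, 2, 0, 2, 0, 3, 0, 3, 0, 2, 2, 2, 0, 3, 0, 3], 0), (285, [2, 2, 0, 2, 0, 2, 0, 3, 0, 3, 3, 0, 3, 3, 0, 2, 0, 2, 2, 0, 3, 3, 1], 4), (338, [3, 0, 2, 2, 0, 3, 0, 3, 3, 0, 2, 0, 2, 2, 0, 3, 3, 0, 3, 3, 0], 4), (285, [0, 3, 0, 3, 0, 3, 0, 3, 3, 0, 3, 3, 0, 2, 2, 0, 3, 0], 0), (285, [3, 0, 3, 0, 3, 0, 3,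 3, 0, 2, 2, 1, 2, 2], 4), (101, [0, 3, 3, 0, 3, 0, 3, 0, 2, 0, 2, 2, 0, 2, 2, 0, 2, 2, 1, 2], 1), (1, [0, 3, 0, 2, 0, 3, 3, 0, 3, 0, 2, 0, 2, 0, 3, 0, 3, 0, 3, 1, 2], 0)], [(0, true), (0, true), (1, false), (0, true), (1, false), (1, false), (0, true), (1, false), (0, true), (0, true), (0, true)])]

/-- Walks of relation 5. -/
def cert5 : List (List StepCert × List (ℕ × Bool)) :=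
  [([(0, [0, 3, 0, 2, 2, 0, 2, 0, 2, 0, 3, 0, 3, 0, 2, 0, 2], 0), (0, [3, 0, 3, 0, 2, 0, 2, 0, 3, 0, 3, 0, 3, 3, 0, 2, 0], 0), (0, [], 0)], [])
  , ([(0, [0, 3, 0, 2, 2, 0, 2, 0, 2, 0, 3, 0, 3, 0, 2, 0, 2], 0), (0, [3, 0, 3, 0, 2, 0, 2, 0, 3, 0, 3, 0, 3, 3, 0, 2, 0], 0), (0, [], 0)], [])
  , ([(1, [0, 3, 0, 2, 2, 0, 2, 0, 2, 0, 3, 0, 3, 0, 2, 0, 2], 0), (1, [3, 0, 3, 0, 2, 0, 2, 0, 3, 0, 3, 0, 3, 3, 0, 2, 0], 0), (1, [], 0)], [])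
  , ([(1, [0, 2, 0, 3, 3, 0, 3, 0, 3, 0, 3, 3, 0, 3, 0, 2, 0, 2], 0), (1, [0, 3, 0, 2, 0, 2, 0, 3, 0, 3, 0, 3, 3, 0, 2, 0], 0), (1, [2], 0)], [])
  , ([(1, [3, 0, 3, 0, 2, 2, 0, 2, 0, 2, 0, 3, 0, 3, 0, 2, 0, 2], 0), (1, [3, 3, 0, 3, 0, 2, 0, 2, 0, 3, 0, 3, 0, 3, 3, 0, 2, 0], 0), (1, [3], 0)], [])
  , ([(1, [2, 0, 2, 0, 3, 3, 0, 3, 0, 3, 0, 3, 3, 0, 3, 0, 2, 0, 2], 0), (1, [0, 2, 0, 2, 0, 3, 0, 3, 0, 2, 2, 0, 2, 2, 0, 2, 0], 0), (1, [2, 2], 0)], [])]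

/-- Walks of relation 6. -/
def cert6 : List (List StepCert × List (ℕ × Bool)) :=
  [([(5, [3, 0, 2, 0, 2, 0, 3, 0, 3, 3, 0, 2, 2, 2, 0, 3, 0, 3, 1, 3], 4), (26, [2, 0, 3, 0, 2, 2, 0, 3, 0, 3, 3, 0, 2, 2, 0, 2, 0, 2, 0, 2, 2, 0, 2, 2], 1), (76, [2, 0, 3, 0, 2, 2, 0, 2, 0, 3, 3, 0, 3, 3, 0, 2, 2, 0, 2, 0, 3, 3, 0, 3], 0), (111, [3, 0, 3, 0, 2, 0, 2, 0, 3, 0, 3, 0, 2], 4), (201, [0, 2, 2, 2, 0, 3, 0, 3, 3, 0, 3, 0, 2, 2, 0, 3, 3], 4), (96, [0, 3, 3, 0, 2, 2, 0, 3, 3, 0, 3, 0, 2, 2, 0, 2, 2, 0, 3, 3, 0, 3], 0), (171, [3, 0, 3, 3, 0, 2, 2, 0, 2, 2, 0, 2, 2, 2], 4), (0, [3, 0, 3, 0, 3, 0, 2, 2, 2, 0, 3, 0, 3, 0, 3], 4), (240, [3, 0, 3, 3, 0, 3, 0, 3, 0, 2, 0, 2, 0, 2, 2, 0, 2, 1, 3], 0)], [(1, true), (1, true), (2, false),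 (1, true), (1, true), (0, false), (2, false), (1, false), (2, false), (1, false), (2, false), (1, false), (0, false), (1, false), (0, false), (1, true), (2, false), (1, true), (0, false), (1, false), (2, false), (0, false)])
  , ([(5, [3, 0, 2, 0, 2, 0, 3, 0, 3, 3, 0, 2, 2, 2, 0, 3, 0, 3, 1, 3], 4), (274, [0, 2, 2, 2, 0, 2, 2, 0, 3, 0, 3, 3, 0, 3, 3, 0, 3, 0, 2, 2, 0, 2, 2], 3), (303, [0, 2, 0, 3, 0, 3, 3, 0, 3, 0, 2, 0, 2, 0, 3, 0, 2, 2, 0, 2, 2, 1, 3], 0), (35, [0, 2, 2, 2, 0, 3, 0, 3, 0, 2, 0, 2, 2, 2, 0, 2, 2, 2], 2), (273, [0, 2, 2, 0, 2, 2, 0, 3, 0, 3, 3, 0, 2, 0, 2, 2, 0, 2, 0, 3, 3, 0, 3, 1], 3), (303, [0, 3, 3, 0, 3, 0, 2, 2, 2, 0, 3, 3, 0, 3, 1, 3, 3], 0), (35, [3, 0, 3, 3, 0, 3, 0, 3, 0, 2, 0, 2, 2, 0,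 2, 2, 0, 3, 3, 1, 2, 2], 2), (35, [0, 2, 2, 0, 3, 3, 0, 3, 0, 2, 2, 0, 2, 0, 3, 0, 3, 0, 2, 1, 2, 2], 4), (0, [0, 2, 2, 2, 0, 2, 2, 0, 3, 0, 2, 2, 0, 2, 0, 3, 3, 0, 2, 0], 0)], [(1, true), (0, true), (0, true), (1, false), (0, true), (0, true), (0, true), (1, false), (0, true), (0, true), (0, true), (1, true), (0, false)])
  , ([(14, [3, 0, 2, 0, 2, 0, 3, 0, 3, 3, 0, 2, 2, 2, 0, 3, 0, 3, 1, 3], 1), (199, [0, 3, 0, 3, 3, 0, 3, 0, 3, 0, 3, 3, 0, 2, 2, 0, 2, 1], 4), (7, [2, 0, 3, 0, 2, 2, 0, 2, 0, 3, 0, 3, 3, 0, 2, 2, 0, 2, 0, 2, 1], 0), (14, [2, 0, 2, 0, 2, 0, 3, 0, 3, 3, 0, 2, 2, 0, 3, 3, 0, 3, 1, 3], 1), (96, [2, 0, 2, 0, 2, 0, 3, 0, 3, 3, 0, 3, 3, 0, 3, 3, 0, 2, 2, 2, 0], 4), (110, [3, 3, 0, 3, 3, 0, 3, 0, 2, 0,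 2, 0, 2, 2, 0, 2, 2, 0, 3, 0, 3, 0, 3], 0), (241, [0, 2, 0, 2, 2, 2, 0, 2, 2, 0, 2, 0, 3, 3, 0, 2, 0, 2, 2, 2, 0, 2, 1], 1), (96, [3, 0, 2, 0, 2, 2, 2, 0, 3, 3, 0, 2, 2, 0, 2, 0, 2, 0, 3, 0, 3], 4), (12, [2, 0, 2, 2, 0, 3, 0, 3, 0, 2, 2, 2, 0, 3, 0, 3, 0, 3, 3, 0, 2, 2, 1, 3], 0)], [(0, false), (0, false), (1, false), (1, false), (0, true), (1, false), (1, false), (0, false), (1, false), (0, false)])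
  , ([(6, [3, 0, 2, 0, 2, 0, 3, 0, 3, 3, 0, 2, 2, 2, 0, 3, 0, 3, 1, 3], 4), (335, [3, 3, 0, 2, 0, 2, 0, 3, 0, 3, 0, 3, 0, 3, 3, 1], 1), (1, [2, 0, 2, 2, 0, 3, 0, 3, 3, 0, 3, 0, 3, 3, 1], 0), (0, [0, 2, 0, 2, 2, 0, 3, 0, 3, 3, 0, 2, 0, 2, 2, 0, 2, 1], 4), (191, [2, 0, 3, 0, 3, 3, 0, 3, 3, 0, 3, 3, 0, 2, 0, 2, 2, 0, 3, 1, 2, 2], 1), (1, [3, 0, 2, 0, 2, 2, 0, 3, 3, 0, 3, 0, 2, 0, 2, 2, 0, 3, 0], 0), (0, [0, 2, 0, 2, 2, 0, 2, 0, 3, 0, 2, 2, 0, 2, 2, 0, 3, 3, 1], 4), (4, [0, 3, 3, 0, 3, 3, 0, 3, 3, 0, 3, 0, 2, 2, 0, 3, 0, 2, 2, 2, 0, 2, 1, 2, 2], 4), (240, [0, 3, 3, 0, 3, 3, 0, 2, 2, 0, 3, 3, 0, 2, 2, 2, 1], 0)], [(1, false), (0, false), (0, false), (1, false), (0, true), (1, false), (0, true), (0, true), (0, true), (1,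 true), (0, true), (1, false), (0, false)])
  , ([(28, [3, 0, 2, 0, 2, 0, 3, 0, 3, 3, 0, 2, 2, 2, 0, 3, 0, 3, 1, 3], 4), (208, [0, 3, 0, 2, 0, 2, 0, 2, 0, 3, 0, 2, 2, 0, 3, 0, 3, 3], 4), (1, [0, 3, 0, 3, 0, 2, 0, 2, 0, 2, 0, 3, 0, 2, 2, 0, 3, 3, 0, 3, 1, 2], 0), (0, [3, 0, 2, 2, 0, 2], 4), (273, [0, 2, 2, 0, 2, 0, 2, 0, 3, 0, 3, 0, 3, 0, 2, 2, 0, 2, 0, 2, 2], 1), (9, [0, 2, 0, 3, 0, 3, 3, 0, 3, 3, 0, 3, 0, 3, 0, 2, 0, 2, 2, 0, 2, 0], 0), (91, [3, 0, 3, 3, 0, 2, 2, 0, 3, 0, 3, 3, 0, 2, 2, 0, 3, 3, 0, 3], 1), (111, [0, 3, 0, 2, 0, 2, 2, 0, 2, 0, 3, 3, 0, 3, 0, 3, 0, 2, 2, 0, 2, 0], 4), (12, [0, 2, 0, 2, 0, 3, 0, 3, 0, 3, 0, 2, 0, 3, 3, 0, 2, 2, 2, 1], 0)], [(0, false), (0, false), (1, true), (0, true), (0, true), (1,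 true), (0, false), (0, false), (0, false)])
  , ([(0, [3, 0, 2, 0, 2, 0, 3, 0, 3, 3, 0, 2, 2, 2, 0, 3, 0, 3, 1, 3], 4), (26, [2, 0, 3, 0, 2, 2, 0, 3, 0, 3, 3, 0, 2, 2, 0, 2, 0, 2, 0, 2, 2, 1, 2, 2], 2), (240, [2, 2, 0, 3, 3, 0, 3, 0, 3, 3, 0, 2, 0, 2, 2, 0, 2, 0, 2, 2, 0, 3], 0), (0, [0, 3, 0, 3, 3, 0, 2, 0, 2, 2, 0, 2, 0, 3, 3, 0, 2, 2, 2, 1], 4), (103, [2, 2, 0, 3, 0, 3, 0, 3, 3, 0, 2, 2, 0, 2, 0, 3, 0, 3, 0, 3, 1, 2], 2), (240, [0, 2, 0, 2, 0, 2, 2, 2, 0, 3, 3, 0, 3, 0, 3, 0, 2, 0, 2, 2, 0, 2, 1, 3], 0), (0, [3, 0, 2, 2, 0, 3, 3, 0, 3, 0, 2, 2, 0, 3, 0, 3], 4), (38, [0, 2, 2, 2, 0, 2, 0, 2, 0, 3, 0, 3, 0, 2, 0, 2, 0, 2, 1, 3, 3], 2), (240, [2, 0, 3, 0, 3, 3, 0, 3, 0, 2, 2, 0, 2, 0, 2, 0, 3, 0, 2, 2, 0, 2, 1],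 0)], [(0, false), (1, false), (0, true), (0, true), (1, true), (0, false), (1, true), (0, false), (1, false), (0, true), (0, true)])]

/-- Walks of relation 7. -/
def cert7 : List (List StepCert × List (ℕ × Bool)) :=
  [([(0, [3, 0, 3, 0, 2, 0, 2, 0, 2, 0, 3, 1, 2], 0), (0, [0, 3, 0, 2, 0, 3, 3, 0, 3, 0, 2, 1, 2], 0), (0, [], 0)], [])
  , ([(0, [3, 0, 3, 0, 2, 0, 2, 0, 2, 0, 3, 1, 2], 0), (0, [0, 3, 0, 2, 0, 3, 3, 0, 3, 0, 2, 1, 2], 0), (0, [], 0)], [])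
  , ([(1, [3, 0, 3, 0, 2, 0, 2, 0, 2, 0, 3, 1, 2], 0), (1, [0, 3, 0, 2, 0, 3, 3, 0, 3, 0, 2, 1, 2], 0), (1, [], 0)], [])
  , ([(1, [0, 3, 0, 2, 0, 2, 0, 2, 0, 3, 1, 2], 0), (1, [0, 2, 0, 3, 0, 3, 0, 3, 0, 2, 1, 2], 0), (1, [2], 0)], [])
  , ([(1, [3, 3, 0, 3, 0, 2, 0, 2, 0, 2, 0, 3, 1, 2], 0), (1, [3, 0, 3, 0, 2, 0, 3, 3, 0, 3, 0, 2, 1, 2], 0), (1, [3], 0)], [])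
  , ([(1, [0, 2, 0, 3, 0, 2, 2, 0, 2, 0, 3, 1, 2], 0), (1, [2, 0, 2, 0, 3, 0, 3, 0, 3, 0, 2, 1, 2], 0), (1, [2, 2], 0)], [])]

/-- Walks of relation 8. -/
def cert8 : List (List StepCert × List (ℕ × Bool)) :=
  [([(103, [0, 2, 0, 3, 3, 0, 3, 0, 3, 0, 2, 0, 2, 0, 3, 0, 3, 1], 0), (19, [0, 2, 2, 0, 2, 2, 0, 2, 0, 2, 2, 2, 0, 3, 0, 2, 2, 1], 0), (38, [3, 3, 0, 2, 2, 1, 3, 3], 0)], [(1, true), (1, true), (0, false), (1, false), (1, false), (0, false), (1, true), (1, true)])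
  , ([(103, [0, 2, 0, 3, 3, 0, 3, 0, 3, 0, 2, 0, 2, 0, 3, 0, 3, 1], 0), (30, [0, 3, 0, 2, 2, 0, 3, 3, 0, 3, 0, 2, 2, 0, 2, 0, 3, 1], 0), (0, [0, 2, 0, 2, 0, 2, 2, 0, 3, 3, 0, 3, 3, 0, 2, 0, 2, 2, 0, 3, 3], 0)], [(0, true), (1, false), (1, false), (0, true), (0, true), (0, true), (1, true), (0, false), (1, false)])
  , ([(51, [0, 2, 0, 3, 3, 0, 3, 0, 3, 0, 2, 0, 2, 0, 3, 0, 3, 1], 0), (111, [2, 0, 2, 0, 3, 0, 3, 0, 3, 0, 2, 0, 3, 3, 0, 3, 0, 2, 0, 2, 0], 0), (175, [3, 3, 0, 3, 3, 0, 2, 0, 2, 2, 0, 3, 3, 0, 3, 3, 0, 2, 0, 2, 2, 0, 3, 0, 3], 0)], [(0, true), (0, true), (0, true), (1, false), (0, true), (0, true)])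
  , ([(109, [0, 3, 0, 2, 2, 0, 2, 2, 0, 3, 0, 3, 0, 3, 3, 0, 2], 0), (162, [0, 2, 2, 0, 2, 2, 0, 3, 0, 2, 2, 2, 0, 2, 0, 3, 0, 3, 0, 3, 3, 0, 2, 2], 0), (13, [3, 0, 3, 0, 2, 2, 0, 2, 0, 3, 0, 3, 0, 2, 0, 2, 0], 0)], [(0, true), (1, false), (1, false), (0, false), (0, false), (0, false), (1, false), (1, false), (0, false)])
  , ([(152, [3, 0, 2, 0, 3, 3, 0, 2, 2, 0, 2, 2, 0, 2, 0, 3, 3, 0], 0), (173, [3, 0, 3, 0, 2, 0, 2, 0, 3, 0, 2, 2, 2, 0, 3, 3, 0, 3, 0, 3, 1, 3], 0), (2, [2, 0, 2, 2, 0, 2, 0, 3, 0, 3, 0, 3, 3, 0, 2, 2, 0, 3, 0], 0)], [])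
  , ([(12, [0, 3, 0, 2, 2, 0, 2, 2, 0, 3, 0, 3, 0, 3, 3, 0, 2], 0), (144, [3, 3, 0, 2, 0, 2, 0, 3, 0, 3, 0, 3, 3, 0, 3, 3, 1, 2, 2, 2], 0), (51, [2, 2, 0, 2, 2, 0, 3, 3, 0, 3, 3, 0, 3, 3, 0, 3, 3, 0, 2, 2, 0], 0)], [(0, true), (1, false), (0, true), (0, true), (0, true), (1, false), (0, true), (0, true), (1, false), (1, false)])]

/-- Walks of relation 9. -/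
def cert9 : List (List StepCert × List (ℕ × Bool)) :=
  [([(0, [0, 2, 0, 2, 2, 0, 2, 0, 2, 0, 3, 3, 0, 3, 3, 0, 3, 0], 0), (0, [0, 2, 0, 2, 2, 0, 2, 2, 0, 3, 0, 3, 0, 3, 3, 0, 3, 0], 0), (0, [], 0)], [])
  , ([(0, [0, 2, 0, 2, 2, 0, 2, 0, 2, 0, 3, 3, 0, 3, 3, 0, 3, 0], 0), (0, [0, 2, 0, 2, 2, 0, 2, 2, 0, 3, 0, 3, 0, 3, 3, 0, 3, 0], 0), (0, [], 0)], [])
  , ([(1, [0, 2, 0, 2, 2, 0, 2, 0, 2, 0, 3, 3, 0, 3, 3, 0, 3, 0], 0), (1, [0, 2, 0, 2, 2, 0, 2, 2, 0, 3, 0, 3, 0, 3, 3, 0, 3, 0], 0), (1, [], 0)], [])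
  , ([(1, [0, 2, 0, 3, 0, 3, 0, 2, 0, 2, 0, 2, 2, 0, 3, 0, 2, 2], 0), (1, [0, 3, 0, 2, 2, 0, 2, 0, 2, 0, 2, 2, 0, 2, 0, 3, 0, 2], 0), (1, [2], 0)], [])
  , ([(1, [3, 0, 2, 0, 2, 2, 0, 2, 0, 2, 0, 3, 3, 0, 3, 3, 0, 3, 0], 0), (1, [0, 3, 0, 2, 2, 0, 2, 0, 2, 0, 2, 2, 2, 0, 2, 2, 0, 3, 0], 0), (1, [3], 0)], [])
  , ([(1, [2, 0, 2, 0, 3, 0, 3, 0, 2, 0, 2, 0, 2, 2, 0, 3, 0, 2, 2], 0), (1, [0, 2, 0, 2, 2, 0, 2, 2, 0, 3, 0, 3, 0, 2, 0, 2, 0], 0), (1, [2, 2], 0)], [])]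

/-- Walks of relation 10. -/
def cert10 : List (List StepCert × List (ℕ × Bool)) :=
  [([(0, [0, 2, 2, 0, 2, 0, 3, 0, 2, 2, 0, 2, 0, 3, 0, 2, 2, 2, 0, 3, 3], 0), (0, [2, 0, 2, 2, 2, 1, 3], 0), (0, [0, 3, 0, 3, 0, 2, 2, 0, 2, 0, 3, 0, 3, 0, 2, 2, 0], 0), (0, [], 0)], [])
  , ([(0, [0, 2, 2, 0, 2, 0, 3, 0, 2, 2, 0, 2, 0, 3, 0, 2, 2, 2, 0, 3, 3], 0), (0, [2, 0, 2, 2, 2, 1, 3], 0), (0, [0, 3, 0, 3, 0, 2, 2, 0, 2, 0, 3, 0, 3, 0, 2, 2, 0], 0), (0, [], 0)], [])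
  , ([(1, [0, 2, 2, 0, 2, 0, 3, 0, 2, 2, 0, 2, 0, 3, 0, 2, 2, 2, 0, 3, 3], 0), (1, [2, 0, 2, 2, 2, 1, 3], 0), (1, [0, 3, 0, 3, 0, 2, 2, 0, 2, 0, 3, 0, 3, 0, 2, 2, 0], 0), (1, [], 0)], [])
  , ([(1, [0, 2, 0, 3, 3, 0, 2, 2, 0, 2, 0, 2, 2, 0, 3, 3, 0, 2, 0, 2], 0), (1, [2, 2, 0, 2, 2, 2, 1, 3], 0), (1, [2, 0, 3, 0, 3, 0, 2, 2, 0, 2, 0, 3, 0, 3, 0, 2, 2, 0], 0), (1, [2], 0)], [])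
  , ([(1, [0, 2, 0, 3, 3, 0, 2, 2, 0, 2, 0, 2, 2, 0, 3, 3, 0, 2, 0, 3], 0), (1, [0, 2, 2, 2, 1, 3], 0), (1, [3, 0, 3, 0, 3, 0, 2, 2, 0, 2, 0, 3, 0, 3, 0, 2, 2, 0], 0), (1, [3], 0)], [])
  , ([(1, [0, 2, 2, 0, 2, 0, 3, 0, 2, 2, 0, 2, 0, 3, 0, 2, 2, 2, 0], 0), (1, [2, 2, 2, 0, 2, 2, 2, 1, 3], 0), (1, [0, 2, 2, 0, 3, 0, 3, 0, 2, 0, 2, 2, 0, 3, 0, 3, 0, 2, 2], 0), (1, [2, 2], 0)], [])]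

/-- Walks of relation 11. -/
def cert11 : List (List StepCert × List (ℕ × Bool)) :=
  [([(0, [0, 2, 2, 0, 2, 0, 3, 0, 2, 2, 0, 2, 0, 3, 0, 2, 2, 2, 0, 3, 3], 0), (0, [2, 0, 2, 2, 0, 2, 2, 2, 0, 2, 0, 3, 0, 3, 3, 0, 2, 2, 0, 2, 0, 2, 2, 0, 3], 2), (186, [2, 2, 0, 2, 0, 2, 0, 3, 0, 3, 0, 3, 0, 2, 0, 3, 3, 0, 3, 0, 2, 1], 1), (0, [3, 0, 3, 0, 2, 0, 2, 0, 2, 2, 0, 3, 3, 0, 2, 0, 2, 2, 0, 3, 3, 0], 0), (0, [3, 3, 0, 3, 0, 3, 0, 2, 0, 3, 3, 0, 2, 2, 0, 2, 1, 3, 3], 0), (0, [0, 3, 0, 2, 2, 0, 3, 3, 0, 3, 3, 0, 3, 0, 3, 0, 3, 3, 1], 4), (0, [0, 3, 0, 3, 0, 2, 0, 2, 0, 2, 2, 2, 0, 3, 3, 0, 3, 1, 3], 4), (0, [0, 2, 2, 2, 0, 3, 0, 3, 3, 0, 3, 0, 2, 2, 0, 3, 0, 3, 3, 0, 3, 1, 3], 0)], [(0, false), (1, true), (2, false), (1,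 true), (1, true), (0, false), (2, false), (1, false), (2, false), (1, false), (1, false), (2, false), (1, false), (2, false), (0, false), (1, true), (1, true), (2, false), (1, false)])
  , ([(0, [0, 2, 2, 0, 2, 0, 3, 0, 2, 2, 0, 2, 0, 3, 0, 2, 2, 2, 0, 3, 3], 0), (0, [2, 0, 2, 2, 0, 2, 2, 2, 0, 2, 0, 3, 0, 3, 3, 0, 2, 2, 0, 2, 0, 2, 2, 0, 3], 2), (331, [3, 1], 1), (0, [2, 2, 2, 0, 2, 0, 2, 0, 3, 3, 0, 3, 0, 2, 2, 2], 0), (0, [0, 2, 0, 2, 0, 2, 2, 2, 0, 2, 2, 2, 0, 2, 0, 3, 1], 0), (0, [3, 3, 0, 3, 3, 0, 3, 0, 2, 2, 0, 3, 0, 2, 2, 2, 0, 3, 0, 3, 1, 2], 4), (0, [2, 2, 0, 2, 2, 2, 0, 2, 0, 2, 0, 2, 2, 0, 3, 3, 0, 2, 0, 3, 3, 0, 3], 1), (0, [0, 2, 0, 2, 0, 2, 2, 0, 3, 3, 0, 2, 2, 0, 2, 0, 2, 0, 2], 0)], [(0, true), (0,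 true), (0, true), (1, false), (0, false), (1, false), (0, true), (1, true), (0, false)])
  , ([(1, [0, 2, 2, 0, 2, 0, 3, 0, 2, 2, 0, 2, 0, 3, 0, 2, 2, 2, 0, 3, 3], 0), (1, [2, 0, 2, 2, 0, 2, 2, 2, 0, 2, 0, 3, 0, 3, 3, 0, 2, 2, 0, 2, 0, 2, 2, 0, 3], 2), (274, [0, 2, 2, 2, 0, 2, 0, 3, 0, 3, 0, 3, 3, 0, 2, 2, 1], 1), (91, [2, 0, 2, 0, 3, 3, 0, 2, 0, 2, 2, 0, 2, 0, 3, 0, 3, 0, 2, 0, 2, 2, 0, 3], 0), (1, [2, 2, 0, 2, 2, 0, 2, 0, 3, 3, 0, 2, 0, 2, 2, 2, 0, 2, 2, 2, 0], 0), (1, [3, 0, 2, 2, 0, 2, 0, 3, 3, 0, 3, 0, 2, 2, 0, 2, 2, 0, 3, 0, 3], 1), (35, [0, 2, 0, 3, 3, 0, 3, 0, 3, 0, 2, 1], 3), (1, [2, 0, 3, 0, 2, 2, 0, 2, 2, 2, 0, 3], 0)], [(1, true), (0, true), (1, false), (0, true), (0, true), (1, false), (1, false), (0,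 true), (0, true), (0, true), (1, false), (0, true), (1, true)])
  , ([(1, [0, 2, 0, 3, 3, 0, 2, 2, 0, 2, 0, 2, 2, 0, 3, 3, 0, 2, 0, 2], 0), (1, [3, 0, 2, 2, 0, 2, 0, 2, 2, 0, 3, 0, 3, 3, 0, 3, 0, 3, 3, 0, 2, 2, 0, 2, 2], 2), (149, [0, 3, 0, 2, 2, 0, 2, 0, 3, 0, 3, 0, 3, 3, 0, 2, 2, 2, 0, 3, 1], 2), (30, [2, 0, 3, 0, 3, 0, 2, 0, 2, 2, 0, 3, 0, 3, 3, 0, 3, 0, 3, 3, 0, 2, 0, 3], 0), (30, [2, 2, 2, 0, 2, 2, 0, 3, 0, 2, 2, 0, 3, 0, 3, 0, 3], 0), (30, [2, 0, 2, 0, 2, 0, 2, 2, 2, 0, 3, 0, 2, 2, 0, 2, 2, 2, 0, 3], 3), (35, [0, 2, 0, 3, 3, 0, 3, 0, 3, 3, 0, 2, 2, 0, 3, 3, 0, 3, 0, 2, 2], 3), (1, [0, 2, 0, 2, 0, 3, 0, 3, 3, 0, 3, 0, 2, 0, 2, 0, 3, 0, 3, 3, 1], 0)], [(0, false), (1, true), (0, false), (1, false), (0, true),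 (1, false), (1, false), (0, false), (1, false), (0, true), (1, true)])
  , ([(1, [0, 2, 0, 3, 3, 0, 2, 2, 0, 2, 0, 2, 2, 0, 3, 3, 0, 2, 0, 3], 0), (1, [0, 2, 2, 0, 2, 2, 2, 0, 2, 0, 3, 0, 3, 3, 0, 2, 2, 0, 2, 0, 2, 2, 0, 3], 2), (317, [2, 2, 0, 3, 0, 2, 2, 0, 2, 0, 2, 2, 0, 2, 0, 3, 0, 3], 4), (12, [3, 3, 0, 3, 3, 0, 3, 3, 0, 2, 2, 0, 3, 3, 0, 3, 0, 3, 0, 3, 3, 1, 3], 0), (12, [2, 2, 0, 2, 0, 3, 3, 0, 3, 0, 2, 2, 0, 2, 2, 0, 3, 3, 0, 2, 2, 1], 0), (12, [2, 0, 2, 0, 3, 0, 3, 0, 3, 0, 2, 2, 0, 3, 0, 2, 2, 0, 2, 1], 1), (35, [0, 2, 0, 3, 3, 0, 3, 0, 3, 0, 3, 3, 0, 2, 2, 2, 0, 2, 0, 2, 0, 3, 1], 3), (1, [3, 0, 2, 2, 0, 2, 0, 3, 0, 2, 2, 0, 3, 0, 2, 2, 0, 2, 0, 3], 0)], [(0, true), (1, false), (0, true), (1, true), (0,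 true), (0, true), (1, false), (1, false), (0, true), (1, true), (0, false), (0, false), (0, false)])
  , ([(1, [0, 2, 2, 0, 2, 0, 3, 0, 2, 2, 0, 2, 0, 3, 0, 2, 2, 2, 0], 0), (1, [0, 2, 2, 0, 2, 0, 2, 2, 0, 3, 0, 3, 3, 0, 3, 0, 3, 3, 0, 2, 2, 0, 2, 2], 2), (259, [0, 2, 0, 2, 0, 2, 0, 3, 0, 3, 0, 2, 0, 3, 3, 0, 3, 0, 2], 1), (91, [0, 2, 2, 0, 2, 0, 3, 0, 2, 2, 0, 3, 0, 3, 0, 3, 1, 3, 3], 0), (1, [0, 2, 0, 2, 0, 2, 2, 2, 0, 3, 0, 3, 3, 0, 3, 3, 0, 2], 0), (1, [3, 3, 0, 3, 0, 2, 0, 2, 0, 2, 2, 0, 3, 3, 1], 1), (35, [3, 0, 2, 0, 2, 2, 2, 0, 2, 0, 2, 0, 2, 2, 1], 3), (1, [3, 0, 2, 0, 3, 3, 0, 2, 0, 2, 2, 0, 2, 2, 2, 1, 3], 0)], [(1, false), (1, false), (0, false), (0, false), (0, false), (1, true), (0, false), (1, false),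 (0, true), (1, false), (0, false), (0, false), (0, false)])]

/-- Walks of relation 12. -/
def cert12 : List (List StepCert × List (ℕ × Bool)) :=
  [([(0, [0, 2, 2, 0, 2, 0, 3, 0, 2, 2, 0, 2, 0, 3, 0, 2, 2, 2, 0, 3, 3], 0), (5, [2, 0, 2, 0, 2, 2, 0, 3, 3, 0, 2, 2, 0, 2, 2, 0, 3, 0, 3, 0], 1), (103, [0, 3, 0, 3, 0, 3, 3, 0, 2, 0, 2, 2, 0, 2, 0, 3, 0, 3, 0, 3, 3, 0, 3, 3, 1], 1), (76, [3, 0, 3, 0, 3, 3, 0, 3, 0, 2, 2, 0, 2, 0, 3, 0, 3, 0, 2, 1, 3, 3], 0), (0, [3, 0, 3, 0, 3, 0, 2, 0, 3, 3, 0, 3, 0, 2, 0, 2, 0, 2], 0), (111, [2, 2, 0, 3, 0, 3, 0, 2, 1], 4), (0, [3, 0, 3, 0, 3, 0, 3, 3, 1], 4), (240, [2, 2, 2, 0, 3, 3, 0, 3, 0, 3, 0, 2, 0, 2, 0, 2, 0, 3, 0, 3, 3], 0)], [(1, false), (1, false), (0, false), (1, false),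 (0, false), (1, false), (1, false), (0, false), (1, true), (1, true), (0, true), (1, true), (0, false), (1, false), (1, false), (1, false), (0, false), (1, true), (1, true)])
  , ([(0, [0, 2, 2, 0, 2, 0, 3, 0, 2, 2, 0, 2, 0, 3, 0, 2, 2, 2, 0, 3, 3], 0), (5, [2, 0, 2, 0, 2, 2, 0, 3, 3, 0, 2, 2, 0, 2, 2, 0, 3, 0, 3, 0], 1), (8, [0, 3, 3, 0, 3, 0, 3, 0, 3, 3, 0, 2, 2, 0, 2, 0, 3, 3, 0, 2, 0, 3, 3, 1], 1), (0, [2, 0, 3, 0, 2, 2, 0, 3, 0, 2, 2, 0, 2, 2, 0, 3, 0, 2, 2, 0], 0), (0, [0, 3, 3, 0, 3, 3, 0, 3, 0, 2, 2, 2, 0, 2, 1], 0), (1, [2, 0, 2, 0, 2, 0, 3, 0, 2, 2, 0, 3, 1, 3], 1), (5, [3, 0, 2, 0, 2, 2, 0, 2, 0, 3, 3, 0, 3, 0, 3, 0, 2, 2, 0, 2], 1), (0, [0, 2, 0, 3, 3, 0, 3, 3, 0, 2, 2, 0, 2, 2, 0, 3, 0, 2, 2, 0], 0)],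 [(1, false), (0, false), (1, true), (0, true), (1, false), (0, true), (1, false), (0, true), (0, true), (1, true)])
  , ([(1, [0, 2, 2, 0, 2, 0, 3, 0, 2, 2, 0, 2, 0, 3, 0, 2, 2, 2, 0, 3, 3], 0), (14, [2, 0, 2, 0, 2, 2, 0, 3, 3, 0, 2, 2, 0, 2, 2, 0, 3, 0, 3, 0], 4), (94, [0, 2, 0, 2, 2, 2, 0, 2, 2, 0, 3, 0, 3, 3, 0, 3, 0, 3, 3, 1, 2], 3), (74, [0, 2, 0, 3, 0, 3, 3, 0, 3, 3, 0, 2, 2, 0, 2, 0, 2, 0, 3, 0, 3, 0], 0), (35, [2, 2, 0, 2, 2, 0, 2, 2, 0, 2, 0, 3, 3, 0, 2, 0, 2, 2, 2, 0, 2, 0], 0), (96, [3, 3, 0, 3, 0, 2, 2, 0, 3, 0, 3, 3, 0, 2, 0, 3, 3, 0, 3], 2), (3, [2, 2, 0, 2, 2, 0, 3, 3, 0, 2, 2, 0, 2, 0, 3, 3, 0, 3, 3, 0, 3, 3], 4), (287, [0, 3, 0, 2, 2, 0, 2, 0, 2, 0, 3, 0, 2, 2, 0, 2, 2, 0, 3, 0], 0)], [(0, false),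 (0, false), (0, false), (1, true), (0, false), (0, false), (1, true), (0, false), (1, true), (0, false), (0, false), (1, true)])
  , ([(1, [0, 2, 0, 3, 3, 0, 2, 2, 0, 2, 0, 2, 2, 0, 3, 3, 0, 2, 0, 2], 0), (6, [2, 0, 2, 0, 2, 2, 0, 3, 3, 0, 2, 2, 0, 2, 2, 0, 3, 0, 3, 0], 1), (103, [0, 3, 0, 3, 0, 3, 3, 0, 2, 0, 2, 2, 0, 2, 0, 3, 0, 3, 0, 3, 3, 0, 3, 3, 1], 1), (3, [0, 2, 2, 0, 2, 0, 2, 0, 2, 2, 0, 2, 2, 0, 2, 2, 0, 3, 1, 3, 3], 0), (0, [0, 3, 3, 0, 2, 0, 3, 3, 0, 3, 3, 0, 2, 2, 1], 0), (50, [2, 0, 3, 3, 0, 2, 2, 2, 0, 3, 0, 3, 3, 0, 3, 0, 3, 3], 4), (4, [0, 3, 3, 0, 2, 0, 2, 0, 3, 0, 3, 0, 2, 2, 2, 0, 3, 3], 4), (287, [2, 0, 2, 2, 0, 2, 2, 0, 2, 0, 2, 2, 0, 3, 3, 0, 3, 3, 1], 0)], [(0, false), (0, false), (1, true),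 (0, false), (1, false), (1, false), (0, false), (0, false)])
  , ([(1, [0, 2, 0, 3, 3, 0, 2, 2, 0, 2, 0, 2, 2, 0, 3, 3, 0, 2, 0, 3], 0), (28, [2, 0, 2, 0, 2, 2, 0, 3, 3, 0, 2, 2, 0, 2, 2, 0, 3, 0, 3, 0], 1), (38, [0, 2, 2, 2, 0, 3, 3, 0, 2, 0, 2, 2, 0, 2, 0, 2, 2, 0, 3, 0, 3, 3, 0], 2), (12, [2, 0, 3, 0, 2, 2, 0, 2, 2, 0, 3, 3, 0, 3, 0, 2, 2, 0, 2, 2, 2, 1], 0), (12, [3, 0, 2, 0, 2, 2, 0, 2, 0, 3, 0, 3, 0, 3, 3, 0, 2, 2, 1, 3], 0), (30, [0, 2, 0, 2, 0, 3, 0, 3, 3, 0, 2, 0, 2, 0, 2, 0, 3, 1, 3], 3), (3, [2, 2, 0, 2, 0, 2, 2, 0, 2, 0, 3, 0, 3, 0, 3, 0, 2, 0, 2, 1, 2], 4), (148, [0, 2, 0, 2, 0, 3, 0, 3, 0, 2, 0, 3, 3, 0, 2, 2, 0, 2, 0, 3, 3, 0, 2], 0)], [(0, false), (0, false), (1, true), (0, false), (1, false), (0,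 true), (1, false), (0, true), (1, true), (0, false), (1, false)])
  , ([(1, [0, 2, 2, 0, 2, 0, 3, 0, 2, 2, 0, 2, 0, 3, 0, 2, 2, 2, 0], 0), (0, [2, 0, 2, 0, 2, 2, 0, 3, 3, 0, 2, 2, 0, 2, 2, 0, 3, 0, 3, 0], 1), (326, [3, 3, 0, 3, 3, 0, 2, 2, 0, 2, 2, 0, 2, 2, 0, 3, 0, 3, 3, 0], 3), (86, [3, 3, 0, 2, 0, 2, 2, 0, 2, 0, 2, 0, 2, 2, 2, 1, 2, 2, 2], 0), (35, [2, 2, 2, 0, 3, 3, 0, 3, 0, 3, 0, 3, 3, 0, 3, 3, 0, 2], 0), (20, [2, 2, 0, 2, 0, 2, 2, 0, 3, 3, 0, 2, 2, 0, 3, 3, 0, 3, 1, 2], 3), (0, [3, 0, 3, 3, 0, 3, 3, 0, 2, 0, 3, 3, 0, 2, 2, 2], 2), (24, [0, 2, 2, 2, 0, 3, 3, 0, 3, 3, 0, 3, 3, 0, 3, 0, 3, 0, 3], 0)], [(0, true), (0, true), (1, false), (0, true), (0, true), (0, true), (1, true), (0, true), (0, true), (0, true),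 (1, true), (0, false), (1, false)])]

/-- Walks of relation 13. -/
def cert13 : List (List StepCert × List (ℕ × Bool)) :=
  [([(0, [0, 2, 2, 0, 2, 0, 3, 0, 2, 2, 0, 2, 0, 3, 0, 2, 2, 2, 0, 3, 3], 0), (0, [2, 0, 2, 2, 0, 2, 2, 2, 0, 2, 0, 3, 0, 3, 3, 0, 2, 2, 0, 2, 0, 2, 2, 1, 3], 3), (186, [2, 2, 0, 2, 0, 2, 0, 3, 0, 3, 0, 3, 0, 2, 0, 3, 3, 0, 3, 0, 2, 1], 1), (0, [3, 0, 3, 0, 2, 0, 2, 0, 2, 2, 0, 3, 3, 0, 2, 0, 2, 2, 0, 3, 3, 1], 0), (0, [3, 3, 0, 3, 0, 3, 0, 2, 0, 3, 3, 0, 2, 2, 0, 2, 0, 3, 3], 0), (0, [0, 3, 0, 2, 2, 0, 3, 3, 0, 3, 3, 0, 3, 0, 3, 0, 3, 3, 1], 4), (0, [0, 3, 0, 3, 0, 2, 0, 2, 0, 2, 2, 2, 0, 3, 3, 0, 3, 1, 3], 4), (0, [0, 2, 2, 2, 0, 3, 0, 3, 3, 0, 3, 0, 2, 2, 0, 3, 0, 3, 3, 0, 3, 0, 3], 0)], [(0,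 false), (1, true), (2, false), (1, true), (1, true), (2, false), (0, false), (1, false), (2, false), (1, false), (1, false), (2, false), (1, false), (2, false), (0, false), (1, true), (1, true), (2, false), (1, false)])
  , ([(0, [0, 2, 2, 0, 2, 0, 3, 0, 2, 2, 0, 2, 0, 3, 0, 2, 2, 2, 0, 3, 3], 0), (0, [2, 0, 2, 2, 0, 2, 2, 2, 0, 2, 0, 3, 0, 3, 3, 0, 2, 2, 0, 2, 0, 2, 2, 1, 3], 3), (38, [0, 3, 0, 3, 0, 3, 0, 2, 0, 3, 3, 0, 2, 2, 0, 2, 0, 3, 0, 2, 2, 0], 3), (303, [0, 2, 0, 2, 0, 3, 3, 0, 2, 0, 2, 2, 0, 3, 3, 0, 3, 0, 2, 2, 0, 2, 2], 0), (303, [0, 2, 0, 3, 0, 3, 3, 0, 2, 2, 0, 2, 2, 0, 2, 2, 0, 3, 0, 3, 0, 3], 0), (303, [2, 2, 0, 2, 0, 3, 3, 0, 3, 3, 0, 2, 2, 0, 2, 2, 1, 2, 2, 2], 3), (0, [0, 2, 2, 0, 3, 3, 0, 2, 2,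 0, 2, 0, 2, 0, 2, 2, 0, 2, 2, 2, 0, 2, 1, 3], 3), (0, [0, 2, 0, 2, 2, 0, 3, 0, 3, 0, 2, 0, 2, 2, 2, 0, 2, 0, 3], 0)], [(0, false), (1, false), (0, true), (1, false)])
  , ([(1, [0, 2, 2, 0, 2, 0, 3, 0, 2, 2, 0, 2, 0, 3, 0, 2, 2, 2, 0, 3, 3], 0), (1, [2, 0, 2, 2, 0, 2, 2, 2, 0, 2, 0, 3, 0, 3, 3, 0, 2, 2, 0, 2, 0, 2, 2, 1, 3], 3), (238, [0, 3, 0, 2, 2, 0, 2, 0, 2, 2, 0, 2, 0, 3, 3, 0, 3, 1, 3], 4), (285, [3, 0, 3, 0, 3, 3, 0, 3, 3, 0, 3, 0, 2, 2, 0, 3, 0, 2, 2, 0], 0), (285, [0, 3, 0, 2, 2, 0, 2, 0, 3, 0, 3, 0, 3, 3, 0, 2, 0, 3], 0), (285, [0, 2, 0, 2, 2, 0, 2, 0, 3, 0, 2, 2, 0, 2, 2, 0, 2, 2, 0, 3, 3, 1, 3], 4), (101, [3, 0, 3, 0, 2, 0, 2, 2, 2, 0, 3, 0, 3, 0, 2, 2, 2, 0, 2, 1, 2], 1), (1, [3, 0, 3, 0, 2, 2, 0, 2,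 0, 2, 2, 0, 2, 0, 3, 3, 0, 3, 0, 2, 0, 2, 1, 2], 0)], [(0, false), (1, false), (1, false), (0, false), (1, true), (0, true), (0, true), (1, true), (0, true), (0, true), (1, true), (0, false), (0, false), (0, false)])
  , ([(1, [0, 2, 0, 3, 3, 0, 2, 2, 0, 2, 0, 2, 2, 0, 3, 3, 0, 2, 0, 2], 0), (1, [3, 0, 2, 2, 0, 2, 0, 2, 2, 0, 3, 0, 3, 3, 0, 3, 0, 3, 3, 0, 2, 2, 1, 2, 2], 3), (137, [2, 0, 2, 0, 2, 2, 0, 2, 0, 2, 0, 3, 0, 3, 0, 2, 2, 0, 3, 0, 2, 2], 2), (219, [0, 3, 0, 2, 2, 2, 0, 2, 0, 3, 0, 3, 3, 0, 2, 2, 0, 2, 1, 2], 0), (219, [0, 2, 0, 2, 2, 2, 0, 2, 0, 2, 0, 3, 0, 3, 0, 2, 0, 2, 2, 0, 2, 0, 2], 0), (219, [3, 3, 0, 2, 0, 2, 2, 2, 0, 3, 0, 2, 2, 0, 3, 3], 3), (205, [2, 2, 0, 2, 0, 3, 3, 0, 3, 3, 0, 3, 0, 3, 0, 2,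 0, 2, 2, 0, 2, 1, 2, 2], 1), (1, [0, 3, 0, 2, 2, 2, 0, 2, 0, 2, 0, 3, 0, 2, 2, 0, 2, 2, 2, 0], 0)], [(0, true), (0, true), (1, false), (1, false), (0, false), (1, true), (0, true), (1, true)])
  , ([(1, [0, 2, 0, 3, 3, 0, 2, 2, 0, 2, 0, 2, 2, 0, 3, 3, 0, 2, 0, 3], 0), (1, [0, 2, 2, 0, 2, 2, 2, 0, 2, 0, 3, 0, 3, 3, 0, 2, 2, 0, 2, 0, 2, 2, 1, 3], 3), (232, [0, 2, 2, 2, 0, 3, 0, 2, 2, 0, 2, 0, 2, 2, 0, 2, 0, 3, 0, 2], 1), (285, [3, 0, 3, 3, 0, 2, 0, 3, 3, 0, 2, 0, 2, 0, 2, 0, 3, 0, 2, 2, 2], 0), (285, [3, 3, 0, 2, 0, 2, 2, 0, 3, 3, 0, 2, 2, 0, 2, 2, 0, 2, 0, 3, 3, 0, 2], 0), (285, [0, 3, 0, 2, 2, 0, 2, 2, 0, 2, 2, 0, 2, 0, 2, 0, 2], 4), (101, [2, 2, 2, 0, 2, 0, 2, 2, 2, 0, 3, 0, 3, 0, 2, 2, 2, 0, 2, 0, 2, 2, 2, 0],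 4), (1, [0, 3, 0, 3, 3, 0, 3, 0, 2, 0, 2, 0, 2, 2, 0, 3, 0, 3], 0)], [(1, false), (1, false), (0, true), (1, true), (0, true), (0, true), (1, false), (0, false), (0, false), (1, true), (0, true), (1, false)])
  , ([(1, [0, 2, 2, 0, 2, 0, 3, 0, 2, 2, 0, 2, 0, 3, 0, 2, 2, 2, 0], 0), (1, [0, 2, 2, 0, 2, 0, 2, 2, 0, 3, 0, 3, 3, 0, 3, 0, 3, 3, 0, 2, 2, 1, 2, 2], 3), (306, [3, 3, 0, 2, 2, 2, 0, 2, 0, 3, 0, 3, 3, 0, 2, 1], 4), (285, [3, 0, 2, 0, 2, 0, 3, 0, 3, 0, 2, 0, 2, 2, 0, 3, 0, 3, 3], 0), (285, [3, 3, 0, 2, 0, 2, 0, 3, 0, 2, 2, 0, 2, 0, 3, 3, 0, 3, 0, 3], 0), (285, [3, 0, 2, 2, 0, 2, 0, 3, 3, 0, 3, 0, 2, 0, 2, 0], 4), (101, [3, 0, 3, 0, 2, 0, 2, 0, 3, 0, 2, 2, 2, 0, 3, 3, 0, 2, 1, 3, 3], 1), (1, [3, 0, 3, 0, 2, 2,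 0, 2, 0, 3, 3, 0, 2, 0, 2, 2, 0, 3, 3, 0, 2, 2, 2], 0)], [(0, false), (0, false), (0, false), (1, false), (0, false), (0, false), (1, false), (0, false), (0, false), (0, false), (1, true), (0, false), (1, false), (0, false)])]

/-- Walks of relation 14. -/
def cert14 : List (List StepCert × List (ℕ × Bool)) :=
  [([(0, [0, 2, 2, 0, 2, 0, 3, 0, 2, 2, 0, 2, 0, 3, 0, 2, 2, 2, 0, 3, 3], 0), (0, [0, 2, 0, 2, 2, 2, 0, 2, 0, 3, 0, 3, 0, 2, 2, 2, 0, 3, 0, 2], 0), (0, [3, 0, 3, 0, 2, 0, 2, 0, 3, 0, 3, 0, 3, 3, 0, 2, 0], 0), (0, [], 0)], [])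
  , ([(0, [0, 2, 2, 0, 2, 0, 3, 0, 2, 2, 0, 2, 0, 3, 0, 2, 2, 2, 0, 3, 3], 0), (0, [0, 2, 0, 2, 2, 2, 0, 2, 0, 3, 0, 3, 0, 2, 2, 2, 0, 3, 0, 2], 0), (0, [3, 0, 3, 0, 2, 0, 2, 0, 3, 0, 3, 0, 3, 3, 0, 2, 0], 0), (0, [], 0)], [])
  , ([(1, [0, 2, 2, 0, 2, 0, 3, 0, 2, 2, 0, 2, 0, 3, 0, 2, 2, 2, 0, 3, 3], 0), (1, [0, 2, 0, 2, 2, 2, 0, 2, 0, 3, 0, 3, 0, 2, 2, 2, 0, 3, 0, 2], 0), (1, [3, 0, 3, 0, 2, 0, 2, 0, 3, 0, 3, 0, 3, 3, 0, 2, 0], 0), (1, [], 0)], [])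
  , ([(1, [0, 2, 0, 3, 3, 0, 2, 2, 0, 2, 0, 2, 2, 0, 3, 3, 0, 2, 0, 2], 0), (1, [0, 2, 0, 2, 2, 2, 0, 2, 0, 2, 0, 3, 0, 2, 2, 2, 0, 3, 0], 0), (1, [0, 3, 0, 2, 0, 2, 0, 3, 0, 3, 0, 3, 3, 0, 2, 0], 0), (1, [2], 0)], [])
  , ([(1, [0, 2, 0, 3, 3, 0, 2, 2, 0, 2, 0, 2, 2, 0, 3, 3, 0, 2, 0, 3], 0), (1, [2, 0, 3, 0, 2, 2, 2, 0, 3, 0, 3, 3, 0, 3, 0, 2, 2, 2, 0, 3, 0], 0), (1, [3, 3, 0, 3, 0, 2, 0, 2, 0, 3, 0, 3, 0, 3, 3, 0, 2, 0], 0), (1, [3], 0)], [])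
  , ([(1, [0, 2, 2, 0, 2, 0, 3, 0, 2, 2, 0, 2, 0, 3, 0, 2, 2, 2, 0], 0), (1, [2, 0, 2, 0, 2, 2, 2, 0, 2, 0, 2, 0, 3, 0, 2, 2, 2, 0, 3, 0], 0), (1, [0, 2, 0, 2, 0, 3, 0, 3, 0, 2, 2, 0, 2, 2, 0, 2, 0], 0), (1, [2, 2], 0)], [])]

/-- Walks of relation 15. -/
def cert15 : List (List StepCert × List (ℕ × Bool)) :=
  [([(0, [0, 2, 2, 0, 2, 0, 3, 0, 2, 2, 0, 2, 0, 3, 0, 2, 2, 2, 0, 3, 3], 0), (5, [2, 0, 2, 0, 2, 2, 0, 3, 3, 0, 2, 2, 0, 2, 2, 0, 3, 0, 3, 1], 4), (103, [0, 3, 0, 3, 0, 3, 3, 0, 2, 0, 2, 2, 0, 2, 0, 3, 0, 3, 0, 3, 3, 0, 3, 3, 1], 1), (76, [3, 0, 3, 0, 3, 3, 0, 3, 0, 2, 2, 0, 2, 0, 3, 0, 3, 0, 2, 0, 3, 3], 0), (0, [3, 0, 3, 0, 3, 0, 2, 0, 3, 3, 0, 3, 0, 2, 0, 2, 1, 2], 0), (111, [2, 2, 0, 3, 0, 3, 0, 2, 1],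 4), (0, [3, 0, 3, 0, 3, 0, 3, 3, 1], 4), (240, [2, 2, 2, 0, 3, 3, 0, 3, 0, 3, 0, 2, 0, 2, 0, 2, 0, 3, 1, 3, 3], 0)], [(1, false), (1, false), (0, false), (1, false), (0, false), (1, false), (1, false), (0, false), (1, true), (1, true), (0, false), (1, true), (0, false), (1, false), (1, false), (1, false), (0, false), (1, true), (1, true)])
  , ([(0, [0, 2, 2, 0, 2, 0, 3, 0, 2, 2, 0, 2, 0, 3, 0, 2, 2, 2, 0, 3, 3], 0), (5, [2, 0, 2, 0, 2, 2, 0, 3, 3, 0, 2, 2, 0, 2, 2, 0, 3, 0, 3, 1], 4), (299, [3, 0, 2, 0, 2, 2, 0, 3, 0, 3, 3, 0, 3, 0, 3, 0, 3, 3, 0, 2, 2, 0, 2], 3), (303, [0, 3, 3, 0, 2, 0, 3, 3, 0, 2, 2, 2, 0, 3, 1], 0), (303, [2, 0, 3, 0, 2, 2, 0, 2, 0, 3, 0, 3, 0, 3, 0, 2, 0, 2], 0), (35, [2, 2, 0, 2, 2, 2, 0,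 3, 0, 2, 2, 0, 3, 0, 3, 3, 0, 3, 0, 3, 3, 1], 2), (35, [2, 0, 2, 2, 2, 0, 2, 0, 2, 0, 3, 0, 3, 0, 2, 2, 2, 0, 3, 3], 4), (0, [2, 2, 0, 2, 0, 2, 2, 0, 2, 0, 3, 0, 2, 2, 2, 1, 3, 3], 0)], [(0, true), (0, true), (0, true), (1, false), (1, false), (0, true), (0, true), (0, true)])
  , ([(1, [0, 2, 2, 0, 2, 0, 3, 0, 2, 2, 0, 2, 0, 3, 0, 2, 2, 2, 0, 3, 3], 0), (14, [2, 0, 2, 0, 2, 2, 0, 3, 3, 0, 2, 2, 0, 2, 2, 0, 3, 0, 3, 1], 1), (96, [0, 2, 2, 0, 2, 2, 0, 2, 0, 3, 0, 3, 1, 2], 4), (110, [3, 3, 0, 2, 2, 0, 3, 3, 0, 2, 2, 2, 0, 2, 0, 3, 3, 0, 2, 1, 2], 0), (1, [2, 2, 0, 3, 3, 0, 2, 2, 0, 2, 0, 2, 0, 3, 1, 3], 0), (241, [3, 0, 2, 2, 0, 2, 0, 3, 3, 0, 2, 0, 2, 2, 0, 2, 0, 2, 2, 0, 3, 1, 3], 1), (46, [3, 3, 0, 3, 0, 3, 3,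 0, 2, 0, 2, 2, 0, 2, 0, 2, 2, 0, 3, 1, 3, 3], 4), (7, [0, 2, 2, 2, 0, 3, 0, 2, 2, 0, 3, 0, 3, 3, 0, 3, 0, 2, 2, 0, 2, 2, 2, 1], 0)], [])
  , ([(1, [0, 2, 0, 3, 3, 0, 2, 2, 0, 2, 0, 2, 2, 0, 3, 3, 0, 2, 0, 2], 0), (6, [2, 0, 2, 0, 2, 2, 0, 3, 3, 0, 2, 2, 0, 2, 2, 0, 3, 0, 3, 1], 4), (346, [2, 2, 0, 3, 3, 0, 2, 0, 3, 3, 0, 3, 0, 2, 2, 0, 2, 2, 0, 2, 0, 3], 1), (1, [0, 2, 2, 0, 3, 0, 3, 0, 3, 3, 0, 2, 2, 0, 3, 0, 3, 3, 0], 0), (1, [2, 0, 2, 0, 2, 2, 0, 3, 3, 0, 2, 2, 0, 2, 0, 2, 2, 0, 2, 2, 2, 0, 2], 0), (0, [3, 0, 2, 2, 0, 3, 0, 3, 3, 1], 4), (171, [2, 0, 2, 2, 0, 3, 3, 0, 2, 0, 2, 2, 0, 3, 0, 2, 2, 0, 3, 0], 4), (240, [2, 0, 2, 2, 0, 2, 2, 0, 3, 3, 0, 2, 2, 0, 2, 0, 3, 3, 0, 3, 3, 0], 0)], [(1, false), (1, false),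 (0, false), (1, true), (0, true), (0, true), (1, false), (0, true), (1, false), (0, true), (0, true), (1, false), (0, false)])
  , ([(1, [0, 2, 0, 3, 3, 0, 2, 2, 0, 2, 0, 2, 2, 0, 3, 3, 0, 2, 0, 3], 0), (28, [2, 0, 2, 0, 2, 2, 0, 3, 3, 0, 2, 2, 0, 2, 2, 0, 3, 0, 3, 1], 4), (238, [3, 3, 0, 2, 0, 2, 2, 2, 0, 3, 0, 3, 0, 2, 0, 2, 2, 1], 1), (9, [2, 0, 2, 0, 2, 0, 3, 0, 2, 2, 2, 0, 3, 0, 2, 2, 0, 3, 1], 0), (9, [2, 0, 2, 2, 0, 3, 0, 3, 3, 0, 2, 0, 3, 3, 0, 2, 0, 2, 2, 1, 2, 2], 0), (91, [0, 2, 2, 0, 2, 2, 0, 3, 0, 3, 3, 0, 3, 0, 3, 3, 0, 2, 2, 0, 2, 1, 3], 1), (76, [2, 2, 0, 2, 0, 3, 0, 3, 0, 3, 0, 2, 0, 3, 3, 1, 2, 2], 4), (49, [3, 3, 0, 2, 2, 0, 3, 3, 1, 2, 2], 0)], [(1, true), (0, false), (1, true), (0, false), (1,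 true), (0, true), (1, false), (0, true), (0, true), (1, false), (0, false)])
  , ([(1, [0, 2, 2, 0, 2, 0, 3, 0, 2, 2, 0, 2, 0, 3, 0, 2, 2, 2, 0], 0), (0, [2, 0, 2, 0, 2, 2, 0, 3, 3, 0, 2, 2, 0, 2, 2, 0, 3, 0, 3, 1], 4), (103, [0, 3, 0, 3, 0, 3, 3, 0, 2, 0, 2, 2, 0, 2, 0, 3, 0, 3, 0, 3, 3, 0, 3, 3, 0], 2), (240, [3, 0, 3, 0, 2, 0, 2, 2, 0, 3, 0, 2, 2, 0, 3, 0, 3, 3, 0, 2, 0, 2, 2, 1, 3], 0), (1, [0, 3, 0, 2, 2, 0, 2, 0, 3, 0, 3, 3, 0, 2, 0, 3, 3, 0], 0), (0, [0, 3, 0, 3, 0, 2, 0, 2, 0, 2, 2, 0, 3, 0, 3, 0, 2, 0, 2, 2, 0, 2], 4), (14, [3, 0, 2, 2, 0, 2, 2, 2, 0, 2, 0, 3, 0, 3, 0, 2, 0, 2, 0, 2, 2], 1), (1, [2, 2, 0, 2, 0, 2, 0, 3, 0, 3, 0, 3, 0, 2, 0, 2, 2, 2, 0], 0)], [(1, false), (0, false), (1, true), (0, false),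 (0, false), (0, false), (1, true), (0, false), (1, false), (0, true), (1, true), (0, true)])]

/-- Walks of relation 16. -/
def cert16 : List (List StepCert × List (ℕ × Bool)) :=
  [([(0, [0, 2, 2, 0, 2, 0, 3, 0, 2, 2, 0, 2, 0, 3, 0, 2, 2, 2, 0, 3, 3], 0), (0, [0, 2, 0, 2, 2, 0, 2, 0, 3, 0, 3, 3, 0, 2, 0, 3, 3, 0, 2, 2], 0), (0, [0, 3, 0, 2, 0, 3, 3, 0, 3, 0, 2, 1, 2], 0), (0, [], 0)], [])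
  , ([(0, [0, 2, 2, 0, 2, 0, 3, 0, 2, 2, 0, 2, 0, 3, 0, 2, 2, 2, 0, 3, 3], 0), (0, [0, 2, 0, 2, 2, 0, 2, 0, 3, 0, 3, 3, 0, 2, 0, 3, 3, 0, 2, 2], 0), (0, [0, 3, 0, 2, 0, 3, 3, 0, 3, 0, 2, 1, 2], 0), (0, [], 0)], [])
  , ([(1, [0, 2, 2, 0, 2, 0, 3, 0, 2, 2, 0, 2, 0, 3, 0, 2, 2, 2, 0, 3, 3], 0), (1, [0, 2, 0, 2, 2, 0, 2, 0, 3, 0, 3, 3, 0, 2, 0, 3, 3, 0, 2, 2], 0), (1, [0, 3, 0, 2, 0, 3, 3, 0, 3, 0, 2, 1, 2], 0), (1, [], 0)], [])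
  , ([(1, [0, 2, 0, 3, 3, 0, 2, 2, 0, 2, 0, 2, 2, 0, 3, 3, 0, 2, 0, 2], 0), (1, [3, 0, 2, 2, 0, 3, 0, 2, 2, 0, 2, 0, 3, 0, 3, 3, 0, 3, 0], 0), (1, [0, 2, 0, 3, 0, 3, 0, 3, 0, 2, 1, 2], 0), (1, [2], 0)], [])
  , ([(1, [0, 2, 0, 3, 3, 0, 2, 2, 0, 2, 0, 2, 2, 0, 3, 3, 0, 2, 0, 3], 0), (1, [0, 2, 2, 2, 0, 3, 3, 0, 2, 0, 3, 3, 0, 3, 0, 2, 0, 2, 0], 0), (1, [3, 0, 3, 0, 2, 0, 3, 3, 0, 3, 0, 2, 1, 2], 0), (1, [3], 0)], [])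
  , ([(1, [0, 2, 2, 0, 2, 0, 3, 0, 2, 2, 0, 2, 0, 3, 0, 2, 2, 2, 0], 0), (1, [0, 2, 2, 0, 3, 0, 2, 2, 0, 2, 0, 3, 0, 3, 3, 0, 3, 0], 0), (1, [2, 0, 2, 0, 3, 0, 3, 0, 3, 0, 2, 1, 2], 0), (1, [2, 2], 0)], [])]

/-- Walks of relation 17. -/
def cert17 : List (List StepCert × List (ℕ × Bool)) :=
  [([(0, [0, 2, 2, 0, 2, 0, 3, 0, 2, 2, 0, 2, 0, 3, 0, 2, 2, 2, 0, 3, 3], 0), (38, [0, 2, 0, 2, 2, 0, 2, 0, 2, 2, 0, 3, 3, 0, 2, 2, 0, 2, 0, 2, 2, 1, 2], 0), (0, [0, 2, 0, 2, 2, 0, 2, 0, 2, 0, 3, 3, 0, 3, 3, 1, 2], 0), (14, [0], 0)], [(0, false)])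
  , ([(0, [0, 2, 2, 0, 2, 0, 3, 0, 2, 2, 0, 2, 0, 3, 0, 2, 2, 2, 0, 3, 3], 0), (38, [0, 2, 0, 2, 2, 0, 2, 0, 2, 2, 0, 3, 3, 0, 2, 2, 0, 2, 0, 2, 2, 1, 2], 0), (6, [0, 2, 0, 3, 3, 0, 2, 0, 2, 2, 0, 2, 0, 3, 0, 3, 0, 3, 0, 2, 1, 2], 0), (0, [0, 2, 0, 2, 2, 0, 3, 0, 3, 0, 2, 0, 2, 2, 2, 0, 2, 0, 3], 0)], [(0, false), (1, false), (0, true), (1, false)])
  , ([(1, [0, 2, 2, 0, 2, 0, 3, 0, 2, 2, 0, 2, 0, 3, 0, 2, 2, 2, 0, 3, 3], 0), (18, [0, 2, 0, 2, 2, 0, 2, 0, 2, 2, 0, 3, 3, 0, 2, 2, 0, 2, 0, 2, 2, 1, 2], 0), (1, [0, 2, 0, 2, 2, 0, 2, 0, 3, 0, 3, 0, 2, 0, 2, 2, 0, 3, 3, 0, 3, 1, 3], 0), (175, [3, 3, 0, 3, 3, 0, 2, 0, 2, 2, 0, 3, 3, 0, 3, 3, 0, 2, 0, 2, 2, 0, 3, 0, 3], 0)], [(0, true), (0, true), (0, true), (1, false),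 (0, true), (0, true)])
  , ([(1, [0, 2, 0, 3, 3, 0, 2, 2, 0, 2, 0, 2, 2, 0, 3, 3, 0, 2, 0, 2], 0), (152, [0, 2, 0, 2, 2, 0, 2, 0, 2, 2, 0, 3, 3, 0, 2, 2, 0, 2, 0, 2, 2, 1, 2], 0), (244, [0, 3, 0, 2, 2, 0, 2, 0, 3, 3, 0, 3, 3, 0, 2, 2], 0), (95, [0, 2, 0, 2, 0, 2, 2, 0, 2, 0, 3, 0, 3, 0, 3, 0, 2, 0, 2, 0, 3, 3], 0)], [(1, false), (1, false), (0, false), (1, false), (0, true), (1, true), (0, true), (0, true), (0, true)])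
  , ([(1, [0, 2, 0, 3, 3, 0, 2, 2, 0, 2, 0, 2, 2, 0, 3, 3, 0, 2, 0, 3], 0), (110, [2, 0, 2, 2, 0, 2, 0, 3, 0, 3, 3, 0, 2, 0, 3, 3, 0, 3, 3, 0, 3, 3, 1], 0), (1, [0, 2, 2, 2, 0, 2, 0, 3, 3, 0, 2, 0, 2, 2, 0, 2, 0, 2, 2, 1], 0), (173, [0, 3, 3, 0, 3, 0, 3, 3, 0, 2, 2, 0, 2, 0, 2, 0, 3, 0, 2, 2, 2, 0, 2], 0)], [(0, false), (0, false), (1, true), (0, false), (0, false), (0, false)])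
  , ([(1, [0, 2, 2, 0, 2, 0, 3, 0, 2, 2, 0, 2, 0, 3, 0, 2, 2, 2, 0], 0), (51, [2, 0, 2, 2, 2, 0, 3, 0, 3, 3, 0, 3, 0, 2, 2, 2, 0, 3, 0], 0), (1, [0, 2, 2, 2, 0, 2, 2, 0, 3, 0, 3, 3, 0, 3, 0, 2, 2, 0, 2, 2, 0, 3], 0), (37, [3, 0, 2, 0, 2, 0, 2, 0, 3, 0, 2, 2, 0, 2, 0, 3, 0, 2, 2, 2, 1], 0)], [(0, true), (0, true), (0, true), (1, false), (0, true), (0, true)])]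

/-- Walks of relation 18. -/
def cert18 : List (List StepCert × List (ℕ × Bool)) :=
  [([(0, [0, 2, 2, 0, 2, 0, 3, 0, 2, 2, 0, 2, 0, 3, 0, 2, 2, 2, 0, 3, 3], 0), (0, [2, 0, 2, 2, 0, 2, 0, 3, 0, 3, 3, 0, 2, 0, 3, 3, 0, 3, 3, 0, 3, 3], 0), (0, [0, 2, 0, 2, 2, 0, 2, 2, 0, 3, 0, 3, 0, 3, 3, 0, 3, 0], 0), (0, [], 0)], [])
  , ([(0, [0, 2, 2, 0, 2, 0, 3, 0, 2, 2, 0, 2, 0, 3, 0, 2, 2, 2, 0, 3, 3], 0), (0, [2, 0, 2, 2, 0, 2, 0, 3, 0, 3, 3, 0, 2, 0, 3, 3, 0, 3, 3, 0, 3, 3], 0), (0, [0, 2, 0, 2, 2, 0, 2, 2, 0, 3, 0, 3, 0, 3, 3, 0, 3, 0], 0), (0, [], 0)], [])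
  , ([(1, [0, 2, 2, 0, 2, 0, 3, 0, 2, 2, 0, 2, 0, 3, 0, 2, 2, 2, 0, 3, 3], 0), (1, [2, 0, 2, 2, 0, 2, 0, 3, 0, 3, 3, 0, 2, 0, 3, 3, 0, 3, 3, 0, 3, 3], 0), (1, [0, 2, 0, 2, 2, 0, 2, 2, 0, 3, 0, 3, 0, 3, 3, 0, 3, 0], 0), (1, [], 0)], [])
  , ([(1, [0, 2, 0, 3, 3, 0, 2, 2, 0, 2, 0, 2, 2, 0, 3, 3, 0, 2, 0, 2], 0), (1, [0, 3, 0, 2, 0, 2, 2, 0, 3, 0, 2, 2, 0, 2, 2, 2, 0, 2, 0, 3, 3], 0), (1, [0, 3, 0, 2, 2, 0, 2, 0, 2, 0, 2, 2, 0, 2, 0, 3, 0, 2], 0), (1, [2], 0)], [])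
  , ([(1, [0, 2, 0, 3, 3, 0, 2, 2, 0, 2, 0, 2, 2, 0, 3, 3, 0, 2, 0, 3], 0), (1, [0, 2, 2, 0, 2, 0, 3, 0, 3, 3, 0, 2, 0, 3, 3, 0, 3, 3, 0, 3, 3], 0), (1, [0, 3, 0, 2, 2, 0, 2, 0, 2, 0, 2, 2, 2, 0, 2, 2, 0, 3, 0], 0), (1, [3], 0)], [])
  , ([(1, [0, 2, 2, 0, 2, 0, 3, 0, 2, 2, 0, 2, 0, 3, 0, 2, 2, 2, 0], 0), (1, [0, 3, 3, 0, 2, 0, 3, 3, 0, 3, 0, 2, 0, 2, 2, 0, 2, 0, 3, 3], 0), (1, [0, 2, 0, 2, 2, 0, 2, 2, 0, 3, 0, 3, 0, 2, 0, 2, 0], 0), (1, [2, 2], 0)], [])]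

/-- Walks of relation 19. -/
def cert19 : List (List StepCert × List (ℕ × Bool)) :=
  [([(0, [0, 3, 3, 0, 2, 0, 2, 0, 3, 0, 3, 3, 0, 2, 0, 2, 0], 0), (0, [2, 0, 2, 2, 0, 3, 3, 0, 2, 2, 0, 2, 0, 2, 0, 3, 0, 2, 2, 2, 0, 3, 0, 3], 2), (186, [0, 2, 0, 2, 2, 0, 2, 0, 2, 2, 0, 2, 2, 0, 2, 2, 0, 3, 0, 2], 1), (0, [3, 3, 0, 3, 3, 0, 2, 2, 0, 3, 3, 0, 2, 2, 0, 2, 0, 2, 2, 1, 3, 3], 0), (0, [3, 3, 0, 3, 0, 3, 0, 2, 0, 3, 3, 0, 2, 2, 0, 2, 1, 3, 3], 0), (0, [0, 3, 0, 2, 2, 0, 3, 3, 0, 3, 3, 0, 3, 0, 3, 0, 3, 3, 1], 4), (0, [0, 3, 0, 3, 0, 2, 0, 2, 0, 2, 2, 2, 0, 3, 3, 0, 3, 1, 3], 4), (0, [0, 2, 2, 2, 0, 3, 0, 3, 3, 0, 3, 0, 2, 2, 0, 3, 0, 3, 3, 0, 3, 1, 3], 0)], [(0, false), (1, true), (2, false), (1, true), (1, true), (0,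 false), (2, false), (1, false), (2, false), (1, false), (1, false), (2, false), (1, false), (2, false), (0, false), (1, true), (1, true), (2, false), (1, false)])
  , ([(0, [0, 3, 3, 0, 2, 0, 2, 0, 3, 0, 3, 3, 0, 2, 0, 2, 0], 0), (0, [2, 0, 2, 2, 0, 3, 3, 0, 2, 2, 0, 2, 0, 2, 0, 3, 0, 2, 2, 2, 0, 3, 0, 3], 2), (331, [2, 2, 0, 2, 2, 0, 3, 0, 2, 2, 0, 2, 2, 1], 1), (0, [0, 2, 0, 3, 0, 2, 2, 0, 2, 0, 2, 2, 2, 0, 2, 2, 0, 2, 0, 2, 2, 0], 0), (0, [0, 2, 0, 2, 0, 2, 2, 2, 0, 2, 2, 2, 0, 2, 0, 3, 1], 0), (0, [3, 3, 0, 3, 3, 0, 3, 0, 2, 2, 0, 3, 0, 2, 2, 2, 0, 3, 0, 3, 1, 2], 4), (0, [2, 2, 0, 2, 2, 2, 0, 2, 0, 2, 0, 2, 2, 0, 3, 3, 0, 2, 0, 3, 3, 0, 3], 1), (0, [0, 2, 0, 2, 0, 2, 2, 0, 3, 3, 0, 2, 2, 0, 2, 0, 2, 0, 2], 0)],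 [(0, true), (0, true), (0, true), (1, false), (0, false), (1, false), (0, true), (1, true), (0, false)])
  , ([(1, [0, 3, 3, 0, 2, 0, 2, 0, 3, 0, 3, 3, 0, 2, 0, 2, 0], 0), (1, [2, 0, 2, 2, 0, 3, 3, 0, 2, 2, 0, 2, 0, 2, 0, 3, 0, 2, 2, 2, 0, 3, 0, 3], 2), (274, [0, 2, 2, 2, 0, 3, 0, 2, 2, 0, 3, 0, 3, 3, 0, 2, 0, 2, 2, 0, 2, 0, 3], 1), (91, [0, 2, 0, 3, 0, 3, 3, 0, 2, 2, 0, 3, 0, 3, 3, 0, 3, 1, 2, 2, 2], 0), (1, [2, 2, 0, 2, 2, 0, 2, 0, 3, 3, 0, 2, 0, 2, 2, 2, 0, 2, 2, 2, 0], 0), (1, [3, 0, 2, 2, 0, 2, 0, 3, 3, 0, 3, 0, 2, 2, 0, 2, 2, 0, 3, 0, 3], 1), (35, [0, 2, 0, 3, 3, 0, 3, 0, 3, 0, 2, 1], 3), (1, [2, 0, 3, 0, 2, 2, 0, 2, 2, 2, 0, 3], 0)], [(1, true), (0, true), (1, false), (0, true), (0, true), (1, false), (1,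 false), (0, true), (0, true), (0, true), (1, false), (0, true), (1, true)])
  , ([(1, [2, 0, 3, 3, 0, 2, 0, 2, 0, 3, 0, 3, 3, 0, 2, 0, 2, 0], 0), (1, [3, 0, 3, 0, 2, 2, 0, 3, 0, 2, 2, 0, 3, 0, 3, 3, 0, 2, 2, 0, 3, 3, 0], 2), (149, [0, 3, 0, 2, 2, 2, 0, 3, 0, 2, 2, 0, 3, 0, 2, 2, 0, 2, 0, 3, 1], 2), (30, [3, 0, 2, 2, 0, 3, 0, 2, 2, 0, 2, 0, 3, 0, 2, 2], 0), (30, [2, 2, 2, 0, 2, 2, 0, 3, 0, 2, 2, 0, 3, 0, 3, 0, 3], 0), (30, [2, 0, 2, 0, 2, 0, 2, 2, 2, 0, 3, 0, 2, 2, 0, 2, 2, 2, 0, 3], 3), (35, [0, 2, 0, 3, 3, 0, 3, 0, 3, 3, 0, 2, 2, 0, 3, 3, 0, 3, 0, 2, 2], 3), (1, [0, 2, 0, 2, 0, 3, 0, 3, 3, 0, 3, 0, 2, 0, 2, 0, 3, 0, 3, 3, 1], 0)], [(0, false), (1, true), (0, false), (1, false), (0, true), (1, false), (1, false),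 (0, false), (1, false), (0, true), (1, true)])
  , ([(1, [3, 0, 3, 3, 0, 2, 0, 2, 0, 3, 0, 3, 3, 0, 2, 0, 2, 0], 0), (1, [0, 2, 2, 0, 3, 3, 0, 2, 2, 0, 2, 0, 2, 0, 3, 0, 2, 2, 2, 0, 3, 0, 3], 2), (317, [0, 3, 0, 2, 2, 2, 0, 3, 0, 2, 2, 0, 2, 2, 2, 0, 2, 0], 4), (12, [0, 3, 3, 0, 2, 0, 2, 2, 2, 0, 3, 0, 3, 3, 0, 2, 0, 2, 2, 1, 3], 0), (12, [2, 2, 0, 2, 0, 3, 3, 0, 3, 0, 2, 2, 0, 2, 2, 0, 3, 3, 0, 2, 2, 1], 0), (12, [2, 0, 2, 0, 3, 0, 3, 0, 3, 0, 2, 2, 0, 3, 0, 2, 2, 0, 2, 1], 1), (35, [0, 2, 0, 3, 3, 0, 3, 0, 3, 0, 3, 3, 0, 2, 2, 2, 0, 2, 0, 2, 0, 3, 1], 3), (1, [3, 0, 2, 2, 0, 2, 0, 3, 0, 2, 2, 0, 3, 0, 2, 2, 0, 2, 0, 3], 0)], [(0, true), (1, false), (0, true), (1, true), (0, true), (0, true), (1, false), (1, false),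 (0, true), (1, true), (0, false), (0, false), (0, false)])
  , ([(1, [0, 2, 0, 2, 0, 3, 3, 0, 2, 0, 3, 3, 0, 2, 0, 2, 0], 0), (1, [0, 3, 0, 2, 2, 0, 3, 0, 2, 2, 0, 3, 0, 3, 3, 0, 2, 2, 0, 3, 3, 0], 2), (259, [2, 0, 2, 2, 0, 2, 2, 0, 2, 0, 2, 0, 2, 2, 0, 2, 2, 1, 2, 2], 1), (91, [0, 2, 2, 0, 2, 0, 2, 2, 0, 2, 0, 3, 3, 0, 2, 0, 3, 3, 1, 2, 2], 0), (1, [0, 2, 0, 2, 0, 2, 2, 2, 0, 3, 0, 3, 3, 0, 3, 3, 0, 2], 0), (1, [3, 3, 0, 3, 0, 2, 0, 2, 0, 2, 2, 0, 3, 3, 1], 1), (35, [3, 0, 2, 0, 2, 2, 2, 0, 2, 0, 2, 0, 2, 2, 1], 3), (1, [3, 0, 2, 0, 3, 3, 0, 2, 0, 2, 2, 0, 2, 2, 2, 1, 3], 0)], [(1, false), (1, false), (0, false), (0, false), (0, false), (1, true), (0, false), (1, false), (0, true), (1, false), (0, false), (0, false),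 (0, false)])]

/-- Walks of relation 20. -/
def cert20 : List (List StepCert × List (ℕ × Bool)) :=
  [([(0, [0, 3, 3, 0, 2, 0, 2, 0, 3, 0, 3, 3, 0, 2, 0, 2, 0], 0), (5, [3, 0, 3, 0, 3, 3, 0, 2, 2, 0, 2, 0, 2, 2, 0, 3, 3, 0, 3, 0, 2], 1), (103, [2, 0, 2, 0, 3, 3, 0, 3, 0, 3, 0, 2, 2, 0, 2, 0, 3, 3, 0, 2, 0, 2], 1), (76, [0, 3, 0, 3, 0, 2, 2, 0, 2, 0, 2, 2, 0, 2, 0, 3, 3, 0, 3, 1], 0), (0, [3, 0, 3, 0, 3, 0, 2, 0, 3, 3, 0, 3, 0, 2, 0, 2, 0, 2], 0), (111, [2, 2, 0, 3, 0, 3, 0, 2, 1], 4), (0, [3, 0, 3, 0, 3, 0, 3, 3, 1], 4), (240, [2, 2, 2, 0, 3, 3, 0, 3, 0, 3, 0, 2, 0, 2, 0, 2, 0, 3, 0, 3, 3], 0)], [(1, false), (1, false), (0, false), (1, false), (0, false), (1, false), (1, false), (0, false), (1, true), (1, true),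 (0, true), (1, true), (0, false), (1, false), (1, false), (1, false), (0, false), (1, true), (1, true)])
  , ([(0, [0, 3, 3, 0, 2, 0, 2, 0, 3, 0, 3, 3, 0, 2, 0, 2, 0], 0), (5, [3, 0, 3, 0, 3, 3, 0, 2, 2, 0, 2, 0, 2, 2, 0, 3, 3, 0, 3, 0, 2], 1), (8, [3, 3, 0, 3, 0, 2, 0, 2, 2, 0, 3, 3, 0, 2, 2, 1, 2, 2], 1), (0, [2, 0, 2, 0, 2, 2, 2, 0, 3, 3, 0, 3, 0, 2, 2, 0, 3, 0, 2, 2, 2, 0, 2], 0), (0, [0, 3, 3, 0, 3, 3, 0, 3, 0, 2, 2, 2, 0, 2, 1], 0), (1, [2, 0, 2, 0, 2, 0, 3, 0, 2, 2, 0, 3, 1, 3], 1), (5, [3, 0, 2, 0, 2, 2, 0, 2, 0, 3, 3, 0, 3, 0, 3, 0, 2, 2, 0, 2], 1), (0, [0, 2, 0, 3, 3, 0, 3, 3, 0, 2, 2, 0, 2, 2, 0, 3, 0, 2, 2, 0], 0)], [(1, false), (0, false), (1, true), (0, true), (1, false), (0, true), (1, false), (0,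 true), (0, true), (1, true)])
  , ([(1, [0, 3, 3, 0, 2, 0, 2, 0, 3, 0, 3, 3, 0, 2, 0, 2, 0], 0), (14, [3, 0, 3, 0, 3, 3, 0, 2, 2, 0, 2, 0, 2, 2, 0, 3, 3, 0, 3, 0, 2], 4), (94, [3, 0, 2, 2, 0, 2, 2, 0, 2, 2, 0, 3, 0, 3, 3, 0, 3, 0, 3, 3, 1, 2], 3), (74, [2, 0, 3, 0, 2, 2, 2, 0, 3, 3, 0, 3, 0, 2, 2, 0, 3, 3], 0), (35, [2, 2, 0, 2, 2, 0, 2, 2, 0, 2, 0, 3, 3, 0, 2, 0, 2, 2, 2, 0, 2, 0], 0), (96, [3, 3, 0, 3, 0, 2, 2, 0, 3, 0, 3, 3, 0, 2, 0, 3, 3, 0, 3], 2), (3, [2, 2, 0, 2, 2, 0, 3, 3, 0, 2, 2, 0, 2, 0, 3, 3, 0, 3, 3, 0, 3, 3], 4), (287, [0, 3, 0, 2, 2, 0, 2, 0, 2, 0, 3, 0, 2, 2, 0, 2, 2, 0, 3, 0], 0)], [(0, false), (0, false), (0, false), (1, true), (0, false), (0, false), (1, true), (0, false), (1, true), (0, false),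 (0, false), (1, true)])
  , ([(1, [2, 0, 3, 3, 0, 2, 0, 2, 0, 3, 0, 3, 3, 0, 2, 0, 2, 0], 0), (6, [3, 0, 3, 0, 3, 3, 0, 2, 2, 0, 2, 0, 2, 2, 0, 3, 3, 0, 3, 0, 2], 1), (103, [2, 0, 2, 0, 3, 3, 0, 3, 0, 3, 0, 2, 2, 0, 2, 0, 3, 3, 0, 2, 0, 2], 1), (3, [2, 0, 3, 0, 3, 0, 3, 0, 2, 2, 2, 0, 3, 0], 0), (0, [0, 3, 3, 0, 2, 0, 3, 3, 0, 3, 3, 0, 2, 2, 1], 0), (50, [2, 0, 3, 3, 0, 2, 2, 2, 0, 3, 0, 3, 3, 0, 3, 0, 3, 3], 4), (4, [0, 3, 3, 0, 2, 0, 2, 0, 3, 0, 3, 0, 2, 2, 2, 0, 3, 3], 4), (287, [2, 0, 2, 2, 0, 2, 2, 0, 2, 0, 2, 2, 0, 3, 3, 0, 3, 3, 1], 0)], [(0, false), (0, false), (1, true), (0, false), (1, false), (1, false), (0, false), (0, false)])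
  , ([(1, [3, 0, 3, 3, 0, 2, 0, 2, 0, 3, 0, 3, 3, 0, 2, 0, 2, 0], 0), (28, [3, 0, 3, 0, 3, 3, 0, 2, 2, 0, 2, 0, 2, 2, 0, 3, 3, 0, 3, 0, 2], 1), (38, [2, 0, 2, 2, 0, 3, 3, 0, 2, 2, 0, 2, 0, 2, 0, 2, 2, 0, 2, 2, 2, 0, 2, 0, 3, 3], 2), (12, [2, 0, 3, 3, 0, 3, 0, 3, 0, 2, 0, 2, 0, 2, 2, 0, 3, 3, 1, 2, 2, 2], 0), (12, [3, 0, 2, 0, 2, 2, 0, 2, 0, 3, 0, 3, 0, 3, 3, 0, 2, 2, 1, 3], 0), (30, [0, 2, 0, 2, 0, 3, 0, 3, 3, 0, 2, 0, 2, 0, 2, 0, 3, 1, 3], 3), (3, [2, 2, 0, 2, 0, 2, 2, 0, 2, 0, 3, 0, 3, 0, 3, 0, 2, 0, 2, 1, 2], 4), (148, [0, 2, 0, 2, 0, 3, 0, 3, 0, 2, 0, 3, 3, 0, 2, 2, 0, 2, 0, 3, 3, 0, 2], 0)], [(0, false), (0, false), (1, true), (0, false), (1, false), (0, true), (1, false), (0, true), (1, true), (0, false), (1,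 false)])
  , ([(1, [0, 2, 0, 2, 0, 3, 3, 0, 2, 0, 3, 3, 0, 2, 0, 2, 0], 0), (0, [3, 0, 3, 0, 3, 3, 0, 2, 2, 0, 2, 0, 2, 2, 0, 3, 3, 0, 3, 0, 2], 1), (326, [3, 0, 2, 0, 3, 3, 0, 3, 0, 2, 2, 0, 2, 2, 0, 2, 2, 0, 3, 0, 3, 1, 3], 3), (86, [3, 0, 3, 3, 0, 2, 2, 0, 2, 0, 2, 2, 0, 2, 0, 3, 3, 0, 3, 3, 0, 3, 3], 0), (35, [2, 2, 2, 0, 3, 3, 0, 3, 0, 3, 0, 3, 3, 0, 3, 3, 0, 2], 0), (20, [2, 2, 0, 2, 0, 2, 2, 0, 3, 3, 0, 2, 2, 0, 3, 3, 0, 3, 1, 2], 3), (0, [3, 0, 3, 3, 0, 3, 3, 0, 2, 0, 3, 3, 0, 2, 2, 2], 2), (24, [0, 2, 2, 2, 0, 3, 3, 0, 3, 3, 0, 3, 3, 0, 3, 0, 3, 0, 3], 0)], [(0, true), (0, true), (1, false), (0, true), (0, true), (0, true), (1, true), (0, true), (0, true), (0, true), (1, true), (0, false), (1, false)])]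

/-- Walks of relation 21. -/
def cert21 : List (List StepCert × List (ℕ × Bool)) :=
  [([(0, [0, 3, 3, 0, 2, 0, 2, 0, 3, 0, 3, 3, 0, 2, 0, 2, 0], 0), (0, [2, 0, 2, 2, 0, 3, 3, 0, 2, 2, 0, 2, 0, 2, 0, 3, 0, 2, 2, 2, 0, 3, 1, 3], 3), (186, [0, 2, 0, 2, 2, 0, 2, 0, 2, 2, 0, 2, 2, 0, 2, 2, 0, 3, 0, 2], 1), (0, [3, 3, 0, 3, 3, 0, 2, 2, 0, 3, 3, 0, 2, 2, 0, 2, 0, 2, 2, 0, 3, 3], 0), (0, [3, 3, 0, 3, 0, 3, 0, 2, 0, 3, 3, 0, 2, 2, 0, 2, 0, 3, 3], 0), (0, [0, 3, 0, 2, 2, 0, 3, 3, 0, 3, 3, 0, 3, 0, 3, 0, 3, 3, 1], 4), (0, [0, 3, 0, 3, 0, 2, 0, 2, 0, 2, 2, 2, 0, 3, 3, 0, 3, 1, 3], 4), (0, [0, 2, 2, 2, 0, 3, 0, 3, 3, 0, 3, 0, 2, 2, 0, 3, 0, 3, 3, 0, 3, 0, 3], 0)], [(0, false), (1, true), (2, false), (1, true), (1, true), (2,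 false), (0, false), (1, false), (2, false), (1, false), (1, false), (2, false), (1, false), (2, false), (0, false), (1, true), (1, true), (2, false), (1, false)])
  , ([(0, [0, 3, 3, 0, 2, 0, 2, 0, 3, 0, 3, 3, 0, 2, 0, 2, 0], 0), (0, [2, 0, 2, 2, 0, 3, 3, 0, 2, 2, 0, 2, 0, 2, 0, 3, 0, 2, 2, 2, 0, 3, 1, 3], 3), (38, [0, 3, 0, 2, 2, 0, 3, 3, 0, 2, 2, 0, 2, 0, 2, 2], 3), (303, [0, 2, 0, 2, 0, 2, 0, 2, 2, 2, 0, 2, 2, 0, 2, 0, 3, 0, 3, 0, 3], 0), (303, [0, 2, 0, 3, 0, 3, 3, 0, 2, 2, 0, 2, 2, 0, 2, 2, 0, 3, 0, 3, 0, 3], 0), (303, [2, 2, 0, 2, 0, 3, 3, 0, 3, 3, 0, 2, 2, 0, 2, 2, 1, 2, 2, 2], 3), (0, [0, 2, 2, 0, 3, 3, 0, 2, 2, 0, 2, 0, 2, 0, 2, 2, 0, 2, 2, 2, 0, 2, 1, 3], 3), (0, [0, 2, 0, 2, 2, 0, 3, 0, 3, 0, 2, 0, 2,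 2, 2, 0, 2, 0, 3], 0)], [(0, false), (1, false), (0, true), (1, false)])
  , ([(1, [0, 3, 3, 0, 2, 0, 2, 0, 3, 0, 3, 3, 0, 2, 0, 2, 0], 0), (1, [2, 0, 2, 2, 0, 3, 3, 0, 2, 2, 0, 2, 0, 2, 0, 3, 0, 2, 2, 2, 0, 3, 1, 3], 3), (238, [0, 2, 0, 3, 0, 3, 0, 2, 2, 0, 2, 0, 2, 2, 0, 2, 0, 3, 0, 3, 0], 4), (285, [0, 2, 2, 0, 3, 0, 3, 0, 3, 3, 0, 2, 2, 0, 2, 2, 0, 3, 0, 2, 2, 2], 0), (285, [0, 3, 0, 2, 2, 0, 2, 0, 3, 0, 3, 0, 3, 3, 0, 2, 0, 3], 0), (285, [0, 2, 0, 2, 2, 0, 2, 0, 3, 0, 2, 2, 0, 2, 2, 0, 2, 2, 0, 3, 3, 1, 3], 4), (101, [3, 0, 3, 0, 2, 0, 2, 2, 2, 0, 3, 0, 3, 0, 2, 2, 2, 0, 2, 1, 2], 1), (1, [3, 0, 3, 0, 2, 2, 0, 2, 0, 2, 2, 0, 2, 0, 3, 3, 0, 3, 0, 2, 0, 2, 1, 2], 0)], [(0, false), (1, false), (1, false), (0, false),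 (1, true), (0, true), (0, true), (1, true), (0, true), (0, true), (1, true), (0, false), (0, false), (0, false)])
  , ([(1, [2, 0, 3, 3, 0, 2, 0, 2, 0, 3, 0, 3, 3, 0, 2, 0, 2, 0], 0), (1, [3, 0, 3, 0, 2, 2, 0, 3, 0, 2, 2, 0, 3, 0, 3, 3, 0, 2, 2, 0, 3, 3, 1], 3), (137, [0, 2, 0, 2, 0, 3, 0, 3, 0, 2, 0, 2, 2, 2, 0, 2, 0, 3, 0, 3, 0, 3, 1, 3], 2), (219, [3, 0, 2, 2, 2, 0, 2, 2, 0, 2, 0, 2, 0, 2, 2, 0, 2], 0), (219, [0, 2, 0, 2, 2, 2, 0, 2, 0, 2, 0, 3, 0, 3, 0, 2, 0, 2, 2, 0, 2, 0, 2], 0), (219, [3, 3, 0, 2, 0, 2, 2, 2, 0, 3, 0, 2, 2, 0, 3, 3], 3), (205, [2, 2, 0, 2, 0, 3, 3, 0, 3, 3, 0, 3, 0, 3, 0, 2, 0, 2, 2, 0, 2, 1, 2, 2], 1), (1, [0, 3, 0, 2, 2, 2, 0, 2, 0, 2, 0, 3, 0, 2, 2, 0, 2, 2, 2, 0], 0)], [(0, true), (0,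 true), (1, false), (1, false), (0, false), (1, true), (0, true), (1, true)])
  , ([(1, [3, 0, 3, 3, 0, 2, 0, 2, 0, 3, 0, 3, 3, 0, 2, 0, 2, 0], 0), (1, [0, 2, 2, 0, 3, 3, 0, 2, 2, 0, 2, 0, 2, 0, 3, 0, 2, 2, 2, 0, 3, 1, 3], 3), (232, [2, 0, 2, 2, 0, 2, 0, 2, 2, 2, 0, 2, 0, 2, 0, 3, 0, 2, 2, 0], 1), (285, [0, 2, 0, 3, 3, 0, 3, 0, 2, 2, 0, 2, 0, 3, 3, 0, 2, 0, 3, 3, 0, 2, 1, 3], 0), (285, [3, 3, 0, 2, 0, 2, 2, 0, 3, 3, 0, 2, 2, 0, 2, 2, 0, 2, 0, 3, 3, 0, 2], 0), (285, [0, 3, 0, 2, 2, 0, 2, 2, 0, 2, 2, 0, 2, 0, 2, 0, 2], 4), (101, [2, 2, 2, 0, 2, 0, 2, 2, 2, 0, 3, 0, 3, 0, 2, 2, 2, 0, 2, 0, 2, 2, 2, 0], 4), (1, [0, 3, 0, 3, 3, 0, 3, 0, 2, 0, 2, 0, 2, 2, 0, 3, 0, 3], 0)], [(1, false), (1, false), (0, true), (1, true),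 (0, true), (0, true), (1, false), (0, false), (0, false), (1, true), (0, true), (1, false)])
  , ([(1, [0, 2, 0, 2, 0, 3, 3, 0, 2, 0, 3, 3, 0, 2, 0, 2, 0], 0), (1, [0, 3, 0, 2, 2, 0, 3, 0, 2, 2, 0, 3, 0, 3, 3, 0, 2, 2, 0, 3, 3, 1], 3), (306, [3, 3, 0, 3, 3, 0, 3, 0, 3, 3, 0, 2, 0, 2, 0, 2, 0, 3, 0], 4), (285, [0, 2, 0, 2, 0, 2, 2, 2, 0, 3, 0, 3, 0, 3, 3, 0, 3, 0, 2], 0), (285, [3, 3, 0, 2, 0, 2, 0, 3, 0, 2, 2, 0, 2, 0, 3, 3, 0, 3, 0, 3], 0), (285, [3, 0, 2, 2, 0, 2, 0, 3, 3, 0, 3, 0, 2, 0, 2, 0], 4), (101, [3, 0, 3, 0, 2, 0, 2, 0, 3, 0, 2, 2, 2, 0, 3, 3, 0, 2, 1, 3, 3], 1), (1, [3, 0, 3, 0, 2, 2, 0, 2, 0, 3, 3, 0, 2, 0, 2, 2, 0, 3, 3, 0, 2, 2, 2], 0)], [(0, false), (0, false), (0, false), (1, false), (0, false),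 (0, false), (1, false), (0, false), (0, false), (0, false), (1, true), (0, false), (1, false), (0, false)])]

/-- Walks of relation 22. -/
def cert22 : List (List StepCert × List (ℕ × Bool)) :=
  [([(0, [0, 3, 3, 0, 2, 0, 2, 0, 3, 0, 3, 3, 0, 2, 0, 2, 0], 0), (0, [3, 0, 3, 0, 2, 0, 2, 2, 0, 2, 2, 2, 0, 3, 3, 0, 3, 0, 2, 0, 2], 0), (0, [3, 0, 3, 0, 2, 0, 2, 0, 3, 0, 3, 0, 3, 3, 0, 2, 0], 0), (0, [], 0)], [])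
  , ([(0, [0, 3, 3, 0, 2, 0, 2, 0, 3, 0, 3, 3, 0, 2, 0, 2, 0], 0), (0, [3, 0, 3, 0, 2, 0, 2, 2, 0, 2, 2, 2, 0, 3, 3, 0, 3, 0, 2, 0, 2], 0), (0, [3, 0, 3, 0, 2, 0, 2, 0, 3, 0, 3, 0, 3, 3, 0, 2, 0], 0), (0, [], 0)], [])
  , ([(1, [0, 3, 3, 0, 2, 0, 2, 0, 3, 0, 3, 3, 0, 2, 0, 2, 0], 0), (1, [3, 0, 3, 0, 2, 0, 2, 2, 0, 2, 2, 2, 0, 3, 3, 0, 3, 0, 2, 0, 2], 0), (1, [3, 0, 3, 0, 2, 0, 2, 0, 3, 0, 3, 0, 3, 3, 0, 2, 0], 0), (1, [], 0)], [])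
  , ([(1, [2, 0, 3, 3, 0, 2, 0, 2, 0, 3, 0, 3, 3, 0, 2, 0, 2, 0], 0), (1, [0, 3, 0, 2, 0, 2, 2, 0, 2, 2, 2, 0, 3, 3, 0, 3, 0, 2, 0, 2], 0), (1, [0, 3, 0, 2, 0, 2, 0, 3, 0, 3, 0, 3, 3, 0, 2, 0], 0), (1, [2], 0)], [])
  , ([(1, [3, 0, 3, 3, 0, 2, 0, 2, 0, 3, 0, 3, 3, 0, 2, 0, 2, 0], 0), (1, [0, 3, 0, 3, 0, 2, 2, 2, 0, 2, 2, 0, 2, 2, 0, 2, 0, 2, 0, 2, 2], 0), (1, [3, 3, 0, 3, 0, 2, 0, 2, 0, 3, 0, 3, 0, 3, 3, 0, 2, 0], 0), (1, [3], 0)], [])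
  , ([(1, [0, 2, 0, 2, 0, 3, 3, 0, 2, 0, 3, 3, 0, 2, 0, 2, 0], 0), (1, [0, 2, 0, 3, 0, 3, 0, 2, 2, 2, 0, 2, 2, 0, 2, 2, 0, 2, 0, 2], 0), (1, [0, 2, 0, 2, 0, 3, 0, 3, 0, 2, 2, 0, 2, 2, 0, 2, 0], 0), (1, [2, 2], 0)], [])]

/-- Walks of relation 23. -/
def cert23 : List (List StepCert × List (ℕ × Bool)) :=
  [([(0, [0, 3, 3, 0, 2, 0, 2, 0, 3, 0, 3, 3, 0, 2, 0, 2, 0], 0), (5, [3, 0, 3, 0, 3, 3, 0, 2, 2, 0, 2, 0, 2, 2, 0, 3, 3, 0, 3, 1, 2], 4), (103, [2, 0, 2, 0, 3, 3, 0, 3, 0, 3, 0, 2, 2, 0, 2, 0, 3, 3, 0, 2, 0, 2], 1), (76, [0, 3, 0, 3, 0, 2, 2, 0, 2, 0, 2, 2, 0, 2, 0, 3, 3, 0, 3, 0], 0), (0, [3, 0, 3, 0, 3, 0, 2, 0, 3, 3, 0, 3, 0, 2, 0, 2, 1, 2], 0), (111, [2, 2, 0, 3, 0, 3, 0, 2, 1], 4), (0, [3, 0, 3, 0, 3, 0, 3,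 3, 1], 4), (240, [2, 2, 2, 0, 3, 3, 0, 3, 0, 3, 0, 2, 0, 2, 0, 2, 0, 3, 1, 3, 3], 0)], [(1, false), (1, false), (0, false), (1, false), (0, false), (1, false), (1, false), (0, false), (1, true), (1, true), (0, false), (1, true), (0, false), (1, false), (1, false), (1, false), (0, false), (1, true), (1, true)])
  , ([(0, [0, 3, 3, 0, 2, 0, 2, 0, 3, 0, 3, 3, 0, 2, 0, 2, 0], 0), (5, [3, 0, 3, 0, 3, 3, 0, 2, 2, 0, 2, 0, 2, 2, 0, 3, 3, 0, 3, 1, 2], 4), (299, [2, 2, 2, 0, 2, 0, 2, 0, 2, 2, 0, 3, 3, 0, 2, 2], 3), (303, [3, 0, 2, 0, 2, 0, 2, 2, 0, 2, 0, 2, 2, 1, 3, 3], 0), (303, [2, 0, 3, 0, 2, 2, 0, 2, 0, 3, 0, 3, 0, 3, 0, 2, 0, 2], 0), (35, [2, 2, 0, 2, 2, 2, 0, 3, 0, 2, 2, 0, 3, 0, 3, 3, 0, 3, 0, 3, 3, 1], 2), (35, [2,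 0, 2, 2, 2, 0, 2, 0, 2, 0, 3, 0, 3, 0, 2, 2, 2, 0, 3, 3], 4), (0, [2, 2, 0, 2, 0, 2, 2, 0, 2, 0, 3, 0, 2, 2, 2, 1, 3, 3], 0)], [(0, true), (0, true), (0, true), (1, false), (1, false), (0, true), (0, true), (0, true)])
  , ([(1, [0, 3, 3, 0, 2, 0, 2, 0, 3, 0, 3, 3, 0, 2, 0, 2, 0], 0), (14, [3, 0, 3, 0, 3, 3, 0, 2, 2, 0, 2, 0, 2, 2, 0, 3, 3, 0, 3, 1, 2], 1), (96, [0, 3, 0, 3, 0, 3, 0, 2, 0, 2, 2, 2, 1, 3, 3], 4), (110, [3, 3, 0, 3, 0, 3, 3, 0, 2, 2, 0, 3, 3, 0, 3, 0, 3, 3, 1], 0), (1, [2, 2, 0, 3, 3, 0, 2, 2, 0, 2, 0, 2, 0, 3, 1, 3], 0), (241, [3, 0, 2, 2, 0, 2, 0, 3, 3, 0, 2, 0, 2, 2, 0, 2, 0, 2, 2, 0, 3, 1, 3], 1), (46, [3, 3, 0, 3, 0, 3, 3, 0, 2, 0, 2, 2, 0, 2, 0, 2, 2, 0, 3, 1, 3, 3], 4), (7, [0, 2, 2, 2, 0, 3,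 0, 2, 2, 0, 3, 0, 3, 3, 0, 3, 0, 2, 2, 0, 2, 2, 2, 1], 0)], [])
  , ([(1, [2, 0, 3, 3, 0, 2, 0, 2, 0, 3, 0, 3, 3, 0, 2, 0, 2, 0], 0), (6, [3, 0, 3, 0, 3, 3, 0, 2, 2, 0, 2, 0, 2, 2, 0, 3, 3, 0, 3, 1, 2], 4), (346, [0, 2, 2, 0, 2, 2, 0, 3, 0, 2, 2, 2, 0, 2, 2, 0, 2, 0, 3, 0], 1), (1, [3, 3, 0, 2, 2, 0, 3, 0, 2, 2, 0, 3, 0, 3, 3, 0, 2, 0, 2, 2, 0, 3, 3], 0), (1, [2, 0, 2, 0, 2, 2, 0, 3, 3, 0, 2, 2, 0, 2, 0, 2, 2, 0, 2, 2, 2, 0, 2], 0), (0, [3, 0, 2, 2, 0, 3, 0, 3, 3, 1], 4), (171, [2, 0, 2, 2, 0, 3, 3, 0, 2, 0, 2, 2, 0, 3, 0, 2, 2, 0, 3, 0], 4), (240, [2, 0, 2, 2, 0, 2, 2, 0, 3, 3, 0, 2, 2, 0, 2, 0, 3, 3, 0, 3, 3, 0], 0)], [(1, false), (1, false), (0, false), (1, true), (0, true), (0, true), (1, false), (0, true), (1,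 false), (0, true), (0, true), (1, false), (0, false)])
  , ([(1, [3, 0, 3, 3, 0, 2, 0, 2, 0, 3, 0, 3, 3, 0, 2, 0, 2, 0], 0), (28, [3, 0, 3, 0, 3, 3, 0, 2, 2, 0, 2, 0, 2, 2, 0, 3, 3, 0, 3, 1, 2], 4), (238, [2, 0, 2, 0, 2, 2, 2, 0, 3, 0, 3, 3, 0, 3, 3, 0, 2, 0, 2, 0, 2, 0], 1), (9, [0, 2, 0, 3, 3, 0, 3, 0, 2, 0, 2, 0, 3, 0, 3, 0, 3, 3, 0, 2, 2, 0, 2, 2], 0), (9, [2, 0, 2, 2, 0, 3, 0, 3, 3, 0, 2, 0, 3, 3, 0, 2, 0, 2, 2, 1, 2, 2], 0), (91, [0, 2, 2, 0, 2, 2, 0, 3, 0, 3, 3, 0, 3, 0, 3, 3, 0, 2, 2, 0, 2, 1, 3], 1), (76, [2, 2, 0, 2, 0, 3, 0, 3, 0, 3, 0, 2, 0, 3, 3, 1, 2, 2], 4), (49, [3, 3, 0, 2, 2, 0, 3, 3, 1, 2, 2], 0)], [(1, true), (0, false), (1, true), (0, false), (1, true), (0, true), (1, false), (0, true), (0, true),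 (1, false), (0, false)])
  , ([(1, [0, 2, 0, 2, 0, 3, 3, 0, 2, 0, 3, 3, 0, 2, 0, 2, 0], 0), (0, [3, 0, 3, 0, 3, 3, 0, 2, 2, 0, 2, 0, 2, 2, 0, 3, 3, 0, 3, 1, 2], 4), (103, [2, 0, 2, 0, 3, 3, 0, 3, 0, 3, 0, 2, 2, 0, 2, 0, 3, 3, 0, 2, 1, 2], 2), (240, [0, 2, 2, 0, 2, 2, 0, 3, 0, 3, 0, 3, 3, 0, 2, 2, 0, 2, 0, 2, 0, 3, 1], 0), (1, [0, 3, 0, 2, 2, 0, 2, 0, 3, 0, 3, 3, 0, 2, 0, 3, 3, 0], 0), (0, [0, 3, 0, 3, 0, 2, 0, 2, 0, 2, 2, 0, 3, 0, 3, 0, 2, 0, 2, 2, 0, 2], 4), (14, [3, 0, 2, 2, 0, 2, 2, 2, 0, 2, 0, 3, 0, 3, 0, 2, 0, 2, 0, 2, 2], 1), (1, [2, 2, 0, 2, 0, 2, 0, 3, 0, 3, 0, 3, 0, 2, 0, 2, 2, 2, 0], 0)], [(1, false), (0, false), (1, true), (0, false), (0, false), (0, false), (1, true), (0, false), (1, false), (0, true),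 (1, true), (0, true)])]

/-- Walks of relation 24. -/
def cert24 : List (List StepCert × List (ℕ × Bool)) :=
  [([(0, [0, 3, 3, 0, 2, 0, 2, 0, 3, 0, 3, 3, 0, 2, 0, 2, 0], 0), (0, [2, 2, 2, 0, 2, 2, 0, 2, 0, 2, 0, 3, 0, 3, 0, 3, 3, 0, 2, 0, 2, 2], 0), (0, [0, 3, 0, 2, 0, 3, 3, 0, 3, 0, 2, 1, 2], 0), (0, [], 0)], [])
  , ([(0, [0, 3, 3, 0, 2, 0, 2, 0, 3, 0, 3, 3, 0, 2, 0, 2, 0], 0), (0, [2, 2, 2, 0, 2, 2, 0, 2, 0, 2, 0, 3, 0, 3, 0, 3, 3, 0, 2, 0, 2, 2], 0), (0, [0, 3, 0, 2, 0, 3, 3, 0, 3, 0, 2, 1, 2], 0), (0, [], 0)], [])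
  , ([(1, [0, 3, 3, 0, 2, 0, 2, 0, 3, 0, 3, 3, 0, 2, 0, 2, 0], 0), (1, [2, 2, 2, 0, 2, 2, 0, 2, 0, 2, 0, 3, 0, 3, 0, 3, 3, 0, 2, 0, 2, 2], 0), (1, [0, 3, 0, 2, 0, 3, 3, 0, 3, 0, 2, 1, 2], 0), (1, [], 0)], [])
  , ([(1, [2, 0, 3, 3, 0, 2, 0, 2, 0, 3, 0, 3, 3, 0, 2, 0, 2, 0], 0), (1, [3, 0, 3, 0, 2, 2, 0, 2, 0, 2, 0, 3, 0, 3, 0, 3, 3, 0, 2, 2, 2], 0), (1, [0, 2, 0, 3, 0, 3, 0, 3, 0, 2, 1, 2], 0), (1, [2], 0)], [])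
  , ([(1, [3, 0, 3, 3, 0, 2, 0, 2, 0, 3, 0, 3, 3, 0, 2, 0, 2, 0], 0), (1, [2, 2, 0, 2, 2, 0, 2, 0, 2, 0, 3, 0, 3, 0, 3, 3, 0, 2, 0, 2, 2], 0), (1, [3, 0, 3, 0, 2, 0, 3, 3, 0, 3, 0, 2, 1, 2], 0), (1, [3], 0)], [])
  , ([(1, [0, 2, 0, 2, 0, 3, 3, 0, 2, 0, 3, 3, 0, 2, 0, 2, 0], 0), (1, [0, 3, 0, 2, 2, 0, 2, 0, 2, 0, 3, 0, 3, 0, 3, 3, 0, 2, 2, 2], 0), (1, [2, 0, 2, 0, 3, 0, 3, 0, 3, 0, 2, 1, 2], 0), (1, [2, 2], 0)], [])]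

/-- Walks of relation 25. -/
def cert25 : List (List StepCert × List (ℕ × Bool)) :=
  [([(0, [0, 3, 3, 0, 2, 0, 2, 0, 3, 0, 3, 3, 0, 2, 0, 2, 0], 0), (38, [2, 2, 0, 2, 2, 0, 2, 0, 2, 2, 0, 2, 0, 3, 0, 3, 3, 0, 2], 0), (0, [0, 2, 0, 2, 2, 0, 2, 0, 2, 0, 3, 3, 0, 3, 3, 1, 2], 0), (14, [0], 0)], [(0, false)])
  , ([(0, [0, 3, 3, 0, 2, 0, 2, 0, 3, 0, 3, 3, 0, 2, 0, 2, 0], 0), (38, [2, 2, 0, 2, 2, 0, 2, 0, 2, 2, 0, 2, 0, 3, 0, 3, 3, 0, 2], 0), (6, [0, 2, 0, 3, 3, 0, 2, 0, 2, 2, 0, 2, 0, 3, 0, 3, 0, 3, 0, 2, 1, 2], 0), (0, [0, 2, 0, 2, 2, 0, 3, 0, 3, 0, 2, 0, 2, 2, 2, 0, 2, 0, 3], 0)], [(0, false), (1, false), (0, true), (1, false)])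
  , ([(1, [0, 3, 3, 0, 2, 0, 2, 0, 3, 0, 3, 3, 0, 2, 0, 2, 0], 0), (18, [2, 2, 0, 2, 2, 0, 2, 0, 2, 2, 0, 2, 0, 3, 0, 3, 3, 0, 2], 0), (1, [0, 2, 0, 2, 2, 0, 2, 0, 3, 0, 3, 0, 2, 0, 2, 2, 0, 3, 3, 0, 3, 1, 3], 0), (175, [3, 3, 0, 3, 3, 0, 2, 0, 2, 2, 0, 3, 3, 0, 3, 3, 0, 2, 0, 2, 2, 0, 3, 0, 3], 0)], [(0, true), (0, true), (0, true), (1, false), (0, true), (0, true)])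
  , ([(1, [2, 0, 3, 3, 0, 2, 0, 2, 0, 3, 0, 3, 3, 0, 2, 0, 2, 0], 0), (152, [2, 2, 0, 2, 2, 0, 2, 0, 2, 2, 0, 2, 0, 3, 0, 3, 3, 0, 2], 0), (244, [0, 3, 0, 2, 2, 0, 2, 0, 3, 3, 0, 3, 3, 0, 2, 2], 0), (95, [0, 2, 0, 2, 0, 2, 2, 0, 2, 0, 3, 0, 3, 0, 3, 0, 2, 0, 2, 0, 3, 3], 0)], [(1, false), (1, false), (0, false), (1, false), (0, true), (1, true), (0, true), (0, true), (0, true)])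
  , ([(1, [3, 0, 3, 3, 0, 2, 0, 2, 0, 3, 0, 3, 3, 0, 2, 0, 2, 0], 0), (110, [0, 3, 0, 2, 2, 0, 2, 2, 0, 3, 0, 3, 0, 2, 0, 2, 2, 2], 0), (1, [0, 2, 2, 2, 0, 2, 0, 3, 3, 0, 2, 0, 2, 2, 0, 2, 0, 2, 2, 1], 0), (173, [0, 3, 3, 0, 3, 0, 3, 3, 0, 2, 2, 0, 2, 0, 2, 0, 3, 0, 2, 2, 2, 0, 2], 0)], [(0, false), (0, false), (1, true), (0, false), (0, false), (0, false)])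
  , ([(1, [0, 2, 0, 2, 0, 3, 3, 0, 2, 0, 3, 3, 0, 2, 0, 2, 0], 0), (51, [3, 0, 3, 3, 0, 3, 0, 2, 0, 2, 0, 2, 2, 2, 0, 3, 0, 2], 0), (1, [0, 2, 2, 2, 0, 2, 2, 0, 3, 0, 3, 3, 0, 3, 0, 2, 2, 0, 2, 2, 0, 3], 0), (37, [3, 0, 2, 0, 2, 0, 2, 0, 3, 0, 2, 2, 0, 2, 0, 3, 0, 2, 2, 2, 1], 0)], [(0, true), (0, true), (0, true), (1, false), (0, true), (0, true)])]

/-- Walks of relation 26. -/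
def cert26 : List (List StepCert × List (ℕ × Bool)) :=
  [([(0, [0, 3, 3, 0, 2, 0, 2, 0, 3, 0, 3, 3, 0, 2, 0, 2, 0], 0), (0, [2, 2, 0, 2, 0, 3, 0, 2, 2, 0, 2, 0, 2, 2, 1, 2, 2, 2], 0), (0, [0, 2, 0, 2, 2, 0, 2, 2, 0, 3, 0, 3, 0, 3, 3, 0, 3, 0], 0), (0, [], 0)], [])
  , ([(0, [0, 3, 3, 0, 2, 0, 2, 0, 3, 0, 3, 3, 0, 2, 0, 2, 0], 0), (0, [2, 2, 0, 2, 0, 3, 0, 2, 2, 0, 2, 0, 2, 2, 1, 2, 2, 2], 0), (0, [0, 2, 0, 2, 2, 0, 2, 2, 0, 3, 0, 3, 0, 3, 3, 0, 3, 0], 0), (0, [], 0)], [])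
  , ([(1, [0, 3, 3, 0, 2, 0, 2, 0, 3, 0, 3, 3, 0, 2, 0, 2, 0], 0), (1, [2, 2, 0, 2, 0, 3, 0, 2, 2, 0, 2, 0, 2, 2, 1, 2, 2, 2], 0), (1, [0, 2, 0, 2, 2, 0, 2, 2, 0, 3, 0, 3, 0, 3, 3, 0, 3, 0], 0), (1, [], 0)], [])
  , ([(1, [2, 0, 3, 3, 0, 2, 0, 2, 0, 3, 0, 3, 3, 0, 2, 0, 2, 0], 0), (1, [3, 3, 0, 3, 0, 2, 0, 2, 0, 2, 0, 2, 2, 1, 2, 2, 2], 0), (1, [0, 3, 0, 2, 2, 0, 2, 0, 2, 0, 2, 2, 0, 2, 0, 3, 0, 2], 0), (1, [2], 0)], [])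
  , ([(1, [3, 0, 3, 3, 0, 2, 0, 2, 0, 3, 0, 3, 3, 0, 2, 0, 2, 0], 0), (1, [2, 0, 2, 0, 3, 0, 2, 2, 0, 2, 0, 2, 2, 1, 2, 2, 2], 0), (1, [0, 3, 0, 2, 2, 0, 2, 0, 2, 0, 2, 2, 2, 0, 2, 2, 0, 3, 0], 0), (1, [3], 0)], [])
  , ([(1, [0, 2, 0, 2, 0, 3, 3, 0, 2, 0, 3, 3, 0, 2, 0, 2, 0], 0), (1, [3, 0, 3, 0, 2, 0, 2, 0, 2, 0, 2, 2, 1, 2, 2, 2], 0), (1, [0, 2, 0, 2, 2, 0, 2, 2, 0, 3, 0, 3, 0, 2, 0, 2, 0], 0), (1, [2, 2], 0)], [])]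

/-- Walks of relation 27. -/
def cert27 : List (List StepCert × List (ℕ × Bool)) :=
  [([(0, [0, 2, 0, 3, 0, 3, 0, 3, 0, 2, 0, 2, 0, 3, 3, 0, 3, 0, 2, 2], 2), (326, [0, 3, 0, 3, 3, 0, 3, 3, 0, 2, 2, 0, 3, 3, 0, 3, 0, 2, 2, 2, 0], 1), (0, [3, 3, 0, 2, 0, 2, 0, 3, 0, 3, 0, 3, 0, 2, 2, 2, 1, 3, 3], 0), (18, [3, 0, 2, 2, 2, 0, 2, 2, 0, 3, 3, 0, 3, 0, 3, 3, 0], 2), (74, [3, 0, 2, 0, 2, 2, 0, 2, 0, 3, 0, 3, 0, 2, 2, 0, 2, 0, 2, 0, 3, 0], 3), (174, [3, 0, 2, 0, 2, 0, 2, 2, 0, 3, 3, 0, 2, 2, 0, 2, 2, 0, 2, 2], 0), (1, [0, 3, 3, 0, 2, 2, 0, 2, 0, 2, 0, 3, 0, 3, 3, 0, 2, 0, 2, 1, 2, 2], 3), (280, [0, 3, 3, 0, 3, 0, 2, 0, 2, 0, 2, 2, 0, 3, 0, 3, 3, 0, 2, 2, 0, 3, 0], 2), (0, [3, 3, 0, 3, 0, 3, 0, 2, 0, 2, 0, 3, 3, 0, 3, 0,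 3, 3, 0], 0), (171, [2, 2, 0, 2, 2, 0, 2, 2, 0, 3, 3, 0, 2, 2, 0, 3, 3, 0, 3, 0, 3, 0], 4), (0, [3, 0, 3, 0, 2, 2, 2, 0, 2, 2, 0, 2, 2, 0, 2, 0, 2, 0, 2, 2, 1], 4), (240, [0, 3, 3, 0, 3, 0, 2, 0, 2, 2, 0, 3, 3, 0, 3, 3, 0, 2, 2, 0, 2, 0, 3, 1], 0)], [(2, false), (1, false), (1, false), (1, false), (2, false), (1, false), (2, false), (1, false), (2, false), (1, false), (1, false), (0, false), (1, false), (2, false), (1, false), (0, false), (1, true), (2, false), (1, true), (0, false), (1, true)])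
  , ([(0, [0, 2, 0, 3, 0, 3, 0, 3, 0, 2, 0, 2, 0, 3, 3, 0, 3, 0, 2, 2], 2), (351, [0, 3, 0, 2, 2, 0, 3, 3, 0, 3, 0, 3, 3, 0, 2, 1], 4), (4, [0, 3, 3, 0, 3, 3, 0, 3, 0, 2, 2, 0, 2, 0, 3, 0, 3, 1, 3, 3], 0), (195, [0, 2, 0, 3, 3, 0, 2, 2, 0, 2, 0, 3, 3, 0, 2, 1, 2, 2, 2], 3), (347, [0, 2, 0, 2, 0, 3, 3, 0, 3, 0, 2, 0, 2, 0, 2, 0], 2), (0, [3, 0, 3, 0, 3, 3, 0, 2, 0, 3, 3, 0, 2, 0, 2, 1], 0), (0, [3, 0, 2, 0, 2, 2, 0, 3, 0, 3, 3, 0, 3, 0, 2, 2, 0, 3, 1, 3], 4), (0, [2, 2, 0, 3, 0, 3, 3, 0, 3, 3, 0, 2, 0, 2, 1, 2], 1), (0, [2, 2, 0, 2, 0, 3, 0, 3, 3, 0, 3, 0, 2, 2, 0, 3, 0, 3, 3, 0, 3, 3], 0), (240, [2, 2, 0, 3, 3, 0, 3, 0, 3, 3, 0, 2, 2, 0, 3, 3, 1, 2, 2], 1), (3, [2, 0, 3, 0, 2, 2, 0, 3, 0, 3, 3, 0, 3, 0, 3, 0, 2,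 0, 2], 1), (0, [0, 2, 0, 3, 3, 0, 2, 0, 2, 0, 3, 0, 3, 0, 3, 3, 0, 2, 2, 2], 0)], [(0, false), (1, false), (0, true), (0, true), (1, false), (0, true), (1, false), (1, false), (0, true), (1, false), (0, false), (0, false)])
  , ([(1, [0, 2, 0, 3, 0, 3, 0, 3, 0, 2, 0, 2, 0, 3, 3, 0, 3, 0, 2, 2], 2), (259, [3, 3, 0, 2, 0, 2, 0, 3, 0, 2, 2, 0, 2, 0, 3, 1, 3], 1), (91, [0, 3, 0, 3, 0, 2, 2, 2, 0, 3, 3, 0, 3, 0, 3, 0, 2, 0, 2, 0, 2, 0, 3], 0), (342, [3, 0, 2, 0, 2, 0, 2, 0, 2, 2, 2, 0, 2, 2, 0, 3, 0, 2, 2, 2, 1, 3], 4), (86, [3, 0, 3, 0, 2, 0, 2, 0, 3, 0, 2, 2, 0, 3, 0, 3, 3], 3), (4, [0, 2, 0, 3, 3, 0, 3, 3, 0, 2, 0, 2, 2, 0, 3, 3, 0, 3, 0, 2, 0], 0), (6, [3, 3, 0, 3, 0, 3, 0, 2, 0, 3, 3, 0, 3, 0, 2, 2, 2, 0, 3, 3],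 1), (215, [0, 2, 2, 0, 2, 0, 3, 0, 2, 2, 0, 3, 0, 3, 3, 0, 2, 2, 1], 4), (35, [0, 3, 0, 3, 0, 3, 0, 2, 0, 2, 2, 0, 3, 3, 0, 2, 1, 2], 0), (272, [3, 3, 0, 3, 3, 0, 3, 3, 0, 3, 3, 0, 3, 1, 3, 3], 2), (3, [0, 2, 2, 0, 3, 3, 0, 2, 0, 2, 2, 1, 2, 2], 4), (287, [3, 0, 2, 2, 0, 2, 0, 3, 0, 3, 3, 0, 2, 0, 2, 2, 1, 2, 2], 0)], [(0, false), (1, true), (0, true), (1, true), (0, false), (1, true), (0, true), (0, true), (1, true), (0, false), (0, false)])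
  , ([(1, [2, 0, 2, 0, 3, 0, 3, 0, 3, 0, 2, 0, 2, 0, 3, 3, 0, 3, 0, 2, 2], 2), (275, [3, 3, 0, 2, 0, 2, 2, 0, 3, 3, 0, 2, 2, 0, 2, 2, 0, 3, 1, 3], 3), (30, [3, 0, 2, 2, 2, 0, 2, 2, 0, 3, 0, 3, 3, 0, 3, 0, 3, 3], 0), (344, [0, 3, 0, 2, 0, 2, 2, 2, 0, 3, 3, 0, 3, 3, 0, 3, 3, 0, 2, 0, 2], 4), (257, [3, 3, 0, 2, 0, 3, 3, 0, 3, 0, 2, 2, 0, 2, 2, 0, 2, 0], 3), (323, [0, 2, 0, 3, 3, 0, 2, 2, 0, 2, 2, 0, 2, 2, 0, 2, 2, 0, 3, 0, 3, 1, 2], 0), (24, [2, 2, 0, 2, 2, 0, 2, 0, 2, 2, 0, 3, 3, 0, 2, 2, 1, 2, 2], 2), (178, [2, 0, 2, 0, 2, 2, 0, 2, 0, 3, 0, 3, 3, 0, 2, 2, 0, 2, 0, 2, 1, 3], 2), (0, [0, 2, 0, 3, 3, 0, 3, 3, 0, 2, 2, 2, 0, 2, 0, 2, 0, 3, 3, 0], 0), (175, [3, 0, 2, 2, 0, 2, 2, 2, 0, 2, 0, 3, 0, 3, 3, 0, 3, 0, 2, 2, 0,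 2, 0], 4), (76, [0, 2, 2, 2, 0, 2, 0, 3, 0, 3, 0, 3, 3, 0, 2, 0, 2, 2, 0, 2, 0, 3, 3], 4), (4, [2, 2, 0, 2, 2, 0, 3, 3, 0, 2, 2, 0, 2, 2, 1, 2], 0)], [(1, false), (0, true), (0, true), (1, false), (0, false), (1, false), (1, false), (0, false), (0, false), (1, true), (0, false), (1, true), (0, false), (1, true)])
  , ([(1, [0, 2, 2, 0, 2, 0, 2, 0, 3, 0, 3, 3, 0, 2, 0, 2, 0, 3, 0, 3], 2), (149, [0, 2, 0, 2, 2, 2, 0, 2, 0, 3, 3, 0, 2, 0, 3, 3, 0, 3], 2), (30, [0, 3, 3, 0, 2, 0, 3, 3, 0, 2, 0, 2, 2, 2, 0, 2, 2, 0, 2, 1, 2], 0), (110, [2, 2, 0, 2, 0, 3, 0, 3, 0, 2, 0, 2, 2, 0, 2, 2, 0, 3, 3, 1, 2], 4), (213, [0, 3, 3, 0, 3, 0, 2, 0, 2, 0, 2, 2, 0, 2, 2, 2, 0, 3, 1, 2, 2], 2), (35, [0, 3, 3, 0, 3, 3, 0, 2, 2, 2, 0, 2,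 0, 2, 0, 3, 3, 1, 3], 0), (35, [0, 3, 0, 3, 0, 3, 3, 0, 3, 0, 3, 3, 0, 2, 0, 2, 2, 1, 3], 2), (126, [3, 0, 3, 0, 3, 0, 2, 0, 2, 0, 2, 2, 0, 3, 1, 3], 4), (12, [2, 0, 2, 2, 2, 0, 2, 2, 0, 2, 0, 2, 0, 3, 0, 3, 0, 2, 0, 2, 0, 2, 0], 0), (127, [3, 0, 3, 3, 0, 3, 0, 2, 0, 2, 2, 0, 3, 3, 0, 2, 1, 3], 3), (3, [2, 2, 0, 3, 3, 0, 2, 0, 2, 2, 0, 2, 2, 2, 0, 2, 0, 2, 0], 4), (148, [2, 2, 2, 0, 2, 2, 2, 0, 3, 0, 2, 2, 0, 3, 0, 3, 3, 0, 2, 2, 2], 0)], [(1, false), (0, false), (0, false), (1, false), (0, true), (0, true), (1, false), (0, false), (0, false), (1, true)])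
  , ([(1, [2, 2, 0, 2, 0, 3, 0, 3, 0, 3, 0, 2, 0, 2, 0, 3, 3, 0, 3, 0, 2, 2], 2), (20, [2, 2, 0, 2, 0, 2, 2, 2, 0, 3, 0, 3, 3, 0, 3, 3, 0, 2, 0, 2, 1, 2], 1), (91, [2, 0, 2, 0, 2, 0, 3, 3, 0, 3, 0, 2, 0, 2, 0, 3, 0, 3, 0, 3, 0, 3, 3], 0), (0, [0, 3, 0, 3, 0, 2, 2, 0, 2, 0, 2, 0, 2, 2, 2, 0, 2, 0, 2, 0], 2), (167, [2, 2, 2, 0, 2, 2, 2, 0, 3, 0, 2, 2, 0, 2, 0, 2, 2], 2), (31, [0, 3, 0, 2, 0, 2, 2, 0, 3, 0, 3, 0, 2, 0, 2, 0, 2, 0, 3, 0, 2, 2], 0), (6, [3, 0, 3, 0, 3, 0, 3, 3, 0, 2, 2, 0, 2, 0, 3, 0], 1), (215, [2, 2, 2, 0, 3, 0, 3, 3, 0, 2, 0, 2, 2, 0, 3, 3, 0, 2, 0, 2, 2, 1], 4), (35, [2, 2, 0, 3, 0, 3, 0, 3, 3, 0, 3, 0, 2, 0, 2, 0, 2, 2, 1, 2, 2], 0), (20, [0, 3, 0, 2, 2, 0, 2, 0, 2, 0, 3, 0, 3, 3, 0, 2, 0, 2, 2,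 0], 3), (0, [2, 0, 2, 2, 0, 3, 3, 0, 3, 3, 0, 3, 0, 3, 0, 2, 1, 3], 2), (24, [2, 0, 3, 0, 3, 3, 0, 3, 0, 2, 0, 2, 2, 0, 3, 0, 3], 0)], [(0, true), (1, false), (0, true), (1, true), (0, false), (0, false), (1, false), (0, true), (0, true), (1, true), (0, false), (1, false)])]

/-- Walks of relation 28. -/
def cert28 : List (List StepCert × List (ℕ × Bool)) :=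
  [([(0, [0, 2, 0, 3, 0, 3, 0, 3, 0, 2, 0, 2, 0, 3, 3, 0, 3, 0, 2, 2], 2), (326, [0, 3, 0, 3, 3, 0, 3, 3, 0, 2, 2, 0, 3, 3, 0, 3, 0, 2, 2, 2, 0], 1), (0, [3, 3, 0, 2, 0, 2, 0, 3, 0, 3, 0, 3, 0, 2, 2, 2, 1, 3, 3], 0), (0, [2, 2, 2, 0, 2, 2, 0, 2, 0, 3, 3, 0, 2, 0, 2, 2, 2, 0, 2, 2, 0, 2, 0], 1), (61, [3, 3, 0, 2, 2, 0, 2, 0, 3, 0, 2, 2, 0, 2, 2, 0, 3, 3, 0, 2, 2, 0, 2, 1], 4), (0, [0, 3, 0, 2, 0, 3, 3, 0, 2, 2, 0, 2, 0, 2, 0, 3, 0, 3, 3, 1, 3, 3], 0), (0, [2, 2, 0, 3, 3, 0, 3, 0, 2, 2, 2, 0, 2, 0, 2, 2, 2, 1, 3], 1), (280, [2, 2, 0, 3, 3, 0, 2, 0, 2, 2, 0, 2, 2, 1, 3, 3], 4), (0, [2, 0, 2, 0, 2, 0, 2, 2, 0, 2, 2, 0, 3, 0, 3, 3, 0, 3, 0, 3, 1, 2], 0), (0, [2, 0, 2, 0, 3, 0, 2, 2, 0, 2, 0, 3, 3, 0, 3, 0, 2, 2, 1, 3],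 4), (0, [3, 3, 0, 3, 3, 0, 2, 0, 2, 2, 0, 3, 0, 3, 3, 0, 3, 0, 3, 1], 4), (0, [2, 0, 2, 0, 2, 0, 3, 0, 2, 2, 0, 2, 0, 3, 3, 0, 3, 3, 0, 3, 3, 0, 2], 0)], [(1, false), (0, true), (1, false), (1, false), (2, false), (1, true), (2, false), (1, true), (1, true), (2, false), (1, false), (1, false), (0, false), (1, false), (2, false), (1, false), (1, false), (1, false), (2, false), (1, true), (2, false), (1, false)])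
  , ([(0, [0, 2, 0, 3, 0, 3, 0, 3, 0, 2, 0, 2, 0, 3, 3, 0, 3, 0, 2, 2], 2), (351, [0, 3, 0, 2, 2, 0, 3, 3, 0, 3, 0, 3, 3, 0, 2, 1], 4), (4, [0, 3, 3, 0, 3, 3, 0, 3, 0, 2, 2, 0, 2, 0, 3, 0, 3, 1, 3, 3], 0), (0, [2, 0, 2, 2, 0, 3, 0, 3, 0, 2, 0, 2, 0, 2, 0, 3, 0, 3, 0, 3, 3, 1], 1), (310, [0, 2, 2, 0, 3, 0, 3, 3, 0, 2, 2, 0, 3, 3, 0, 3, 0, 2, 2, 0, 2, 2, 1, 2, 2, 2], 1), (12, [0, 3, 0, 2, 0, 3, 3, 0, 2, 0, 2, 2, 0, 3, 3, 0, 3, 0, 3, 0, 3, 3, 0, 3, 3], 0), (12, [0, 2, 2, 0, 2, 0, 2, 2, 0, 3, 3, 0, 3, 3, 0, 2, 0, 2], 1), (3, [0, 2, 2, 0, 3, 3, 0, 3, 0, 2, 0, 2, 0, 3, 0, 3, 3, 0, 2, 0, 2, 2, 0, 3, 3], 2), (303, [0, 2, 0, 3, 0, 3, 3, 0, 2, 0, 3, 3, 0, 3, 3, 0, 2, 0, 2, 0, 2], 0), (303, [0, 3, 0, 2, 0, 2, 0, 2, 2, 0, 3,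 3, 0, 2, 2, 0, 2, 2, 0], 3), (0, [2, 0, 2, 0, 3, 0, 3, 0, 3, 3, 0, 3, 0, 2, 0, 2, 0, 2, 1, 3, 3], 3), (0, [2, 0, 3, 3, 0, 2, 0, 2, 0, 2, 0, 3, 1, 3], 0)], [(1, true), (0, true), (1, false), (1, false), (0, true), (0, true), (1, false), (0, true), (0, true), (1, true), (0, false)])
  , ([(1, [0, 2, 0, 3, 0, 3, 0, 3, 0, 2, 0, 2, 0, 3, 3, 0, 3, 0, 2, 2], 2), (259, [3, 3, 0, 2, 0, 2, 0, 3, 0, 2, 2, 0, 2, 0, 3, 1, 3], 1), (91, [0, 3, 0, 3, 0, 2, 2, 2, 0, 3, 3, 0, 3, 0, 3, 0, 2, 0, 2, 0, 2, 0, 3], 0), (1, [2, 2, 2, 0, 3, 0, 2, 2, 0, 3, 0, 3, 3, 0, 2, 0, 2, 0, 3, 1], 4), (4, [2, 0, 2, 2, 0, 3, 0, 3, 3, 0, 2, 2, 2, 0, 2, 2, 0, 2, 1], 3), (6, [3, 3, 0, 2, 0, 2, 2, 0, 3, 3, 0, 2, 2, 0, 3, 3, 0, 3, 0, 2], 0), (6, [3, 3, 0,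 2, 0, 3, 3, 0, 2, 2, 0, 2, 0, 2, 2, 0, 3, 3, 0, 3, 0], 2), (96, [3, 3, 0, 2, 2, 0, 3, 3, 0, 3, 0, 3, 0, 3], 4), (285, [2, 2, 0, 2, 2, 2, 0, 3, 3, 0, 3, 0, 3], 0), (285, [3, 0, 3, 0, 3, 0, 2, 2, 0, 3, 0, 2, 2, 2, 0, 2, 0, 2, 2], 4), (101, [0, 3, 3, 0, 3, 0, 3, 0, 2, 0, 2, 0, 2, 2, 2, 0, 2, 1, 2], 1), (1, [0, 2, 0, 3, 0, 3, 0, 3, 3, 0, 3, 0, 2, 2, 0, 2, 0, 3, 0, 3, 1, 3], 0)], [(1, false), (0, true), (1, false), (0, false), (0, false), (1, false)])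
  , ([(1, [2, 0, 2, 0, 3, 0, 3, 0, 3, 0, 2, 0, 2, 0, 3, 3, 0, 3, 0, 2, 2], 2), (275, [3, 3, 0, 2, 0, 2, 2, 0, 3, 3, 0, 2, 2, 0, 2, 2, 0, 3, 1, 3], 3), (30, [3, 0, 2, 2, 2, 0, 2, 2, 0, 3, 0, 3, 3, 0, 3, 0, 3, 3], 0), (30, [2, 0, 3, 0, 2, 2, 2, 0, 2, 2, 0, 2, 2, 0, 3, 0, 3, 3, 1, 3, 3], 2), (28, [0, 3, 0, 2, 2, 0, 3, 0, 2, 2, 0, 2, 0, 3, 1, 2, 2], 2), (45, [2, 2, 0, 3, 3, 0, 3, 0, 2, 0, 2, 2, 0, 2, 0, 3, 3, 0], 0), (45, [3, 3, 0, 2, 0, 2, 2, 0, 3, 3, 0, 3, 3, 0, 2, 0, 2, 2, 0, 3, 0, 3, 3], 2), (54, [0, 3, 3, 0, 3, 0, 2, 2, 0, 3, 0, 2, 2, 2, 0, 2, 0, 3, 0, 3, 0, 3, 3, 1, 3], 2), (219, [0, 2, 2, 0, 3, 3, 0, 3, 0, 3, 0, 3, 3, 0, 2, 2, 0, 3, 1, 3], 0), (219, [0, 2, 0, 3, 3, 0, 2, 2, 0, 2, 0, 3, 3, 0, 3, 0, 2, 0, 2, 0,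 3, 3], 3), (16, [2, 0, 3, 3, 0, 3, 3, 0, 3, 3, 0, 2, 2, 1, 2], 1), (1, [3, 0, 3, 0, 2, 2, 0, 2, 0, 3, 0, 3, 0, 2, 0, 2, 2, 0, 3, 0, 3, 1, 2], 0)], [(0, false), (0, false), (1, true), (0, true), (0, true), (0, true), (1, false), (0, false), (1, true), (0, true), (1, true), (0, false)])
  , ([(1, [0, 2, 2, 0, 2, 0, 2, 0, 3, 0, 3, 3, 0, 2, 0, 2, 0, 3, 0, 3], 2), (149, [0, 2, 0, 2, 2, 2, 0, 2, 0, 3, 3, 0, 2, 0, 3, 3, 0, 3], 2), (30, [0, 3, 3, 0, 2, 0, 3, 3, 0, 2, 0, 2, 2, 2, 0, 2, 2, 0, 2, 1, 2], 0), (30, [0, 2, 2, 2, 0, 2, 2, 0, 3, 0, 3, 3, 0, 3, 0, 2, 2, 0, 3, 0, 3, 3, 0], 2), (22, [2, 0, 3, 3, 0, 2, 0, 2, 0, 2, 2, 0, 3, 0, 3, 0, 2, 0, 2, 2, 2, 1], 1), (30, [3, 0, 3, 0, 2, 2, 2, 0, 2, 0, 3, 3, 0, 2, 0, 2, 2, 0, 2],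 0), (30, [0, 2, 0, 2, 0, 2, 0, 3, 3, 0, 3, 3, 0, 3, 0, 2, 0, 2, 0, 3, 1], 1), (96, [3, 0, 2, 2, 0, 3, 0, 3, 3, 0, 2, 2, 0, 2, 0, 2, 1, 3], 4), (285, [3, 0, 3, 3, 0, 2, 0, 2, 2, 0, 2, 2, 0, 3, 0, 3, 3, 0, 2, 0, 3], 0), (285, [0, 3, 0, 2, 2, 0, 2, 0, 2, 2, 0, 3, 3, 0, 2, 2, 0, 2, 0, 2, 2, 1], 4), (269, [3, 0, 2, 2, 2, 0, 3, 0, 3, 0, 3, 0, 2, 0, 2, 2], 4), (1, [0, 3, 0, 2, 2, 0, 3, 3, 0, 2, 2, 0, 2, 0, 2, 2, 0, 3, 0, 3], 0)], [(1, true), (0, false), (1, false), (1, false), (0, false), (0, false), (0, false), (1, true), (0, false), (0, false), (1, true), (0, true), (1, false), (0, true)])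
  , ([(1, [2, 2, 0, 2, 0, 3, 0, 3, 0, 3, 0, 2, 0, 2, 0, 3, 3, 0, 3, 0, 2, 2], 2), (20, [2, 2, 0, 2, 0, 2, 2, 2, 0, 3, 0, 3, 3, 0, 3, 3, 0, 2, 0, 2, 1, 2], 1), (91, [2, 0, 2, 0, 2, 0, 3, 3, 0, 3, 0, 2, 0, 2, 0, 3, 0, 3, 0, 3, 0, 3, 3], 0), (1, [3, 3, 0, 2, 0, 2, 2, 0, 3, 0, 3, 0, 3, 3, 0, 3, 0, 3, 1, 3], 4), (4, [3, 3, 0, 3, 3, 0, 3, 0, 3, 0, 2, 2, 0, 2, 0, 2, 1, 3], 3), (6, [2, 2, 0, 3, 0, 3, 3, 0, 2, 2, 0, 3, 3, 0, 3, 0, 3, 3, 0, 3, 3], 0), (6, [0, 2, 0, 3, 0, 3, 3, 0, 3, 0, 3, 3, 0, 2, 2, 0, 3, 0, 2, 2], 2), (96, [3, 0, 3, 0, 2, 0, 2, 0, 3, 3, 0], 4), (285, [0, 3, 0, 2, 2, 0, 2, 2, 2, 0, 3, 3, 0, 2, 1, 2, 2, 2], 0), (285, [0, 3, 0, 2, 0, 2, 0, 2, 0, 2, 2, 2, 0, 2, 0, 3, 3, 0, 2, 1, 2, 2], 4), (101, [0, 3, 3, 0,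 2, 0, 2, 2, 0, 2, 0, 2, 2, 0, 3, 0, 3, 0, 3, 0, 2, 0, 2], 1), (1, [0, 3, 0, 2, 2, 0, 3, 0, 3, 3, 0, 3, 0, 2, 0, 2, 0, 3, 0, 3, 3, 1, 2], 0)], [(0, false), (1, true), (0, false), (0, false), (1, false), (0, false), (0, false), (0, false), (1, true), (0, true), (1, false), (0, true)])]

/-- Walks of relation 29. -/
def cert29 : List (List StepCert × List (ℕ × Bool)) :=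
  [([(0, [0, 2, 0, 3, 0, 3, 0, 3, 0, 2, 0, 2, 0, 3, 3, 0, 3, 0, 2, 2], 2), (326, [0, 3, 0, 3, 3, 0, 3, 3, 0, 2, 2, 0, 3, 3, 0, 3, 0, 2, 2, 2, 0], 1), (0, [3, 3, 0, 2, 0, 2, 0, 3, 0, 3, 0, 3, 0, 2, 2, 2, 1, 3, 3], 0), (0, [3, 0, 2, 0, 3, 3, 0, 3, 0, 2, 2, 2, 0, 3, 3, 0, 3, 0, 2, 0, 2, 0, 2], 0), (0, [0, 2, 2, 0, 3, 0, 3, 3, 0, 3, 3, 0, 3, 0, 3, 0, 2, 1], 4), (0, [3, 3, 0, 3, 3, 0, 3, 3, 0, 3, 0, 2, 0, 2, 0, 3], 4), (0, [2, 0, 2, 0, 2, 2, 0, 3, 0, 2, 2, 2, 0, 2, 0, 3, 0, 3, 0, 2, 1], 0), (0, [3, 0, 2, 2, 0, 2, 0, 3, 0, 3, 0, 2, 2, 0, 2, 0, 2, 0, 3, 1, 3], 0)], [(1, true), (0, false), (1, false), (1, false), (0, false), (1, false), (0, false), (1, true), (0, false), (1, true), (0, true), (1, false), (1, false), (0,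 false), (1, false), (0, false), (1, false), (0, false), (1, true), (0, false), (1, true)])
  , ([(0, [0, 2, 0, 3, 0, 3, 0, 3, 0, 2, 0, 2, 0, 3, 3, 0, 3, 0, 2, 2], 2), (351, [0, 3, 0, 2, 2, 0, 3, 3, 0, 3, 0, 3, 3, 0, 2, 1], 4), (4, [0, 3, 3, 0, 3, 3, 0, 3, 0, 2, 2, 0, 2, 0, 3, 0, 3, 1, 3, 3], 0), (0, [3, 0, 3, 3, 0, 2, 2, 0, 2, 0, 3, 0, 3, 3, 0, 2, 1, 3], 0), (0, [0, 3, 0, 2, 0, 2, 2, 0, 3, 0, 3, 3, 0, 3, 0, 3, 0, 2, 0, 2, 2, 0, 2], 4), (0, [2, 2, 0, 3, 0, 2, 2, 0, 3, 0, 3, 3, 0, 3, 3, 0, 2, 2, 0, 3, 3, 0, 3], 1), (0, [0, 3, 0, 2, 0, 2, 0, 3, 0, 2, 2, 2, 0, 2, 2, 0, 3, 0, 3], 0), (0, [2, 2, 0, 2, 0, 2, 2, 0, 2, 0, 3, 3, 0, 3, 3, 0, 3, 0, 3, 0], 0)], [(0, false), (0, false), (1, true), (0, false), (1, false), (0, true),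 (1, false), (1, false), (0, true), (0, true), (1, true)])
  , ([(1, [0, 2, 0, 3, 0, 3, 0, 3, 0, 2, 0, 2, 0, 3, 3, 0, 3, 0, 2, 2], 2), (259, [3, 3, 0, 2, 0, 2, 0, 3, 0, 2, 2, 0, 2, 0, 3, 1, 3], 1), (91, [0, 3, 0, 3, 0, 2, 2, 2, 0, 3, 3, 0, 3, 0, 3, 0, 2, 0, 2, 0, 2, 0, 3], 0), (1, [3, 0, 2, 2, 2, 0, 2, 2, 0, 2, 0, 2, 2, 1, 3], 0), (1, [2, 0, 2, 2, 2, 0, 2, 2, 0, 3, 0, 3, 3, 0, 3, 0, 3, 3, 0, 2, 2, 0, 2], 1), (35, [2, 0, 2, 0, 2, 0, 3, 0, 3, 3, 0, 3, 3, 0, 3, 3, 0, 3, 0], 3), (1, [0, 2, 0, 2, 0, 2, 2, 0, 3, 3, 0, 3, 3, 1, 3], 0), (1, [3, 0, 2, 0, 3, 3, 0, 3, 3, 0, 3, 3, 0, 2, 2, 2, 1, 2], 0)], [(1, false), (1, false), (0, false), (0, false), (0, false), (1, true), (0, false), (1, false), (0, true), (1, false), (0,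 false), (0, false), (0, false)])
  , ([(1, [2, 0, 2, 0, 3, 0, 3, 0, 3, 0, 2, 0, 2, 0, 3, 3, 0, 3, 0, 2, 2], 2), (275, [3, 3, 0, 2, 0, 2, 2, 0, 3, 3, 0, 2, 2, 0, 2, 2, 0, 3, 1, 3], 3), (30, [3, 0, 2, 2, 2, 0, 2, 2, 0, 3, 0, 3, 3, 0, 3, 0, 3, 3], 0), (30, [2, 0, 3, 3, 0, 3, 3, 0, 2, 2, 0, 3, 3, 0, 3, 0, 2, 0, 2, 1], 0), (30, [3, 0, 2, 0, 3, 3, 0, 2, 0, 2, 2, 0, 3, 0, 3, 0, 3, 0, 2, 1, 3], 3), (35, [2, 0, 2, 2, 0, 3, 0, 3, 3, 0, 2, 2, 0, 2, 0, 2, 2, 0, 2, 2, 0, 2], 3), (1, [2, 0, 2, 2, 0, 2, 2, 0, 3, 0, 3, 0, 3, 3, 0, 2, 2, 0, 3, 0], 0), (1, [0, 3, 0, 3, 3, 0, 2, 0, 3, 3, 0, 2, 0, 2, 2, 0, 3, 0, 3, 3, 0, 2, 1], 0)], [(1, true), (0, true), (0, true), (1, false), (0, false), (0, false), (0, false), (1, true), (0, true),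 (1, false), (0, false), (1, false)])
  , ([(1, [0, 2, 2, 0, 2, 0, 2, 0, 3, 0, 3, 3, 0, 2, 0, 2, 0, 3, 0, 3], 2), (149, [0, 2, 0, 2, 2, 2, 0, 2, 0, 3, 3, 0, 2, 0, 3, 3, 0, 3], 2), (30, [0, 3, 3, 0, 2, 0, 3, 3, 0, 2, 0, 2, 2, 2, 0, 2, 2, 0, 2, 1, 2], 0), (30, [2, 0, 3, 3, 0, 3, 3, 0, 3, 3, 0, 3, 0, 3, 3, 0], 0), (30, [0, 2, 2, 0, 3, 0, 3, 3, 0, 3, 0, 3, 0, 2, 2, 0], 3), (35, [0, 3, 0, 2, 0, 2, 2, 0, 3, 0, 3, 0, 2, 0, 3, 3, 0, 2, 2, 0, 2, 1, 3, 3], 3), (1, [2, 0, 3, 0, 3, 0, 2, 0, 2, 2, 0, 3, 0, 3, 3, 0, 3, 0, 3], 0), (1, [0, 2, 0, 2, 0, 3, 0, 3, 3, 0, 3, 0, 2, 0, 2, 0, 3, 0, 3, 3, 1, 3, 3], 0)], [(0, false), (1, true), (0, false), (1, false), (0, true), (1, false), (1, false), (0, false), (1, false), (0, true), (1,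 true)])
  , ([(1, [2, 2, 0, 2, 0, 3, 0, 3, 0, 3, 0, 2, 0, 2, 0, 3, 3, 0, 3, 0, 2, 2], 2), (20, [2, 2, 0, 2, 0, 2, 2, 2, 0, 3, 0, 3, 3, 0, 3, 3, 0, 2, 0, 2, 1, 2], 1), (91, [2, 0, 2, 0, 2, 0, 3, 3, 0, 3, 0, 2, 0, 2, 0, 3, 0, 3, 0, 3, 0, 3, 3], 0), (1, [0, 2, 2, 0, 3, 0, 2, 2, 0, 2, 0, 3, 3, 0, 2, 0, 3, 3, 0, 2, 1, 2], 0), (1, [3, 3, 0, 2, 0, 2, 0, 3, 0, 2, 2, 2, 0, 2, 1], 1), (35, [3, 0, 2, 0, 2, 2, 0, 2, 0, 2, 2, 0, 3, 3, 0, 3, 0, 3, 0, 3], 3), (1, [0, 3, 3, 0, 3, 0, 3, 0, 3, 3, 0, 3, 3, 0, 2, 0, 2, 2, 0], 0), (1, [2, 0, 2, 2, 0, 2, 0, 2, 0, 2, 2, 2, 0, 3, 1, 2, 2], 0)], [(1, false), (0, false), (1, false), (0, false), (1, true), (0, true), (1, false), (0, true), (0, true), (0, true), (1, true), (0, false), (0, false)])]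

/-- Walks of relation 30. -/
def cert30 : List (List StepCert × List (ℕ × Bool)) :=
  [([(0, [0, 2, 0, 3, 0, 3, 0, 3, 0, 2, 0, 2, 0, 3, 3, 0, 3, 0, 2, 2], 2), (326, [0, 3, 0, 3, 3, 0, 3, 3, 0, 2, 2, 0, 3, 3, 0, 3, 0, 2, 2, 2, 0], 1), (0, [3, 3, 0, 2, 0, 2, 0, 3, 0, 3, 0, 3, 0, 2, 2, 2, 1, 3, 3], 0), (18, [3, 0, 2, 2, 2, 0, 2, 2, 0, 3, 3, 0, 3, 0, 3, 3, 1], 3), (65, [3, 3, 0, 2, 0, 2, 0, 2, 0, 3, 0, 3, 3, 1, 2, 2, 2], 1), (330, [2, 2, 2, 0, 2, 2, 0, 2, 0, 2, 0, 2, 2, 2, 1, 2, 2], 0), (1, [2, 0, 2, 0, 3, 3, 0, 3, 3, 0, 2, 2, 0, 2, 0, 3, 3, 0, 2, 2, 2, 0], 1), (110, [2, 2, 0, 2, 2, 0, 2, 2, 0, 3, 3, 0, 3, 0, 3, 0], 3), (4, [3, 3, 0, 3, 3, 0, 2, 0, 2, 2, 0, 2, 0, 3, 3, 0, 3, 0], 0), (4, [3, 3, 0, 2, 2, 0, 2, 2, 0, 2,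 2, 0, 2, 2, 2, 1], 4), (0, [2, 0, 2, 0, 2, 0, 3, 0, 3, 0, 3, 3, 0, 2, 2, 0, 2, 1, 2], 4), (240, [0, 2, 0, 2, 2, 2, 0, 2, 0, 2, 0, 3, 0, 3, 0, 3, 3, 0, 2, 2, 2, 0, 3, 0, 2], 0)], [(1, false), (0, false), (1, true), (0, false), (1, true), (1, true), (0, false), (1, false), (1, false), (0, false), (1, true), (0, true), (1, false), (0, false), (1, false), (0, false), (1, false), (0, false), (1, true), (1, true)])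
  , ([(0, [0, 2, 0, 3, 0, 3, 0, 3, 0, 2, 0, 2, 0, 3, 3, 0, 3, 0, 2, 2], 2), (351, [0, 3, 0, 2, 2, 0, 3, 3, 0, 3, 0, 3, 3, 0, 2, 1], 4), (4, [0, 3, 3, 0, 3, 3, 0, 3, 0, 2, 2, 0, 2, 0, 3, 0, 3, 1, 3, 3], 0), (195, [0, 2, 0, 3, 3, 0, 2, 2, 0, 2, 0, 3, 3, 0, 2, 0, 2, 2, 2], 2), (86, [2, 0, 2, 0, 2, 2, 0, 3, 3, 0, 3, 0, 3, 3, 0, 2, 2, 0, 3, 0], 1), (219, [0, 2, 2, 2, 0, 2, 2, 0, 2, 0, 2, 0, 2, 2, 0, 3, 3, 0, 2, 2, 0, 2, 1, 2, 2], 0), (219, [2, 0, 3, 0, 3, 0, 3, 0, 2, 2, 0, 2, 2, 0, 3, 3, 0, 3, 3, 0], 4), (213, [0, 2, 2, 2, 0, 2, 0, 2, 0, 2, 2, 0, 2, 2, 0, 3], 1), (303, [0, 3, 0, 3, 0, 2, 0, 2, 2, 0, 2, 0, 2, 2, 2, 0, 3, 3, 0, 3], 0), (347, [0, 2, 2, 0, 2, 0, 3, 3, 0, 2, 0, 2, 2, 2, 1], 2), (35, [3, 3, 0, 3, 0, 2, 0, 2,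 0, 2, 2, 0, 2, 2, 2, 0, 2, 0, 3], 4), (0, [0, 2, 0, 2, 0, 3, 0, 2, 2, 0, 2, 2, 2, 1, 3], 0)], [(1, false), (0, true), (1, false), (0, false), (1, true), (0, true), (0, true), (1, true), (0, true), (0, true), (1, false), (1, false)])
  , ([(1, [0, 2, 0, 3, 0, 3, 0, 3, 0, 2, 0, 2, 0, 3, 3, 0, 3, 0, 2, 2], 2), (259, [3, 3, 0, 2, 0, 2, 0, 3, 0, 2, 2, 0, 2, 0, 3, 1, 3], 1), (91, [0, 3, 0, 3, 0, 2, 2, 2, 0, 3, 3, 0, 3, 0, 3, 0, 2, 0, 2, 0, 2, 0, 3], 0), (342, [3, 0, 2, 0, 2, 0, 2, 0, 2, 2, 2, 0, 2, 2, 0, 3, 0, 2, 2, 2, 0, 3], 1), (161, [2, 0, 2, 0, 3, 0, 3, 3, 0, 3, 0, 2, 0, 2, 0, 3, 1, 3, 3], 1), (181, [2, 0, 2, 2, 2, 0, 2, 0, 2, 0, 3, 0, 2, 2, 0], 0), (1, [2, 2, 2, 0, 2, 2, 0, 2, 2, 0, 3, 0, 3, 3, 0, 2, 1, 3, 3], 1),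 (35, [0, 2, 0, 3, 3, 0, 3, 0, 3, 3, 0, 3, 1, 3], 3), (1, [0, 2, 0, 3, 0, 3, 0, 3, 0, 3, 3, 0, 3, 0, 2, 0, 2, 2, 0, 3, 1, 2, 2], 0), (288, [3, 0, 2, 2, 0, 3, 0, 3, 3, 0, 3, 0, 2, 0, 2, 0, 2, 0, 3], 1), (199, [0, 3, 0, 3, 3, 0, 3, 0, 2, 0, 2, 2, 0, 3, 3, 0, 3, 1, 3, 3], 4), (7, [0, 3, 0, 3, 0, 3, 3, 0, 3, 0, 2, 2, 0, 3, 0, 3, 3, 0, 3, 1, 3], 0)], [(1, false), (0, false), (0, false), (1, true), (0, true), (1, false), (1, false), (0, false), (0, false), (1, true), (0, false), (0, false)])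
  , ([(1, [2, 0, 2, 0, 3, 0, 3, 0, 3, 0, 2, 0, 2, 0, 3, 3, 0, 3, 0, 2, 2], 2), (275, [3, 3, 0, 2, 0, 2, 2, 0, 3, 3, 0, 2, 2, 0, 2, 2, 0, 3, 1, 3], 3), (30, [3, 0, 2, 2, 2, 0, 2, 2, 0, 3, 0, 3, 3, 0, 3, 0, 3, 3], 0), (344, [0, 3, 0, 2, 0, 2, 2, 2, 0, 3, 3, 0, 3, 3, 0, 3, 3, 0, 2, 1, 2], 1), (113, [0, 2, 2, 0, 3, 0, 3, 3, 0, 3, 0, 2, 2, 0, 2, 2, 2, 0, 3, 3, 1, 3], 2), (217, [3, 0, 2, 2, 0, 3, 3, 0, 3, 0, 3, 0, 3, 3, 0, 2, 2, 2, 0, 3, 0, 2, 2, 0], 0), (0, [0, 3, 0, 2, 2, 0, 3, 0, 2, 2, 0, 3, 0, 3, 3, 0, 3, 0, 2, 2, 1, 2, 2], 3), (1, [3, 3, 0, 2, 2, 0, 3, 3, 0, 3, 0, 2, 2, 0, 3, 0, 2, 2, 2, 1], 2), (1, [3, 0, 2, 0, 2, 2, 0, 3, 3, 0, 3, 0, 2, 0, 2, 2, 0, 3, 0], 0), (0, [0, 2, 0, 2, 2, 0, 2, 0, 3, 0, 2, 2, 0, 2, 2, 0,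 3, 3, 1], 4), (4, [0, 3, 3, 0, 3, 3, 0, 3, 3, 0, 3, 0, 2, 2, 0, 3, 0, 2, 2, 2, 0, 2, 1, 2, 2], 4), (240, [0, 3, 3, 0, 3, 3, 0, 2, 2, 0, 3, 3, 0, 2, 2, 2, 1], 0)], [(1, false), (0, false), (0, false), (1, false), (0, true), (1, false), (0, true), (0, true), (0, true), (1, true), (0, true), (1, false), (0, false)])
  , ([(1, [0, 2, 2, 0, 2, 0, 2, 0, 3, 0, 3, 3, 0, 2, 0, 2, 0, 3, 0, 3], 2), (149, [0, 2, 0, 2, 2, 2, 0, 2, 0, 3, 3, 0, 2, 0, 3, 3, 0, 3], 2), (30, [0, 3, 3, 0, 2, 0, 3, 3, 0, 2, 0, 2, 2, 2, 0, 2, 2, 0, 2, 1, 2], 0), (110, [2, 2, 0, 2, 0, 3, 0, 3, 0, 2, 0, 2, 2, 0, 2, 2, 0, 3, 3, 0, 2], 1), (144, [2, 0, 3, 0, 2, 2, 0, 3, 0, 2, 2, 2, 0, 3, 3, 0, 3, 0, 3, 0, 3, 3, 0], 3), (1, [0, 3, 0, 2, 0, 2, 2, 0, 2, 0,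 3, 3, 0, 2, 0, 2, 2, 0, 2, 2, 1, 3], 0), (1, [0, 2, 0, 3, 3, 0, 2, 0, 2, 2, 2, 0, 2, 2, 0, 3, 0, 3, 3, 0, 2], 1), (100, [0, 2, 0, 3, 3, 0, 3, 0, 3, 3, 0, 3, 0, 2, 2, 0, 2, 0, 2, 2, 1, 3, 3], 2), (9, [2, 2, 0, 3, 3, 0, 3, 3, 0, 3, 0, 3, 0, 2, 0, 2, 0, 3, 1], 0), (305, [2, 2, 0, 2, 2, 0, 2, 2, 0, 3, 0, 3, 3, 0, 3, 0, 3, 3, 0, 2, 2, 0], 1), (3, [0, 2, 2, 0, 3, 3, 0, 2, 2, 0, 2, 0, 3, 3, 0, 3, 0, 3, 0, 2, 1, 3, 3], 4), (12, [0, 3, 0, 3, 3, 0, 3, 3, 0, 3, 0, 2, 0, 2, 0, 3], 0)], [(0, false), (1, false), (0, false), (1, false), (1, false), (0, false), (1, true), (0, true), (1, false), (0, true), (1, true)])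
  , ([(1, [2, 2, 0, 2, 0, 3, 0, 3, 0, 3, 0, 2, 0, 2, 0, 3, 3, 0, 3, 0, 2, 2], 2), (20, [2, 2, 0, 2, 0, 2, 2, 2, 0, 3, 0, 3, 3, 0, 3, 3, 0, 2, 0, 2, 1, 2], 1), (91, [2, 0, 2, 0, 2, 0, 3, 3, 0, 3, 0, 2, 0, 2, 0, 3, 0, 3, 0, 3, 0, 3, 3], 0), (0, [0, 3, 0, 3, 0, 2, 2, 0, 2, 0, 2, 0, 2, 2, 2, 0, 2, 0, 2, 1], 3), (3, [0, 3, 0, 2, 0, 3, 3, 0, 3, 0, 3, 3, 0, 2, 2, 0, 2, 0, 3, 0, 3, 1, 3], 3), (274, [0, 2, 0, 3, 0, 3, 0, 2, 0, 2, 0, 2, 2, 0, 2, 2, 0], 0), (1, [3, 0, 2, 0, 2, 0, 2, 0, 3, 0, 3, 0, 3, 3, 0, 2, 2, 0, 3, 3], 1), (35, [0, 3, 0, 2, 0, 2, 0, 3, 3, 0, 3, 0, 2, 2, 2, 0, 2, 0], 3), (1, [2, 0, 2, 0, 2, 2, 0, 3, 0, 2, 2, 0, 2, 2, 0, 3, 0, 3, 3, 0], 0), (0, [3, 0, 2, 2, 2, 0, 2, 2, 0, 3, 3, 0, 2, 2, 0, 3, 3, 0], 4), (331,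 [2, 0, 2, 2, 0, 2, 0, 2, 0, 3, 0, 3, 3, 0, 3, 0, 3, 0, 2, 0, 2], 3), (240, [2, 0, 3, 0, 3, 0, 3, 0, 2, 2, 0, 2, 2, 0, 3, 3, 0, 2, 2, 0, 2, 0, 3, 1], 0)], [(1, false), (0, false), (1, true), (0, false), (0, false), (1, false), (0, true), (1, false), (0, true), (1, false), (0, false), (1, false), (1, false), (0, false)])]

/-- Walks of relation 31. -/
def cert31 : List (List StepCert × List (ℕ × Bool)) :=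
  [([(0, [0, 2, 0, 3, 0, 3, 0, 3, 0, 2, 0, 2, 0, 3, 3, 0, 3, 0, 2, 2], 2), (326, [0, 3, 0, 3, 3, 0, 3, 3, 0, 2, 2, 0, 3, 3, 0, 3, 0, 2, 2, 2, 0], 1), (0, [3, 3, 0, 2, 0, 2, 0, 3, 0, 3, 0, 3, 0, 2, 2, 2, 1, 3, 3], 0), (0, [3, 3, 0, 2, 2, 0, 2, 0, 3, 3, 0, 3, 3, 0, 3, 0, 3, 1], 0), (0, [2, 2, 0, 3, 0, 3, 0, 3, 3, 0, 2, 0, 2, 2, 0, 2, 0, 2, 1], 4), (0, [0, 3, 0, 2, 0, 2, 0, 2, 2, 2, 0, 3, 3, 0, 3, 0, 3, 1, 3, 3], 4), (0, [0, 3, 0, 3, 0, 2, 2, 2, 0, 3, 0, 3, 0, 2, 0, 3, 3, 0, 2, 1], 0), (0, [3, 0, 2, 2, 0, 2, 0, 3, 0, 3, 0, 2, 2, 0, 2, 0, 2, 0, 3, 1, 3], 0)], [(1, true), (0, false), (1, false), (1, false), (0, false), (1, false), (0, false), (1, true), (0, false), (1, true), (0, true), (1, false), (1, false), (0, false),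 (1, false), (0, false), (1, false), (0, false), (1, true), (0, false), (1, true)])
  , ([(0, [0, 2, 0, 3, 0, 3, 0, 3, 0, 2, 0, 2, 0, 3, 3, 0, 3, 0, 2, 2], 2), (351, [0, 3, 0, 2, 2, 0, 3, 3, 0, 3, 0, 3, 3, 0, 2, 1], 4), (4, [0, 3, 3, 0, 3, 3, 0, 3, 0, 2, 2, 0, 2, 0, 3, 0, 3, 1, 3, 3], 0), (0, [0, 2, 0, 3, 0, 2, 2, 0, 3, 0, 3, 3, 0, 2, 2, 2, 1, 2], 0), (0, [2, 0, 2, 2, 2, 0, 2, 2, 0, 2, 0, 2, 0, 2, 2, 0, 3, 3], 4), (0, [0, 3, 0, 3, 3, 0, 2, 2, 0, 2, 2, 0, 2, 2, 0, 3, 0, 3, 3, 0, 3], 1), (0, [0, 3, 0, 3, 0, 3, 0, 2, 0, 2, 0, 2, 0, 3, 0, 3, 3], 0), (0, [2, 2, 0, 2, 0, 2, 2, 0, 2, 0, 3, 3, 0, 3, 3, 0, 3, 0, 3, 0], 0)], [(0, false), (0, false), (1, true), (0, false), (1, false), (0, true), (1, false), (1, false), (0, true),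 (0, true), (1, true)])
  , ([(1, [0, 2, 0, 3, 0, 3, 0, 3, 0, 2, 0, 2, 0, 3, 3, 0, 3, 0, 2, 2], 2), (259, [3, 3, 0, 2, 0, 2, 0, 3, 0, 2, 2, 0, 2, 0, 3, 1, 3], 1), (91, [0, 3, 0, 3, 0, 2, 2, 2, 0, 3, 3, 0, 3, 0, 3, 0, 2, 0, 2, 0, 2, 0, 3], 0), (1, [3, 0, 3, 0, 2, 2, 2, 0, 2, 0, 2, 0, 2, 2, 0, 3, 3, 0, 2, 2], 0), (1, [3, 0, 3, 0, 2, 0, 2, 2, 0, 3, 0, 3, 3, 0, 3, 0, 2, 0, 2, 0, 2, 2, 1, 3], 1), (35, [0, 3, 0, 3, 0, 2, 2, 2, 0, 2, 2, 0, 3, 3, 1, 3, 3], 3), (1, [2, 0, 3, 0, 2, 2, 0, 2, 2, 0, 2, 2, 0, 2, 0, 3, 0, 3, 0], 0), (1, [3, 0, 2, 0, 3, 3, 0, 3, 3, 0, 3, 3, 0, 2, 2, 2, 1, 2], 0)], [(1, false), (1, false), (0, false), (0, false), (0, false), (1, true), (0, false), (1, false), (0, true), (1, false), (0, false), (0,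 false), (0, false)])
  , ([(1, [2, 0, 2, 0, 3, 0, 3, 0, 3, 0, 2, 0, 2, 0, 3, 3, 0, 3, 0, 2, 2], 2), (275, [3, 3, 0, 2, 0, 2, 2, 0, 3, 3, 0, 2, 2, 0, 2, 2, 0, 3, 1, 3], 3), (30, [3, 0, 2, 2, 2, 0, 2, 2, 0, 3, 0, 3, 3, 0, 3, 0, 3, 3], 0), (30, [0, 2, 0, 3, 0, 2, 2, 0, 2, 2, 0, 2, 2, 0, 2, 0, 2, 2, 1], 0), (30, [0, 3, 0, 3, 0, 2, 0, 3, 3, 1, 3], 3), (35, [0, 2, 0, 2, 0, 3, 3, 0, 2, 0, 3, 3, 0, 2, 0, 2, 2, 0, 2, 2], 3), (1, [0, 3, 0, 3, 0, 2, 2, 0, 2, 2, 0, 2, 0, 3, 3, 0, 2, 0, 3, 3, 0, 3, 1, 2], 0), (1, [0, 3, 0, 3, 3, 0, 2, 0, 3, 3, 0, 2, 0, 2, 2, 0, 3, 0, 3, 3, 0, 2, 1], 0)], [(1, true), (0, true), (0, true), (1, false), (0, false), (0, false), (0, false), (1, true), (0, true), (1, false), (0, false), (1, false)])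
  , ([(1, [0, 2, 2, 0, 2, 0, 2, 0, 3, 0, 3, 3, 0, 2, 0, 2, 0, 3, 0, 3], 2), (149, [0, 2, 0, 2, 2, 2, 0, 2, 0, 3, 3, 0, 2, 0, 3, 3, 0, 3], 2), (30, [0, 3, 3, 0, 2, 0, 3, 3, 0, 2, 0, 2, 2, 2, 0, 2, 2, 0, 2, 1, 2], 0), (30, [0, 2, 0, 2, 0, 2, 0, 3, 0, 3, 3, 0, 2, 0, 2, 0, 2, 0, 3, 0], 0), (30, [0, 2, 0, 2, 0, 2, 0, 3, 0, 3, 0, 2, 0, 3, 3, 0, 3, 1, 2, 2], 3), (35, [0, 3, 3, 0, 2, 0, 2, 2, 0, 3, 3, 0, 3, 0, 3, 3, 0, 3, 0, 2, 2, 0, 3, 1], 3), (1, [2, 2, 0, 2, 0, 3, 0, 3, 0, 3, 0, 2, 0, 2, 2, 2, 0, 2, 0], 0), (1, [0, 2, 0, 2, 0, 3, 0, 3, 3, 0, 3, 0, 2, 0, 2, 0, 3, 0, 3, 3, 1, 3, 3], 0)], [(0, false), (1, true), (0, false), (1, false), (0, true), (1, false), (1, false), (0, false), (1, false), (0, true), (1, true)])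
  , ([(1, [2, 2, 0, 2, 0, 3, 0, 3, 0, 3, 0, 2, 0, 2, 0, 3, 3, 0, 3, 0, 2, 2], 2), (20, [2, 2, 0, 2, 0, 2, 2, 2, 0, 3, 0, 3, 3, 0, 3, 3, 0, 2, 0, 2, 1, 2], 1), (91, [2, 0, 2, 0, 2, 0, 3, 3, 0, 3, 0, 2, 0, 2, 0, 3, 0, 3, 0, 3, 0, 3, 3], 0), (1, [0, 2, 2, 0, 2, 2, 0, 3, 0, 3, 3, 0, 3, 0, 2, 2, 2, 0, 2], 0), (1, [2, 0, 2, 2, 2, 0, 2, 0, 2, 0, 3, 0, 3, 0, 3, 3, 0, 2, 2, 0], 1), (35, [0, 2, 0, 3, 3, 0, 2, 0, 3, 3, 0, 2, 2, 2, 0, 3, 0, 3, 0, 3], 3), (1, [3, 0, 2, 0, 2, 0, 2, 0, 2, 2, 0, 2, 0, 3, 0, 2, 2, 2, 0, 3, 3], 0), (1, [2, 0, 2, 2, 0, 2, 0, 2, 0, 2, 2, 2, 0, 3, 1, 2, 2], 0)], [(1, false), (0, false), (1, false), (0, false), (1, true), (0, true), (1, false), (0, true), (0, true), (0, true), (1, true), (0, false), (0,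 false)])]

/-- Walks of relation 32. -/
def cert32 : List (List StepCert × List (ℕ × Bool)) :=
  [([(0, [0, 2, 0, 3, 0, 3, 0, 3, 0, 2, 0, 2, 0, 3, 3, 0, 3, 0, 2, 2], 2), (326, [0, 3, 0, 3, 3, 0, 3, 3, 0, 2, 2, 0, 3, 3, 0, 3, 0, 2, 2, 2, 0], 1), (0, [3, 3, 0, 2, 0, 2, 0, 3, 0, 3, 0, 3, 0, 2, 2, 2, 1, 3, 3], 0), (46, [0, 2, 0, 2, 2, 2, 0, 2, 0, 3, 0, 3, 0, 3, 3, 0, 2, 2, 0, 3, 0, 2, 2], 0), (0, [2, 2, 2, 0, 2, 0, 2, 0, 2, 2, 0, 2, 2, 0, 2, 2, 2, 0, 3], 4), (0, [3, 0, 3, 0, 2, 2, 2, 0, 2, 2, 0, 2, 2, 0, 2, 0, 2, 0, 2, 2, 1], 4), (0, [0, 3, 0, 3, 3, 0, 2, 0, 2, 2, 0, 2, 2, 0, 2, 0, 2, 0, 2, 2, 1, 2], 0), (201, [0, 3, 0, 2, 2, 0, 3, 0, 3, 3, 0, 3, 3, 0, 3, 0, 3, 0, 3, 3, 1, 2], 0)], [(0, false), (1, true), (0, false),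 (1, false), (1, false), (0, false), (1, true), (0, false), (1, true), (1, true), (0, true), (1, true), (1, true), (0, false), (1, true), (0, false), (1, true), (0, false), (1, true), (1, true), (0, false), (1, false)])
  , ([(0, [0, 2, 0, 3, 0, 3, 0, 3, 0, 2, 0, 2, 0, 3, 3, 0, 3, 0, 2, 2], 2), (351, [0, 3, 0, 2, 2, 0, 3, 3, 0, 3, 0, 3, 3, 0, 2, 1], 4), (4, [0, 3, 3, 0, 3, 3, 0, 3, 0, 2, 2, 0, 2, 0, 3, 0, 3, 1, 3, 3], 0), (16, [0, 2, 2, 0, 3, 0, 3, 0, 2, 0, 2, 0, 2, 2, 2, 0, 3, 3, 0, 3, 0], 0), (1, [3, 0, 3, 3, 0, 2, 0, 2, 0, 3, 0, 3, 3, 0, 3, 0, 2, 2, 0, 3, 1, 3], 3), (213, [0, 3, 0, 3, 0, 3, 0, 2, 2, 0, 2, 0, 2, 0, 3, 0, 3, 0, 2, 2], 3), (6, [0, 3, 3, 0, 2, 2, 0, 3, 3, 0, 2, 2, 0, 2, 0, 2, 0, 3, 1], 0), (0, [0,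 2, 0, 2, 2, 0, 3, 0, 2, 2, 2, 0, 2, 0, 2, 2, 0, 3, 3, 0, 3, 0, 2, 1], 0)], [(1, false), (0, true), (1, false), (0, false), (1, true), (0, true), (1, false), (0, true), (1, false), (0, false), (0, false), (0, false)])
  , ([(1, [0, 2, 0, 3, 0, 3, 0, 3, 0, 2, 0, 2, 0, 3, 3, 0, 3, 0, 2, 2], 2), (259, [3, 3, 0, 2, 0, 2, 0, 3, 0, 2, 2, 0, 2, 0, 3, 1, 3], 1), (91, [0, 3, 0, 3, 0, 2, 2, 2, 0, 3, 3, 0, 3, 0, 3, 0, 2, 0, 2, 0, 2, 0, 3], 0), (195, [0, 2, 2, 0, 2, 0, 3, 3, 0, 3, 3, 0, 2, 2, 0, 2, 2, 1, 2, 2, 2], 0), (1, [3, 0, 3, 0, 2, 0, 2, 2, 0, 3, 0, 3, 3, 0, 3, 0, 2, 0, 2, 0, 2, 2, 1, 3], 1), (35, [0, 3, 0, 3, 0, 2, 2, 2, 0, 2, 2, 0, 3, 3, 1, 3, 3], 3), (1, [2, 0, 3, 0, 2, 2, 0, 2, 2, 0, 2, 2, 0, 2, 0, 3, 0, 3, 0], 0),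 (2, [2, 2, 0, 2, 0, 2, 0, 3, 0, 3, 3, 0, 2, 2, 2, 1, 2, 2], 0)], [(1, false), (0, true), (1, false), (1, false), (0, false), (0, false), (1, false), (0, false), (1, true), (0, true), (1, false)])
  , ([(1, [2, 0, 2, 0, 3, 0, 3, 0, 3, 0, 2, 0, 2, 0, 3, 3, 0, 3, 0, 2, 2], 2), (275, [3, 3, 0, 2, 0, 2, 2, 0, 3, 3, 0, 2, 2, 0, 2, 2, 0, 3, 1, 3], 3), (30, [3, 0, 2, 2, 2, 0, 2, 2, 0, 3, 0, 3, 3, 0, 3, 0, 3, 3], 0), (106, [2, 0, 2, 0, 2, 0, 3, 0, 3, 0, 2, 0, 2, 0, 2, 2, 1], 0), (0, [3, 0, 2, 2, 0, 3, 3, 0, 3, 0, 3, 3, 0, 2, 2, 0, 2, 0, 3, 3, 1, 3], 4), (1, [0, 2, 2, 2, 0, 2, 2, 0, 2, 0, 3, 0, 2, 2, 1], 1), (244, [0, 3, 0, 2, 0, 2, 2, 0, 3, 3, 0, 3, 0, 2, 0, 2, 0, 3, 0, 2, 2, 2, 1, 3], 0), (246, [3, 0, 2, 0, 2, 0, 2, 2, 0,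 3, 3, 0, 2, 2, 0, 2, 2, 0, 3, 0, 3, 3, 0], 0)], [(0, false), (0, false), (1, false), (0, true), (1, true), (0, true), (0, true), (1, false), (1, false), (0, false), (0, false), (0, false)])
  , ([(1, [0, 2, 2, 0, 2, 0, 2, 0, 3, 0, 3, 3, 0, 2, 0, 2, 0, 3, 0, 3], 2), (149, [0, 2, 0, 2, 2, 2, 0, 2, 0, 3, 3, 0, 2, 0, 3, 3, 0, 3], 2), (30, [0, 3, 3, 0, 2, 0, 3, 3, 0, 2, 0, 2, 2, 2, 0, 2, 2, 0, 2, 1, 2], 0), (96, [0, 2, 2, 0, 2, 0, 2, 0, 2, 2, 2, 0, 2, 0, 2, 2, 1, 3], 0), (219, [3, 0, 2, 0, 2, 0, 2, 2, 0, 2, 0, 3, 3, 0, 3, 3, 0, 3, 0, 3, 0, 3], 3), (239, [0, 2, 0, 2, 0, 3, 3, 0, 2, 0, 3, 3, 0, 2, 0, 2, 0, 2, 0, 3, 0, 3, 3, 1, 3], 1), (1, [3, 0, 3, 0, 3, 3, 0, 2, 0, 2, 0, 2, 2, 0, 3, 3, 0, 2, 1], 0), (13, [0, 2, 0, 3, 0,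 2, 2, 0, 3, 0, 2, 2, 0, 2, 0, 2, 2, 0, 3, 3], 0)], [(0, false), (1, false), (0, false), (0, false), (1, false), (0, true), (1, true), (0, true), (0, true), (1, true), (0, false), (0, false), (1, false)])
  , ([(1, [2, 2, 0, 2, 0, 3, 0, 3, 0, 3, 0, 2, 0, 2, 0, 3, 3, 0, 3, 0, 2, 2], 2), (20, [2, 2, 0, 2, 0, 2, 2, 2, 0, 3, 0, 3, 3, 0, 3, 3, 0, 2, 0, 2, 1, 2], 1), (91, [2, 0, 2, 0, 2, 0, 3, 3, 0, 3, 0, 2, 0, 2, 0, 3, 0, 3, 0, 3, 0, 3, 3], 0), (195, [0, 2, 0, 2, 0, 3, 0, 3, 0, 3, 0, 3, 3, 0, 2, 2, 0, 2, 2, 2, 0, 3], 0), (1, [2, 0, 2, 2, 2, 0, 2, 0, 2, 0, 3, 0, 3, 0, 3, 3, 0, 2, 2, 0], 1), (35, [0, 2, 0, 3, 3, 0, 2, 0, 3, 3, 0, 2, 2, 2, 0, 3, 0, 3, 0, 3], 3), (1, [3, 0, 2, 0, 2, 0, 2, 0, 2, 2, 0, 2, 0, 3, 0, 2, 2, 2, 0,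 3, 3], 0), (2, [2, 0, 3, 0, 3, 0, 3, 3, 0, 2, 0, 2, 2, 1, 3, 3], 0)], [(0, true), (0, true), (1, false), (0, true), (0, true), (1, false), (1, false), (0, false), (1, true), (0, true), (1, false), (0, false)])]

/-- Walks of relation 33. -/
def cert33 : List (List StepCert × List (ℕ × Bool)) :=
  [([(0, [0, 2, 0, 3, 0, 3, 0, 3, 0, 2, 0, 2, 0, 3, 3, 0, 3, 0, 2, 2], 2), (326, [0, 3, 0, 3, 3, 0, 3, 3, 0, 2, 2, 0, 3, 3, 0, 3, 0, 2, 2, 2, 0], 1), (0, [3, 3, 0, 2, 0, 2, 0, 3, 0, 3, 0, 3, 0, 2, 2, 2, 1, 3, 3], 0), (0, [3, 0, 2, 0, 2, 0, 2, 0, 3, 3, 0, 3, 0, 2, 2, 0, 3, 0, 2, 2, 0, 2], 0), (0, [3, 0, 2, 2, 2, 0, 2, 2, 0, 2, 0, 2, 0, 2, 2, 0, 3, 3, 0, 3, 1, 3], 4), (0, [0, 3, 3, 0, 3, 3, 0, 2, 0, 2, 2, 0, 2, 2, 0, 2, 0, 3,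 3, 0, 3, 0, 3, 0], 4), (0, [2, 2, 0, 2, 2, 0, 2, 0, 2, 0, 2, 2, 0, 2, 2, 0, 2, 0, 3], 0), (0, [3, 0, 2, 2, 0, 2, 0, 3, 0, 3, 0, 2, 2, 0, 2, 0, 2, 0, 3, 1, 3], 0)], [(1, true), (0, false), (1, false), (1, false), (0, false), (1, false), (0, false), (1, true), (0, false), (1, true), (0, true), (1, false), (1, false), (0, false), (1, false), (0, false), (1, false), (0, false), (1, true), (0, false), (1, true)])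
  , ([(0, [0, 2, 0, 3, 0, 3, 0, 3, 0, 2, 0, 2, 0, 3, 3, 0, 3, 0, 2, 2], 2), (351, [0, 3, 0, 2, 2, 0, 3, 3, 0, 3, 0, 3, 3, 0, 2, 1], 4), (4, [0, 3, 3, 0, 3, 3, 0, 3, 0, 2, 2, 0, 2, 0, 3, 0, 3, 1, 3, 3], 0), (0, [3, 3, 0, 2, 2, 0, 2, 0, 2, 2, 2, 0, 2, 0, 2, 0, 3, 1, 2, 2], 0), (0, [2, 2, 0, 2, 0, 2, 2, 0, 2, 0, 2, 0, 3, 0, 3, 3, 0, 3, 1, 3, 3], 4), (0, [2, 2, 0, 2, 0, 2, 2, 0, 2, 0, 3, 0, 3, 0, 3, 3, 0, 3, 0, 3, 3], 1), (0, [2, 2, 0, 2, 2, 0, 2, 0, 3, 3, 0, 2, 0, 3, 3, 0, 2, 0, 2, 2, 0, 3, 0, 3, 1, 2], 0), (0, [2, 2, 0, 2, 0, 2, 2, 0, 2, 0, 3, 3, 0, 3, 3, 0, 3, 0, 3, 0], 0)], [(0, false), (0, false), (1, true), (0, false), (1, false), (0, true), (1, false), (1, false), (0, true), (0, true), (1, true)])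
  , ([(1, [0, 2, 0, 3, 0, 3, 0, 3, 0, 2, 0, 2, 0, 3, 3, 0, 3, 0, 2, 2], 2), (259, [3, 3, 0, 2, 0, 2, 0, 3, 0, 2, 2, 0, 2, 0, 3, 1, 3], 1), (91, [0, 3, 0, 3, 0, 2, 2, 2, 0, 3, 3, 0, 3, 0, 3, 0, 2, 0, 2, 0, 2, 0, 3], 0), (1, [0, 2, 0, 2, 0, 3, 3, 0, 2, 0, 2, 2, 0, 3, 0, 3, 0, 3, 3, 1, 3, 3], 0), (1, [0, 2, 0, 3, 0, 2, 2, 2, 0, 2, 2, 0, 3, 3, 1, 3, 3], 1), (35, [0, 2, 2, 0, 2, 0, 3, 0, 3, 0, 2, 0, 2, 0, 2, 0, 2], 3), (1, [0, 2, 0, 3, 0, 3, 0, 3, 3, 0, 2, 2, 0, 2, 0, 2, 2, 2, 0, 2], 0), (1, [3, 0, 2, 0, 3, 3, 0, 3, 3, 0, 3, 3, 0, 2, 2, 2, 1, 2], 0)], [(1, false), (1, false), (0, false), (0, false), (0, false), (1, true), (0, false), (1, false), (0, true), (1, false), (0, false), (0, false), (0, false)])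
  , ([(1, [2, 0, 2, 0, 3, 0, 3, 0, 3, 0, 2, 0, 2, 0, 3, 3, 0, 3, 0, 2, 2], 2), (275, [3, 3, 0, 2, 0, 2, 2, 0, 3, 3, 0, 2, 2, 0, 2, 2, 0, 3, 1, 3], 3), (30, [3, 0, 2, 2, 2, 0, 2, 2, 0, 3, 0, 3, 3, 0, 3, 0, 3, 3], 0), (30, [0, 2, 0, 3, 0, 3, 3, 0, 2, 2, 0, 2, 0, 3, 3, 0, 3, 3, 1], 0), (30, [2, 0, 2, 0, 2, 0, 3, 0, 3, 3, 0, 2, 2, 0, 3, 0, 3, 3], 3), (35, [3, 3, 0, 2, 2, 0, 3, 3, 0, 3, 0, 2, 2, 0, 2, 2, 0, 2, 2, 0, 3, 0, 3], 3), (1, [2, 2, 0, 2, 0, 3, 3, 0, 3, 0, 3, 0, 3, 3, 1, 2, 2, 2], 0), (1, [0, 3, 0, 3, 3, 0, 2, 0, 3, 3, 0, 2, 0, 2, 2, 0, 3, 0, 3, 3, 0, 2, 1], 0)], [(1, true), (0, true), (0, true), (1, false), (0, false), (0, false), (0, false), (1, true), (0, true), (1, false), (0, false), (1, false)])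
  , ([(1, [0, 2, 2, 0, 2, 0, 2, 0, 3, 0, 3, 3, 0, 2, 0, 2, 0, 3, 0, 3], 2), (149, [0, 2, 0, 2, 2, 2, 0, 2, 0, 3, 3, 0, 2, 0, 3, 3, 0, 3], 2), (30, [0, 3, 3, 0, 2, 0, 3, 3, 0, 2, 0, 2, 2, 2, 0, 2, 2, 0, 2, 1, 2], 0), (30, [2, 0, 3, 3, 0, 2, 0, 2, 2, 0, 2, 0, 2, 0, 2, 2, 2, 0, 3, 1], 0), (30, [0, 3, 0, 3, 0, 3, 0, 3, 3, 0, 3, 0, 2, 0, 2, 0, 2, 1, 2], 3), (35, [2, 0, 2, 2, 0, 2, 0, 2, 0, 3, 0, 3, 3, 1, 3], 3), (1, [3, 0, 3, 0, 3, 0, 2, 0, 2, 2, 0, 2, 0, 3, 3, 0, 2, 0, 2, 2, 0, 3, 1], 0), (1, [0, 2, 0, 2, 0, 3, 0, 3, 3, 0, 3, 0, 2, 0, 2, 0, 3, 0, 3, 3, 1, 3, 3], 0)], [(0, false), (1, true), (0, false), (1, false), (0, true), (1, false), (1, false), (0, false), (1, false), (0, true), (1, true)])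
  , ([(1, [2, 2, 0, 2, 0, 3, 0, 3, 0, 3, 0, 2, 0, 2, 0, 3, 3, 0, 3, 0, 2, 2], 2), (20, [2, 2, 0, 2, 0, 2, 2, 2, 0, 3, 0, 3, 3, 0, 3, 3, 0, 2, 0, 2, 1, 2], 1), (91, [2, 0, 2, 0, 2, 0, 3, 3, 0, 3, 0, 2, 0, 2, 0, 3, 0, 3, 0, 3, 0, 3, 3], 0), (1, [0, 2, 0, 3, 3, 0, 3, 0, 2, 2, 2, 0, 2, 0, 3, 0, 3, 3], 0), (1, [0, 2, 0, 2, 2, 0, 3, 3, 0, 3, 0, 3, 3, 0, 3, 0, 2, 2, 0, 2, 0, 2, 2, 1, 3], 1), (35, [0, 2, 0, 2, 0, 2, 2, 2, 0, 2, 2, 0, 2, 1, 3, 3], 3), (1, [0, 3, 0, 3, 0, 2, 0, 3, 3, 0, 2, 2, 2, 0, 3, 0, 3, 3, 0, 3, 3], 0), (1, [2, 0, 2, 2, 0, 2, 0, 2, 0, 2, 2, 2, 0, 3, 1, 2, 2], 0)], [(1, false), (0, false), (1, false), (0, false), (1, true), (0, true), (1, false), (0, true), (0, true), (0, true), (1, true), (0, false), (0,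 false)])]

/-- Walks of relation 34. -/
def cert34 : List (List StepCert × List (ℕ × Bool)) :=
  [([(5, [3, 0, 2, 0, 2, 0, 3, 0, 3, 3, 0, 2, 2, 2, 0, 3, 0, 3, 0, 3], 1), (26, [2, 0, 3, 0, 2, 2, 0, 3, 0, 3, 3, 0, 2, 2, 0, 2, 0, 2, 0, 2, 2, 0, 2, 2], 1), (76, [2, 0, 3, 0, 2, 2, 0, 2, 0, 3, 3, 0, 3, 3, 0, 2, 2, 0, 2, 0, 3, 3, 1, 3], 0), (0, [3, 0, 2, 2, 0, 2, 2, 0, 2, 2, 0, 3, 0, 3, 3, 0, 2, 0, 2, 2], 3), (94, [3, 0, 3, 0, 2, 0, 2, 0, 3, 3, 0, 3, 0, 2, 2, 0, 3, 0, 2, 2, 2, 1, 3], 1), (91, [3, 0, 3, 3, 0, 2, 0, 2, 2, 0, 2, 2, 0, 2, 0, 3, 3, 0, 2, 0, 2], 0), (272, [2, 0, 2, 2, 2, 0, 2, 0, 3, 3, 0, 2, 0, 2, 2, 0, 3, 0, 3, 3, 0], 1), (110, [0, 2, 0, 2, 0, 2, 0, 3, 0, 3, 3, 0, 3, 3, 0, 3, 3, 1, 2, 2, 2], 3), (34, [0, 3,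 0, 3, 0, 2, 2, 0, 2, 0, 2, 2, 0, 2, 0, 3, 3, 0, 3, 0, 3, 3], 0), (0, [2, 2, 0, 2, 2, 2, 0, 3, 0, 3, 3, 0, 2, 2, 0, 3, 3, 0, 2], 4), (0, [0, 3, 3, 0, 2, 0, 3, 3, 0, 2, 2, 2, 0, 2, 2, 0, 2, 0, 3, 1, 3], 4), (0, [2, 2, 2, 0, 2, 2, 2, 0, 3, 0, 3, 0, 2, 0, 2, 0, 2, 1, 2, 2], 0)], [(2, false), (1, true), (2, false), (1, true), (1, true), (2, false), (1, true), (0, false), (1, false), (1, false), (2, false), (1, false), (1, false), (1, false), (2, false), (1, true), (2, false), (1, false), (1, false), (0, false)])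
  , ([(5, [3, 0, 2, 0, 2, 0, 3, 0, 3, 3, 0, 2, 2, 2, 0, 3, 0, 3, 0, 3], 1), (18, [0, 2, 2, 0, 2, 2, 2, 0, 3, 0, 3, 3, 0, 2, 2, 0, 2, 0, 2, 2], 1), (0, [0, 3, 3, 0, 2, 0, 2, 0, 2, 0, 3, 0, 3, 0, 2, 2, 0, 2, 0, 3, 1], 0), (0, [2, 2, 2, 0, 2, 2, 0, 3, 3, 0, 3, 0, 3, 1, 2, 2], 3), (55, [2, 0, 3, 0, 2, 2, 0, 3, 3, 0, 3, 3, 0, 3, 3, 0, 2, 2, 0, 2, 0], 3), (303, [3, 0, 3, 3, 0, 3, 0, 3, 0, 2, 0, 2, 0, 2, 0, 3, 0, 2, 2, 0], 0), (25, [0, 2, 0, 3, 0, 3, 3, 0, 2, 2, 0, 2, 0, 3, 3, 0, 3, 3, 0, 2, 2, 1, 3], 3), (25, [2, 0, 2, 0, 3, 0, 2, 2, 0, 2, 2, 2, 0, 3, 0, 2, 2, 0, 3, 0, 3, 3, 1], 3), (303, [2, 2, 0, 2, 0, 3, 3, 0, 3, 0, 2, 0, 2, 0, 3, 0, 3, 0, 2, 0], 0), (303, [2, 0, 2, 2, 2, 0, 3, 0, 3, 3, 0, 2, 2, 0, 3, 1], 3), (0, [0,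 2, 0, 3, 3, 0, 3, 3, 0, 3, 3, 0, 3, 0, 3, 0, 3, 3, 0, 2, 2, 2, 1, 3], 3), (0, [2, 0, 3, 0, 3, 3, 0, 2, 2, 0, 2, 0, 2, 0, 3, 3, 0, 3, 3, 0, 2], 0)], [(1, false), (0, false), (0, false), (0, false), (1, false), (0, false), (0, false), (0, false), (1, false), (1, false), (0, true), (1, false)])
  , ([(14, [3, 0, 2, 0, 2, 0, 3, 0, 3, 3, 0, 2, 2, 2, 0, 3, 0, 3, 0, 3], 4), (300, [0, 3, 0, 2, 0, 2, 0, 3, 0, 2, 2, 0, 2, 0, 3, 0, 2, 2, 1, 2], 3), (325, [0, 2, 2, 0, 3, 0, 2, 2, 0, 2, 2, 0, 3, 0, 3, 0, 3, 3, 0, 2, 1, 3], 0), (35, [0, 2, 0, 2, 0, 2, 2, 2, 0, 3, 3, 0, 3, 3, 0, 2, 0, 2, 2, 0, 2, 2, 0], 1), (109, [0, 3, 0, 2, 0, 2, 0, 2, 2, 2, 0, 2, 0, 2, 2, 0, 3], 2), (6, [2, 2, 0, 3, 0, 3, 3, 0, 2, 2, 2, 0, 2, 2, 0, 3, 1, 2,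 2, 2], 0), (4, [2, 0, 3, 0, 3, 0, 3, 3, 0, 3, 0, 3, 0, 2, 2, 0, 2], 2), (96, [0, 2, 2, 0, 2, 0, 3, 0, 3, 0, 2, 2, 2, 0, 2, 2, 1], 4), (235, [3, 3, 0, 2, 2, 0, 2, 2, 0, 2, 0, 2, 0, 2, 2, 0, 2, 2, 2, 0, 3, 0], 0), (285, [3, 0, 3, 3, 0, 3, 3, 0, 2, 0, 2, 2, 0, 3, 3, 0, 3, 0, 2], 4), (269, [0, 3, 0, 2, 2, 0, 3, 3, 0, 2, 2, 0, 2, 2, 0, 3, 3, 0, 3, 0], 1), (1, [3, 0, 3, 0, 3, 0, 2, 0, 3, 3, 0, 2, 0, 2, 2, 2, 0, 2, 0], 0)], [(0, false), (1, false), (0, true), (0, true), (0, true), (1, true), (0, true), (0, true), (1, false), (0, true), (1, false), (1, false)])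
  , ([(6, [3, 0, 2, 0, 2, 0, 3, 0, 3, 3, 0, 2, 2, 2, 0, 3, 0, 3, 0, 3], 1), (26, [2, 0, 3, 0, 2, 2, 0, 3, 0, 3, 3, 0, 2, 2, 0, 2, 0, 2, 0, 2, 2, 0, 2, 2], 1), (3, [2, 0, 2, 2, 0, 2, 0, 2, 0, 3, 3, 0, 3, 0, 3, 3, 0, 3, 3, 1, 2], 0), (0, [3, 3, 0, 2, 2, 0, 2, 0, 2, 0, 2, 2, 0, 2, 2, 2, 0, 2, 0], 3), (23, [2, 0, 2, 0, 3, 0, 3, 3, 0, 2, 2, 2, 0, 2, 2, 0, 2, 0, 3, 0, 3], 3), (324, [0, 3, 3, 0, 2, 0, 2, 2, 0, 3, 3, 0, 3, 0, 3, 3, 0, 3, 0, 2, 2, 1, 2, 2], 0), (160, [0, 2, 0, 2, 0, 2, 0, 3, 0, 3, 3, 0, 2, 2, 0, 2, 0, 2, 2, 0, 2, 2, 2], 2), (268, [0, 3, 0, 2, 2, 0, 2, 2, 0, 3, 0, 3, 0, 3, 0, 2, 0, 3], 1), (96, [3, 0, 2, 0, 2, 0, 3, 0, 3, 0, 2, 0, 2, 0, 2, 0, 3, 1, 2], 0), (219, [3, 3, 0, 3, 3, 0, 2, 0, 2, 2, 0, 2, 2, 0, 2,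 0, 2, 1, 2], 3), (236, [2, 0, 2, 0, 3, 0, 3, 3, 0, 3, 0, 2, 0, 2, 0, 2, 2, 0, 2, 2, 0, 2, 0, 3, 1], 1), (1, [2, 2, 0, 2, 0, 2, 0, 2, 2, 0, 2, 2, 0, 2, 1, 2, 2, 2], 0)], [(0, true), (1, false), (0, true), (0, true), (0, true), (1, true), (0, true), (1, false), (0, false), (0, false), (0, false), (1, false), (1, false)])
  , ([(28, [3, 0, 2, 0, 2, 0, 3, 0, 3, 3, 0, 2, 2, 2, 0, 3, 0, 3, 0, 3], 1), (179, [0, 3, 3, 0, 2, 0, 2, 2, 0, 3, 3, 0, 3, 0, 3, 3, 0, 3, 0, 2, 2, 0, 2, 1, 2], 1), (113, [0, 3, 0, 2, 2, 0, 2, 0, 2, 2, 2, 0, 2, 2, 0, 2, 0, 2, 2, 0, 3, 3], 0), (0, [2, 0, 3, 3, 0, 2, 2, 0, 2, 0, 2, 0, 3, 0, 2, 2, 0, 3, 0, 3, 1], 3), (22, [0, 3, 0, 2, 2, 0, 2, 0, 3, 0, 2, 2, 0, 3, 3, 1, 3], 4), (2, [2, 2, 2, 0, 2, 0, 2,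 2, 0, 2, 0, 3, 3, 0, 2, 0, 3, 3, 1, 3, 3], 0), (106, [2, 2, 0, 3, 3, 0, 2, 2, 0, 2, 0, 2, 0, 3, 0, 3, 3, 0, 3, 1, 2], 4), (331, [0, 2, 2, 0, 3, 0, 2, 2, 0, 3, 0, 3, 3, 0, 2, 0, 2, 2, 0, 2, 1, 3], 4), (285, [0, 3, 0, 3, 3, 0, 3, 3, 0, 2, 2, 0, 3, 3, 0, 3, 0, 3, 3, 0], 0), (285, [3, 0, 2, 0, 3, 3, 0, 3, 0, 3, 3, 0, 2, 2, 0, 2, 0, 2], 4), (101, [3, 0, 2, 2, 2, 0, 3, 0, 2, 2, 0, 3, 0, 3, 3, 0, 3, 0, 2, 2, 2, 0], 4), (1, [2, 0, 3, 0, 2, 2, 0, 3, 0, 2, 2, 2, 0, 3, 3, 0, 2, 0, 2, 2, 2, 0], 0)], [(1, false), (1, false), (0, false), (0, false), (0, false), (1, false), (0, false), (1, false), (1, false), (0, false), (0, false), (0, false), (1, true)])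
  , ([(0, [3, 0, 2, 0, 2, 0, 3, 0, 3, 3, 0, 2, 2, 2, 0, 3, 0, 3, 0, 3], 1), (333, [2, 2, 2, 0, 2, 2, 0, 3, 0, 2, 2, 0, 2, 2, 0], 3), (347, [2, 0, 2, 2, 0, 2, 0, 3, 3, 0, 3, 0, 2, 2, 2, 0], 0), (35, [0, 3, 3, 0, 2, 2, 0, 3, 3, 0, 2, 2, 0, 2, 2, 0, 2, 2, 2, 0], 4), (4, [3, 0, 2, 0, 2, 0, 2, 2, 0, 3, 0, 3, 0, 2, 0, 3, 3], 2), (6, [0, 3, 0, 3, 3, 0, 2, 0, 2, 0, 3, 0, 2, 2, 0, 3, 3, 0, 3], 0), (12, [0, 2, 2, 0, 2, 2, 0, 3, 3, 0, 3, 0, 2, 2, 2, 0, 3, 1], 4), (213, [0, 3, 0, 3, 0, 2, 0, 2, 2, 0, 3, 3, 0, 3, 0, 2, 0, 2, 0, 3, 0, 2, 2], 1), (25, [0, 3, 3, 0, 2, 2, 0, 2, 0, 3, 1, 2, 2], 0), (285, [2, 0, 2, 0, 3, 0, 3, 0, 3, 3, 0, 2, 0, 2, 0, 3, 0, 3, 1], 4), (269, [0, 2, 2, 0, 2, 2, 0, 2, 0, 2, 2, 2, 0, 3, 1], 1), (1, [0,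 3, 3, 0, 2, 2, 0, 2, 2, 0, 2, 0, 3, 1, 3, 3], 0)], [(0, true), (1, false), (0, false), (1, false), (1, false), (0, false), (1, true), (0, false), (1, true), (0, true), (1, true), (0, false)])]

/-- Walks of relation 35. -/
def cert35 : List (List StepCert × List (ℕ × Bool)) :=
  [([(5, [3, 0, 2, 0, 2, 0, 3, 0, 3, 3, 0, 2, 2, 2, 0, 3, 0, 3, 0, 3], 1), (26, [2, 0, 3, 0, 2, 2, 0, 3, 0, 3, 3, 0, 2, 2, 0, 2, 0, 2, 0, 2, 2, 0, 2, 2], 1), (76, [2, 0, 3, 0, 2, 2, 0, 2, 0, 3, 3, 0, 3, 3, 0, 2, 2, 0, 2, 0, 3, 3, 1, 3], 0), (0, [2, 0, 2, 2, 2, 0, 2, 0, 2, 2, 0, 2, 0, 2, 1, 3], 0), (171, [0, 2, 0, 3, 3, 0, 3, 0, 3, 0, 3, 3, 0, 3, 0, 2, 2, 0], 4), (0, [0, 2, 2, 0, 2, 2, 0, 3, 0, 2, 2, 0, 2, 2, 0], 4), (240, [2, 0, 2, 2, 0, 2,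 0, 2, 2, 0, 3, 3, 0, 3, 0, 2, 0, 2, 2, 0, 3, 3], 0), (0, [2, 2, 0, 2, 0, 2, 0, 2, 2, 0, 3, 3, 0, 2, 2, 0, 2, 2, 0, 2, 2, 0, 3], 0)], [(2, false), (1, false), (1, false), (1, false), (2, false), (1, false), (0, false), (1, false), (2, false), (1, true), (2, false), (1, true), (1, true), (2, false), (1, true), (1, true), (0, false), (1, true), (1, true), (2, false), (1, false), (0, false)])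
  , ([(5, [3, 0, 2, 0, 2, 0, 3, 0, 3, 3, 0, 2, 2, 2, 0, 3, 0, 3, 0, 3], 1), (18, [0, 2, 2, 0, 2, 2, 2, 0, 3, 0, 3, 3, 0, 2, 2, 0, 2, 0, 2, 2], 1), (0, [0, 3, 3, 0, 2, 0, 2, 0, 2, 0, 3, 0, 3, 0, 2, 2, 0, 2, 0, 3, 1], 0), (0, [2, 2, 0, 3, 0, 3, 3, 0, 3, 0, 2, 2, 0, 3, 0, 2, 2, 2, 0, 2, 0, 2], 0), (110, [3, 3, 0, 3, 0, 3, 3, 0, 3, 0, 2, 2, 0, 2, 0, 2, 2, 2, 1, 3], 1), (3, [2, 0, 2, 0, 2, 2, 0, 2, 0, 2, 0, 3, 0, 3, 3, 0, 3, 0, 2, 2], 1), (0, [3, 0, 3, 0, 3, 3, 0, 2, 0, 3, 3, 0, 3, 0, 2, 2, 2, 0, 3, 0], 0), (0, [2, 0, 2, 2, 0, 2, 0, 3, 3, 0, 3, 3, 0, 3, 3, 1, 2, 2], 0)], [(0, true), (1, true), (0, false), (1, true), (0, false), (0, false), (1, false), (1, false), (0, false), (1, false), (0, false)])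
  , ([(14, [3, 0, 2, 0, 2, 0, 3, 0, 3, 3, 0, 2, 2, 2, 0, 3, 0, 3, 0, 3], 4), (300, [0, 3, 0, 2, 0, 2, 0, 3, 0, 2, 2, 0, 2, 0, 3, 0, 2, 2, 1, 2], 3), (325, [0, 2, 2, 0, 3, 0, 2, 2, 0, 2, 2, 0, 3, 0, 3, 0, 3, 3, 0, 2, 1, 3], 0), (35, [2, 0, 2, 0, 3, 0, 2, 2, 2, 0, 2, 2, 2, 0, 2, 0, 2, 2], 0), (325, [2, 0, 2, 0, 2, 0, 3, 3, 0, 3, 0, 2, 0, 2, 0, 3, 0, 3, 1, 3], 2), (3, [0, 3, 0, 3, 3, 0, 3, 3, 0, 2, 2, 1, 2, 2], 4), (247, [0, 2, 0, 2, 2, 2, 0, 3, 0, 3, 0, 3, 0, 2, 1, 2], 0), (1, [0, 2, 0, 3, 3, 0, 2, 0, 2, 2, 2, 0, 3, 3, 1, 2, 2], 0)], [(0, false), (0, false), (1, true), (0, true), (0, true), (1, false), (1, false), (0, true), (1, false)])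
  , ([(6, [3, 0, 2, 0, 2, 0, 3, 0, 3, 3, 0, 2, 2, 2, 0, 3, 0, 3, 0, 3], 1), (26, [2, 0, 3, 0, 2, 2, 0, 3, 0, 3, 3, 0, 2, 2, 0, 2, 0, 2, 0, 2, 2, 0, 2, 2], 1), (3, [2, 0, 2, 2, 0, 2, 0, 2, 0, 3, 3, 0, 3, 0, 3, 3, 0, 3, 3, 1, 2], 0), (0, [0, 3, 0, 3, 0, 2, 0, 3, 3, 0, 2, 2, 2, 0, 2, 2, 0, 2, 0, 2, 2], 0), (3, [0, 2, 0, 2, 2, 0, 2, 0, 2, 0, 3, 0, 2, 2, 0, 2, 0, 3, 3], 4), (18, [0, 2, 2, 0, 3, 0, 3, 0, 2, 0, 3, 3, 0, 2, 0, 2, 2, 0, 2, 1, 2, 2], 4), (4, [3, 3, 0, 2, 0, 2, 2, 0, 2, 2, 2, 0, 3, 3, 1], 0), (1, [0, 3, 0, 2, 2, 0, 3, 0, 3, 3, 0, 2, 2, 0, 2, 2, 0, 3, 0, 2], 0)], [(1, true), (0, false), (1, true), (0, true), (0, true), (0, true), (1, false), (0, false), (1, true), (0, false)])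
  , ([(28, [3, 0, 2, 0, 2, 0, 3, 0, 3, 3, 0, 2, 2, 2, 0, 3, 0, 3, 0, 3], 1), (179, [0, 3, 3, 0, 2, 0, 2, 2, 0, 3, 3, 0, 3, 0, 3, 3, 0, 3, 0, 2, 2, 0, 2, 1, 2], 1), (113, [0, 3, 0, 2, 2, 0, 2, 0, 2, 2, 2, 0, 2, 2, 0, 2, 0, 2, 2, 0, 3, 3], 0), (0, [0, 2, 2, 2, 0, 2, 0, 2, 0, 3, 0, 2, 2, 0, 3, 0, 2, 2, 2, 0, 3, 3], 0), (8, [0, 2, 2, 0, 2, 2, 0, 3, 0, 3, 3, 0, 2, 2, 0, 2, 2, 0, 3, 0, 3], 2), (20, [2, 0, 3, 0, 3, 0, 2, 0, 2, 2, 2, 0, 2, 0, 2, 0, 3, 0, 3, 0], 3), (41, [3, 0, 2, 2, 0, 2, 2, 2, 0, 3, 0, 3, 3, 0, 3, 0, 3, 1, 2], 0), (1, [2, 0, 2, 2, 0, 3, 0, 2, 2, 0, 3, 0, 3, 3, 0, 3, 0, 3, 0, 3], 0)], [(0, false), (1, true), (0, true), (1, true), (0, false), (0, false), (1, false), (0, false), (1, false), (0, true), (1,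 false), (0, false), (0, false), (1, false)])
  , ([(0, [3, 0, 2, 0, 2, 0, 3, 0, 3, 3, 0, 2, 2, 2, 0, 3, 0, 3, 0, 3], 1), (333, [2, 2, 2, 0, 2, 2, 0, 3, 0, 2, 2, 0, 2, 2, 0], 3), (347, [2, 0, 2, 2, 0, 2, 0, 3, 3, 0, 3, 0, 2, 2, 2, 0], 0), (35, [0, 3, 3, 0, 2, 0, 3, 3, 0, 3, 0, 2, 2, 0, 3, 0, 3, 3, 0, 3, 3], 0), (272, [0, 2, 0, 2, 0, 3, 0, 3, 0, 2, 0, 2, 0, 3, 0, 3, 3, 0, 2], 3), (3, [3, 0, 3, 0, 2, 0, 2, 2, 0, 2, 0, 2, 0, 3, 0, 3, 0, 2, 1, 2], 4), (4, [0, 2, 0, 2, 0, 2, 0, 2, 2, 2, 0, 2, 0, 2, 0, 3, 0, 3, 3, 1, 2], 0), (1, [2, 2, 0, 3, 0, 3, 0, 3, 3, 0, 3, 0, 2, 1], 0)], [(1, true), (0, true), (0, true), (1, false), (0, false), (0, false), (1, false), (0, false), (1, false), (0, true), (1, false), (0, false), (1,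 false)])]

/-- Walks of relation 36. -/
def cert36 : List (List StepCert × List (ℕ × Bool)) :=
  [([(5, [3, 0, 2, 0, 2, 0, 3, 0, 3, 3, 0, 2, 2, 2, 0, 3, 0, 3, 0, 3], 1), (26, [2, 0, 3, 0, 2, 2, 0, 3, 0, 3, 3, 0, 2, 2, 0, 2, 0, 2, 0, 2, 2, 0, 2, 2], 1), (76, [2, 0, 3, 0, 2, 2, 0, 2, 0, 3, 3, 0, 3, 3, 0, 2, 2, 0, 2, 0, 3, 3, 1, 3], 0), (111, [3, 0, 3, 0, 2, 0, 2, 0, 3, 0, 3, 1, 2], 1), (167, [2, 2, 2, 0, 3, 0, 3, 3, 0, 3, 0, 2, 2, 0, 2, 2, 2, 0, 3], 4), (76, [2, 0, 2, 2, 0, 2, 2, 0, 2, 0, 3, 3, 0, 2, 0, 2, 2, 1, 2], 0), (287, [2, 0, 3, 0, 2, 2, 0, 2, 0, 2, 2, 0, 3, 3, 0, 2, 2, 0, 2], 1), (280, [0, 3, 0, 3, 3, 0, 2, 0, 2, 2, 0, 3, 0, 3, 3, 0, 3, 0, 2, 2, 1], 4), (111, [3, 0, 2, 2, 0, 2, 0, 2, 2, 0, 3, 3, 0, 3, 0, 2],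 0), (111, [3, 0, 3, 0, 3, 3, 0, 2, 0, 2, 0, 3, 0, 2, 2, 0, 2, 1, 2], 4), (0, [0, 2, 0, 3, 3, 0, 2, 0, 2, 2, 0, 3, 0, 3, 0, 2, 0, 2, 2, 0, 2, 0], 4), (240, [2, 2, 0, 3, 0, 2, 2, 0, 3, 0, 3, 3, 0, 3, 0, 2, 2, 0, 3, 1], 0)], [(0, false), (1, false), (1, false), (1, false), (0, false), (1, false), (1, false), (0, false), (1, true), (0, true), (1, true), (1, true), (0, false), (1, true), (0, false), (1, false), (1, false), (0, false), (1, false), (0, false)])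
  , ([(5, [3, 0, 2, 0, 2, 0, 3, 0, 3, 3, 0, 2, 2, 2, 0, 3, 0, 3, 0, 3], 1), (18, [0, 2, 2, 0, 2, 2, 2, 0, 3, 0, 3, 3, 0, 2, 2, 0, 2, 0, 2, 2], 1), (0, [0, 3, 3, 0, 2, 0, 2, 0, 2, 0, 3, 0, 3, 0, 2, 2, 0, 2, 0, 3, 1], 0), (1, [0, 2, 0, 3, 0, 3, 3, 0, 2, 2, 2, 0, 2, 2, 0], 4), (317, [2, 2, 0, 2, 2, 0, 2, 0, 3, 3, 0, 3, 0, 2, 0, 2, 0, 2, 0, 2, 2], 3), (303, [0, 3, 0, 2, 0, 2, 0, 3, 0, 3, 3, 0, 2, 2, 2, 0, 3, 0], 0), (35, [3, 0, 2, 2, 0, 2, 0, 2, 2, 0, 2, 0, 3, 3, 0, 3, 0, 3, 0], 3), (7, [2, 2, 2, 0, 3, 0, 2, 2, 0, 3, 0, 3, 3, 0, 2, 0, 2], 3), (20, [0, 2, 0, 2, 0, 2, 0, 2, 2, 0, 2, 2, 0, 2, 2, 2, 1, 3], 0), (35, [3, 0, 3, 0, 3, 0, 2, 0, 2, 0, 3, 3, 0], 2), (35, [3, 3, 0, 3, 3, 0, 3, 0, 3, 0, 3, 3, 0, 3, 3, 0, 3, 3, 0,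 2], 4), (0, [0, 2, 0, 3, 0, 3, 0, 2, 0, 2, 2, 2, 0, 3, 3, 0, 3, 3, 0], 0)], [(0, true), (1, false), (0, false), (0, false), (1, false), (0, false), (1, false), (0, true), (1, false), (0, true), (1, false), (1, false), (0, true)])
  , ([(14, [3, 0, 2, 0, 2, 0, 3, 0, 3, 3, 0, 2, 2, 2, 0, 3, 0, 3, 0, 3], 4), (300, [0, 3, 0, 2, 0, 2, 0, 3, 0, 2, 2, 0, 2, 0, 3, 0, 2, 2, 1, 2], 3), (325, [0, 2, 2, 0, 3, 0, 2, 2, 0, 2, 2, 0, 3, 0, 3, 0, 3, 3, 0, 2, 1, 3], 0), (181, [0, 3, 0, 2, 0, 2, 0, 3, 0, 3, 0, 3, 3, 0, 2, 2, 0, 2, 0, 2, 1, 2], 3), (195, [0, 2, 0, 2, 2, 0, 3, 3, 0, 3, 0, 3, 0, 2, 0, 2, 2, 2, 0, 2, 2, 0], 3), (74, [0, 3, 0, 2, 2, 0, 2, 0, 2, 2, 0, 3, 3, 0, 3, 0, 3, 0, 2, 0, 2, 2, 2, 1], 0), (96, [3, 3, 0, 2, 2, 0, 3,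 3, 0, 3, 0, 2, 2, 0, 2, 0, 2, 1], 3), (3, [2, 0, 2, 0, 2, 2, 0, 3, 0, 3, 3, 0, 2, 2, 0, 3, 3, 0, 3, 0, 2, 2, 1, 2, 2], 4), (4, [0, 3, 0, 2, 2, 0, 2, 2, 2, 0, 2, 1, 2], 0), (55, [2, 2, 2, 0, 3, 3, 0, 3, 0, 3, 0, 2, 0, 2, 0, 3, 0, 3, 3, 0, 2, 1], 4), (3, [0, 3, 0, 3, 0, 3, 0, 2, 0, 2, 2, 0, 2, 0, 3, 3, 0, 3, 3, 0, 2, 0, 2, 2, 0], 4), (7, [0, 2, 2, 0, 2, 2, 0, 3, 3, 0, 2, 2, 0, 2, 2, 0, 2, 0, 2, 0, 3, 1, 3], 0)], [(1, false), (0, false), (1, true), (0, true), (1, false), (0, true), (0, true), (1, false), (0, false), (1, false), (0, true)])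
  , ([(6, [3, 0, 2, 0, 2, 0, 3, 0, 3, 3, 0, 2, 2, 2, 0, 3, 0, 3, 0, 3], 1), (26, [2, 0, 3, 0, 2, 2, 0, 3, 0, 3, 3, 0, 2, 2, 0, 2, 0, 2, 0, 2, 2, 0, 2, 2], 1), (3, [2, 0, 2, 2, 0, 2, 0, 2, 0, 3, 3, 0, 3, 0, 3, 3, 0, 3, 3, 1, 2], 0), (50, [3, 0, 3, 0, 2, 0, 2, 0, 2, 0, 3, 0, 2, 2, 0, 2, 0, 3, 3], 1), (43, [0, 2, 0, 2, 0, 3, 0, 2, 2, 0, 2, 2, 0, 2, 0, 2, 2, 0, 3, 0], 4), (45, [0, 2, 0, 2, 0, 2, 0, 2, 2, 0, 2, 2, 0, 2, 1, 2, 2], 0), (287, [0, 2, 0, 2, 2, 0, 2, 0, 3, 0, 3, 1, 3, 3], 4), (233, [3, 0, 3, 3, 0, 3, 0, 3, 3, 0, 2, 0, 2, 0, 2, 2, 0, 2], 4), (1, [3, 0, 3, 0, 3, 0, 2, 0, 3, 3, 0, 2, 2, 0, 2, 0, 3, 0, 2, 2, 2], 0), (0, [2, 0, 2, 2, 0, 2, 0, 3, 0, 3, 0, 3, 3, 0, 2, 0, 2, 2, 0, 3, 3, 0, 2, 0], 4), (4, [0, 2, 2,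 2, 0, 2, 0, 2, 0, 3, 0, 2, 2, 0, 2, 0, 3, 3, 0, 3, 1], 4), (240, [2, 0, 3, 0, 3, 3, 0, 2, 2, 0, 2, 0, 2, 0, 2, 2, 0, 2, 2, 0, 3, 0, 3, 1], 0)], [(0, false), (0, false), (1, false), (0, true), (0, true), (0, true), (1, true), (0, false), (0, false), (1, false)])
  , ([(28, [3, 0, 2, 0, 2, 0, 3, 0, 3, 3, 0, 2, 2, 2, 0, 3, 0, 3, 0, 3], 1), (179, [0, 3, 3, 0, 2, 0, 2, 2, 0, 3, 3, 0, 3, 0, 3, 3, 0, 3, 0, 2, 2, 0, 2, 1, 2], 1), (113, [0, 3, 0, 2, 2, 0, 2, 0, 2, 2, 2, 0, 2, 2, 0, 2, 0, 2, 2, 0, 3, 3], 0), (3, [3, 3, 0, 3, 3, 0, 2, 2, 0, 3, 3, 0, 3, 0, 2, 2, 0, 2, 0, 3, 1], 1), (264, [0, 2, 2, 0, 3, 0, 3, 3, 0, 2, 2, 2, 0, 3, 0, 3, 1, 3], 3), (25, [3, 3, 0, 3, 3, 0, 3, 3, 0, 2, 2, 0, 2, 0, 3, 3, 1, 2], 0), (17, [0, 2, 2,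 2, 0, 3, 0, 3, 3, 0, 2, 2, 0, 2, 0, 3, 0, 3, 0, 2, 0, 2, 2, 2], 3), (12, [2, 2, 2, 0, 2, 2, 0, 2, 0, 3, 3, 0, 2, 0, 2, 2, 0, 3, 0, 3, 0, 3, 3, 1], 1), (9, [3, 0, 3, 0, 3, 0, 2, 2, 2, 0, 3, 3, 0, 2, 0, 2, 2, 2, 0, 2, 1], 0), (1, [2, 2, 0, 2, 2, 0, 3, 0, 3, 3, 0, 2, 2, 0, 3, 3, 0, 3, 0, 3, 3, 0, 3, 3], 1), (76, [2, 2, 0, 3, 0, 2, 2, 0, 3, 3, 0, 3, 0, 3, 0, 2, 1, 2], 4), (49, [3, 0, 3, 3, 0, 3, 0, 2, 0, 2, 2, 0, 2, 2, 2], 0)], [(0, false), (1, false), (0, true), (0, true), (1, false), (0, false), (1, true), (0, true), (0, true), (0, true), (1, false)])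
  , ([(0, [3, 0, 2, 0, 2, 0, 3, 0, 3, 3, 0, 2, 2, 2, 0, 3, 0, 3, 0, 3], 1), (333, [2, 2, 2, 0, 2, 2, 0, 3, 0, 2, 2, 0, 2, 2, 0], 3), (347, [2, 0, 2, 2, 0, 2, 0, 3, 3, 0, 3, 0, 2, 2, 2, 0], 0), (303, [3, 0, 3, 3, 0, 3, 3, 0, 3, 1, 3, 3], 2), (96, [3, 3, 0, 2, 2, 0, 2, 0, 2, 2, 0, 3, 0, 3, 3, 0, 3, 0], 2), (233, [2, 0, 3, 3, 0, 3, 0, 3, 3, 0, 2, 2, 0, 2, 0, 3, 0, 2, 2, 2, 1, 3], 0), (303, [2, 2, 2, 0, 2, 0, 3, 3, 0, 3, 0, 3, 3, 0, 2, 2, 1, 2, 2, 2], 3), (0, [2, 0, 3, 0, 3, 0, 2, 0, 2, 2, 0, 2, 0, 2, 1, 3], 2), (24, [2, 0, 2, 2, 0, 3, 0, 3, 0, 2, 0, 3, 3, 0, 3, 0, 3, 3, 0, 2, 2, 2, 1], 0), (0, [0, 2, 0, 2, 0, 2, 0, 2, 2, 0, 2, 0, 3, 3], 4), (14, [3, 0, 3, 0, 2, 2, 0, 2, 2, 0, 3, 0, 3, 0, 2, 0, 2, 2, 0, 3], 1), (1, [0,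 2, 0, 2, 2, 2, 0, 3, 0, 3, 3, 0, 2, 2, 1], 0)], [(0, true), (1, false), (1, false), (0, true), (0, true), (0, true), (1, false), (1, false), (0, true), (1, false), (1, false), (0, false), (0, false)])]

/-- Walks of relation 37. -/
def cert37 : List (List StepCert × List (ℕ × Bool)) :=
  [([(5, [3, 0, 2, 0, 2, 0, 3, 0, 3, 3, 0, 2, 2, 2, 0, 3, 0, 3, 0, 3], 1), (26, [2, 0, 3, 0, 2, 2, 0, 3, 0, 3, 3, 0, 2, 2, 0, 2, 0, 2, 0, 2, 2, 0, 2, 2], 1), (76, [2, 0, 3, 0, 2, 2, 0, 2, 0, 3, 3, 0, 3, 3, 0, 2, 2, 0, 2, 0, 3, 3, 1, 3], 0), (0, [0, 2, 0, 2, 2, 0, 3, 0, 3, 3, 0, 3, 0, 3, 3, 0, 2, 2, 0, 2, 0, 3, 1, 3], 0), (111, [3, 0, 3, 3, 0, 3, 0, 3, 3, 0, 2, 2, 0, 3, 0, 2, 2], 4), (0, [0, 3, 3, 0, 2, 0, 2, 2, 0, 2, 0, 3, 3, 0], 4),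 (240, [0, 2, 0, 2, 2, 0, 3, 0, 3, 3, 0, 2, 0, 2, 0, 2, 2, 0, 3, 3, 0, 3, 1], 0), (0, [2, 2, 2, 0, 2, 2, 2, 0, 3, 0, 3, 0, 2, 0, 2, 1, 3], 0)], [(1, false), (1, false), (1, false), (0, false), (1, false), (1, false), (1, false), (0, false), (1, true), (0, false), (1, true), (0, true), (1, false), (0, false), (1, false), (0, false), (1, true)])
  , ([(5, [3, 0, 2, 0, 2, 0, 3, 0, 3, 3, 0, 2, 2, 2, 0, 3, 0, 3, 0, 3], 1), (18, [0, 2, 2, 0, 2, 2, 2, 0, 3, 0, 3, 3, 0, 2, 2, 0, 2, 0, 2, 2], 1), (0, [0, 3, 3, 0, 2, 0, 2, 0, 2, 0, 3, 0, 3, 0, 2, 2, 0, 2, 0, 3, 1], 0), (0, [0, 3, 0, 3, 0, 2, 0, 2, 0, 3, 0, 2, 2, 0, 3, 3, 0, 3, 0, 2, 2, 1], 0), (1, [2, 0, 3, 3, 0, 3, 0, 3, 3, 0, 3, 3, 0, 3, 3, 1], 1), (175, [2, 0, 3, 0, 3, 3,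 0, 3, 0, 2, 2, 0, 2, 0, 3, 3, 0, 2, 0, 3, 3, 0, 2], 1), (0, [0, 3, 0, 3, 0, 2, 2, 2, 0, 2, 0, 2, 1, 2, 2], 0), (0, [0, 2, 0, 3, 0, 2, 2, 0, 2, 2, 0, 2, 1, 2, 2], 0)], [(0, true), (0, true), (0, true), (1, false), (0, true), (0, true), (0, true), (1, false), (0, true), (1, true)])
  , ([(14, [3, 0, 2, 0, 2, 0, 3, 0, 3, 3, 0, 2, 2, 2, 0, 3, 0, 3, 0, 3], 4), (300, [0, 3, 0, 2, 0, 2, 0, 3, 0, 2, 2, 0, 2, 0, 3, 0, 2, 2, 1, 2], 3), (325, [0, 2, 2, 0, 3, 0, 2, 2, 0, 2, 2, 0, 3, 0, 3, 0, 3, 3, 0, 2, 1, 3], 0), (35, [3, 0, 3, 3, 0, 2, 2, 0, 3, 0, 3, 3, 0, 3, 0, 2, 2, 0, 3, 1, 2, 2, 2], 0), (181, [0, 2, 0, 3, 0, 3, 0, 3, 3, 0, 2, 2, 0, 2, 0, 2, 0, 2, 2, 0, 3, 3, 0], 2), (3, [0, 3, 0, 3, 3, 0, 3, 0, 2, 2, 0, 2, 2, 0, 3, 0,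 3, 3, 0, 3, 1], 4), (4, [0, 2, 2, 0, 2, 0, 2, 2, 0, 2, 0, 3, 0, 3, 0, 3, 3], 0), (1, [3, 0, 3, 0, 3, 0, 3, 3, 0, 3, 3, 0, 3, 0, 3, 0, 2, 0, 3], 0)], [(1, false), (0, false), (0, false), (1, false), (0, true), (1, false), (0, true), (1, false), (1, false), (0, true), (1, false), (1, false)])
  , ([(6, [3, 0, 2, 0, 2, 0, 3, 0, 3, 3, 0, 2, 2, 2, 0, 3, 0, 3, 0, 3], 1), (26, [2, 0, 3, 0, 2, 2, 0, 3, 0, 3, 3, 0, 2, 2, 0, 2, 0, 2, 0, 2, 2, 0, 2, 2], 1), (3, [2, 0, 2, 2, 0, 2, 0, 2, 0, 3, 3, 0, 3, 0, 3, 3, 0, 3, 3, 1, 2], 0), (0, [2, 2, 0, 2, 0, 2, 2, 0, 2, 0, 2, 0, 3, 0, 2, 2, 2, 0, 3, 0, 2], 0), (50, [2, 0, 3, 3, 0, 2, 2, 0, 2, 0, 3, 0, 3, 0, 2, 0, 2, 2, 1, 2], 4), (4, [2, 2, 0, 2, 2, 0, 2, 0, 2, 0, 3, 0, 3, 3, 0, 3, 0,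 3, 0, 2, 1, 2], 4), (287, [0, 3, 0, 3, 0, 2, 0, 2, 0, 2, 0, 3, 0, 3, 3, 0, 3, 0, 3, 3], 0), (1, [2, 2, 0, 3, 0, 2, 2, 0, 2, 2, 0, 3, 0, 3, 0, 3, 3, 0, 2, 0, 3], 0)], [(1, false), (0, false), (0, false), (1, true), (0, true), (1, false), (1, false), (0, false), (0, false), (1, true), (0, false), (0, false)])
  , ([(28, [3, 0, 2, 0, 2, 0, 3, 0, 3, 3, 0, 2, 2, 2, 0, 3, 0, 3, 0, 3], 1), (179, [0, 3, 3, 0, 2, 0, 2, 2, 0, 3, 3, 0, 3, 0, 3, 3, 0, 3, 0, 2, 2, 0, 2, 1, 2], 1), (113, [0, 3, 0, 2, 2, 0, 2, 0, 2, 2, 2, 0, 2, 2, 0, 2, 0, 2, 2, 0, 3, 3], 0), (0, [0, 2, 2, 0, 2, 2, 2, 0, 2, 0, 2, 2, 2], 0), (3, [0, 3, 3, 0, 3, 0, 3, 3, 0, 3, 0, 2, 0, 2, 0, 2, 0], 4), (18, [0, 3, 3, 0, 3, 0, 2, 2, 0, 2, 0, 3, 3, 0, 3, 3, 0, 3, 3,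 0, 3, 1], 4), (4, [0, 2, 2, 0, 3, 0, 2, 2, 0, 2, 0, 3, 0, 2, 2, 2, 0, 2, 0, 2, 1], 0), (1, [0, 3, 3, 0, 3, 3, 0, 3, 3, 0, 2, 2, 0, 2, 0, 2, 0, 3, 0, 3], 0)], [(1, true), (0, true), (0, true), (0, true), (1, true), (0, true), (1, false), (0, false), (1, true), (0, true), (0, true), (0, true)])
  , ([(0, [3, 0, 2, 0, 2, 0, 3, 0, 3, 3, 0, 2, 2, 2, 0, 3, 0, 3, 0, 3], 1), (333, [2, 2, 2, 0, 2, 2, 0, 3, 0, 2, 2, 0, 2, 2, 0], 3), (347, [2, 0, 2, 2, 0, 2, 0, 3, 3, 0, 3, 0, 2, 2, 2, 0], 0), (35, [0, 2, 2, 2, 0, 2, 2, 0, 2, 2, 0, 3, 0, 3, 3, 0, 2, 2, 0, 3, 0, 2], 0), (303, [0, 3, 0, 3, 0, 2, 0, 2, 0, 3, 0, 2, 2, 0, 3, 0, 3, 3, 0, 3, 1, 3, 3], 3), (0, [0, 3, 3, 0, 3, 0, 3, 0, 2, 0, 2, 0, 2, 1], 2), (24, [3, 0, 2, 0, 2, 0, 3,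 0, 3, 1, 3, 3], 0), (1, [3, 3, 0, 3, 0, 2, 2, 2, 0, 2, 0, 3, 3, 0, 3, 3, 1], 0)], [(0, false), (1, false), (0, true), (1, true), (0, false), (0, false), (1, true), (0, false), (1, true), (0, false), (1, false), (1, false)])]

/-- Walks of relation 38. -/
def cert38 : List (List StepCert × List (ℕ × Bool)) :=
  [([(5, [3, 0, 2, 0, 2, 0, 3, 0, 3, 3, 0, 2, 2, 2, 0, 3, 0, 3, 0, 3], 1), (26, [2, 0, 3, 0, 2, 2, 0, 3, 0, 3, 3, 0, 2, 2, 0, 2, 0, 2, 0, 2, 2, 0, 2, 2], 1), (76, [2, 0, 3, 0, 2, 2, 0, 2, 0, 3, 3, 0, 3, 3, 0, 2, 2, 0, 2, 0, 3, 3, 1, 3], 0), (96, [3, 3, 0, 3, 3, 0, 2, 0, 2, 2, 0, 2, 0, 2, 2, 0, 3, 0, 3, 1, 3], 0), (111, [2, 2, 0, 2, 0, 2, 2, 0, 3, 0, 2, 2, 0, 2, 0, 2, 2, 2, 0, 2, 1, 2], 4), (0, [0, 2, 2, 0, 2,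 2, 0, 3, 0, 2, 2, 0, 2, 2, 0], 4), (240, [2, 0, 2, 2, 0, 2, 0, 2, 2, 0, 3, 3, 0, 3, 0, 2, 0, 2, 2, 0, 3, 3], 0), (106, [0, 3, 3, 0, 3, 3, 0, 2, 0, 2, 2, 0, 3, 3, 0, 2, 2, 0, 2, 0, 2, 2], 0)], [(1, true), (2, false), (1, false), (1, false), (0, false), (1, false), (1, false), (1, false), (2, false), (1, false), (1, false), (2, false), (0, false), (1, false), (0, false), (1, true), (0, false), (1, true), (1, true), (2, false)])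
  , ([(5, [3, 0, 2, 0, 2, 0, 3, 0, 3, 3, 0, 2, 2, 2, 0, 3, 0, 3, 0, 3], 1), (18, [0, 2, 2, 0, 2, 2, 2, 0, 3, 0, 3, 3, 0, 2, 2, 0, 2, 0, 2, 2], 1), (0, [0, 3, 3, 0, 2, 0, 2, 0, 2, 0, 3, 0, 3, 0, 2, 2, 0, 2, 0, 3, 1], 0), (55, [3, 0, 3, 0, 3, 3, 0, 3, 0, 2, 2, 0, 2, 0, 3, 3, 1, 2, 2], 0), (4, [0, 2, 2, 2, 0, 3, 3, 0, 2, 0, 2, 2, 0, 2, 2, 0, 3, 3, 0], 1), (175, [0, 2, 0, 2, 0, 2, 2, 0, 3, 3, 0, 2, 2, 0, 2, 0, 3, 3, 0, 3, 0, 3, 3], 1), (9, [0, 2, 0, 2, 2, 0, 2, 0, 2, 2], 0), (0, [3, 3, 0, 3, 0, 3, 0, 3, 3, 0, 3, 3, 0, 2, 2, 2, 1], 0)], [(0, false), (1, true), (0, true), (1, false), (0, false), (1, false)])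
  , ([(14, [3, 0, 2, 0, 2, 0, 3, 0, 3, 3, 0, 2, 2, 2, 0, 3, 0, 3, 0, 3], 4), (300, [0, 3, 0, 2, 0, 2, 0, 3, 0, 2, 2, 0, 2, 0, 3, 0, 2, 2, 1, 2], 3), (325, [0, 2, 2, 0, 3, 0, 2, 2, 0, 2, 2, 0, 3, 0, 3, 0, 3, 3, 0, 2, 1, 3], 0), (347, [2, 0, 3, 3, 0, 3, 0, 3, 0, 2, 0, 2, 2, 0, 3, 3, 0, 2, 0], 0), (181, [3, 0, 3, 0, 2, 0, 3, 3, 0, 2, 0, 2, 2, 2, 0, 2, 2, 2], 2), (3, [2, 2, 0, 2, 0, 2, 2, 0, 2, 0, 3, 0, 3, 0, 3, 0], 4), (4, [3, 0, 2, 0, 2, 0, 3, 0, 3, 0, 2, 2, 2, 0, 2, 2, 0, 2], 0), (147, [2, 0, 3, 3, 0, 3, 3, 0, 2, 2, 0, 3, 3, 0, 3, 0, 3], 0)], [(0, false), (0, false), (1, true), (0, false), (1, true), (0, true), (1, false), (0, false), (0, false), (0, false), (1, false), (0, false), (0, false)])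
  , ([(6, [3, 0, 2, 0, 2, 0, 3, 0, 3, 3, 0, 2, 2, 2, 0, 3, 0, 3, 0, 3], 1), (26, [2, 0, 3, 0, 2, 2, 0, 3, 0, 3, 3, 0, 2, 2, 0, 2, 0, 2, 0, 2, 2, 0, 2, 2], 1), (3, [2, 0, 2, 2, 0, 2, 0, 2, 0, 3, 3, 0, 3, 0, 3, 3, 0, 3, 3, 1, 2], 0), (34, [3, 0, 2, 0, 3, 3, 0, 3, 3, 0, 2, 2, 2, 0, 2, 1, 2], 0), (0, [2, 2, 0, 3, 0, 3, 0, 3, 0, 2, 0, 2, 2, 0, 3, 3, 0, 3, 1, 2, 2], 4), (76, [0, 3, 0, 2, 2, 0, 2, 0, 3, 0, 2, 2, 2, 0, 2, 0, 2, 0, 2, 2, 0, 3], 4), (267, [0, 2, 2, 0, 3, 0, 3, 0, 2, 1], 0), (50, [0, 3, 0, 3, 0, 2, 0, 2, 0, 3, 0, 3, 0, 3, 3, 1, 2, 2], 0)], [(0, true), (1, true), (0, false), (0, false), (0, false), (1, false), (0, false), (1, false), (0, true), (1, false), (0, false), (0, false), (0, false)])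
  , ([(28, [3, 0, 2, 0, 2, 0, 3, 0, 3, 3, 0, 2, 2, 2, 0, 3, 0, 3, 0, 3], 1), (179, [0, 3, 3, 0, 2, 0, 2, 2, 0, 3, 3, 0, 3, 0, 3, 3, 0, 3, 0, 2, 2, 0, 2, 1, 2], 1), (113, [0, 3, 0, 2, 2, 0, 2, 0, 2, 2, 2, 0, 2, 2, 0, 2, 0, 2, 2, 0, 3, 3], 0), (21, [0, 3, 0, 2, 0, 2, 0, 3, 0, 2, 2, 0, 2, 2, 2, 0, 2, 0, 3, 3], 0), (0, [3, 0, 3, 0, 2, 0, 2, 2, 0, 3, 3, 0, 3, 0, 3, 0, 2, 1, 2, 2], 4), (18, [2, 2, 0, 3, 0, 3, 3, 0, 2, 0, 2, 0, 2, 0, 3, 0, 3, 0, 2, 2, 2, 1, 3], 4), (240, [3, 0, 3, 3, 0, 3, 0, 3, 0, 2, 0, 2, 2, 2, 0, 3, 0, 2, 2, 1, 3, 3], 0), (76, [2, 2, 2, 0, 2, 2, 0, 2, 0, 3, 3, 0, 2, 0, 3, 3, 0, 2, 1, 3], 0)], [(0, true), (1, true), (0, true), (0, true), (1, true), (0, false), (0, false), (1, false), (0, true), (1, false),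 (0, true)])
  , ([(0, [3, 0, 2, 0, 2, 0, 3, 0, 3, 3, 0, 2, 2, 2, 0, 3, 0, 3, 0, 3], 1), (333, [2, 2, 2, 0, 2, 2, 0, 3, 0, 2, 2, 0, 2, 2, 0], 3), (347, [2, 0, 2, 2, 0, 2, 0, 3, 3, 0, 3, 0, 2, 2, 2, 0], 0), (148, [0, 2, 2, 0, 2, 0, 3, 3, 0, 3, 0, 3, 0, 3, 3, 0, 2, 2, 0, 3, 1, 3], 0), (20, [3, 0, 2, 0, 2, 2, 0, 3, 0, 3, 0, 2, 0, 2, 0, 2, 2, 2, 0, 3, 0, 3, 3], 3), (0, [2, 0, 3, 0, 2, 2, 2, 0, 2, 0, 3, 3, 0, 3, 0, 3, 1], 2), (24, [0, 2, 0, 2, 2, 0, 3, 0, 2, 2, 0, 2, 2, 0, 2, 2, 0], 0), (18, [3, 3, 0, 2, 0, 2, 2, 2, 0, 3, 0, 3, 3, 1], 0)], [(0, true), (0, true), (0, true), (1, false), (0, false), (1, false), (1, false), (0, false), (0, false), (1, true), (0, false), (1, false), (0, true)])]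

/-- Walks of relation 39. -/
def cert39 : List (List StepCert × List (ℕ × Bool)) :=
  [([(5, [3, 0, 2, 0, 2, 0, 3, 0, 3, 3, 0, 2, 2, 2, 0, 3, 0, 3, 0, 3], 1), (26, [2, 0, 3, 0, 2, 2, 0, 3, 0, 3, 3, 0, 2, 2, 0, 2, 0, 2, 0, 2, 2, 0, 2, 2], 1), (76, [2, 0, 3, 0, 2, 2, 0, 2, 0, 3, 3, 0, 3, 3, 0, 2, 2, 0, 2, 0, 3, 3, 1, 3], 0), (0, [2, 0, 3, 3, 0, 2, 2, 0, 2, 0, 2, 2, 0, 3, 3, 0, 3, 0, 3, 0, 2, 2, 2], 0), (111, [0, 3, 0, 3, 3, 0, 3, 3, 0, 3, 3, 0, 3, 0, 2, 0, 2, 1, 2], 4), (0, [0, 3, 3, 0, 3, 0, 3, 3, 0, 2, 2, 2, 0, 2, 0, 2, 0, 2, 2, 1], 4), (240, [3, 0, 2, 0, 3, 3, 0, 2, 0, 2, 2, 0, 2, 0, 3, 3, 0, 2, 0, 3, 3], 0), (0, [2, 2, 2, 0, 2, 2, 2, 0, 3, 0, 3, 0, 2, 0, 2, 1, 3], 0)], [(1, false), (1, false), (1, false), (0,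 false), (1, false), (1, false), (1, false), (0, false), (1, true), (0, false), (1, true), (0, true), (1, false), (0, false), (1, false), (0, false), (1, true)])
  , ([(5, [3, 0, 2, 0, 2, 0, 3, 0, 3, 3, 0, 2, 2, 2, 0, 3, 0, 3, 0, 3], 1), (18, [0, 2, 2, 0, 2, 2, 2, 0, 3, 0, 3, 3, 0, 2, 2, 0, 2, 0, 2, 2], 1), (0, [0, 3, 3, 0, 2, 0, 2, 0, 2, 0, 3, 0, 3, 0, 2, 2, 0, 2, 0, 3, 1], 0), (0, [0, 2, 0, 2, 0, 2, 2, 0, 2, 0, 3, 3, 0, 2, 0, 3, 3, 0, 2], 0), (1, [0, 2, 0, 3, 3, 0, 3, 0, 3, 0, 3, 3, 0, 2, 2, 0, 2, 2, 2, 0], 1), (175, [2, 0, 2, 0, 3, 0, 2, 2, 0, 3, 3, 0, 3, 0, 2, 0, 2, 0, 3, 0, 3, 3, 0, 2, 1], 1), (0, [2, 2, 0, 2, 0, 2, 2, 0, 3, 3, 0, 3, 3, 0, 3, 1], 0), (0, [0, 2, 0, 3, 0, 2, 2, 0, 2, 2, 0, 2, 1, 2, 2], 0)], [(0,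 true), (0, true), (0, true), (1, false), (0, true), (0, true), (0, true), (1, false), (0, true), (1, true)])
  , ([(14, [3, 0, 2, 0, 2, 0, 3, 0, 3, 3, 0, 2, 2, 2, 0, 3, 0, 3, 0, 3], 4), (300, [0, 3, 0, 2, 0, 2, 0, 3, 0, 2, 2, 0, 2, 0, 3, 0, 2, 2, 1, 2], 3), (325, [0, 2, 2, 0, 3, 0, 2, 2, 0, 2, 2, 0, 3, 0, 3, 0, 3, 3, 0, 2, 1, 3], 0), (35, [3, 3, 0, 3, 3, 0, 2, 2, 0, 2, 0, 2, 2, 0, 2, 2, 2, 0], 0), (181, [3, 3, 0, 3, 3, 0, 3, 0, 2, 2, 0, 3, 0, 2, 2, 2, 0, 2, 0, 3, 1, 3], 2), (3, [3, 3, 0, 2, 2, 0, 2, 0, 3, 3, 0, 3, 0, 3, 0, 2, 0, 2, 2], 4), (4, [2, 0, 3, 3, 0, 3, 3, 0, 2, 0, 3, 3, 1, 3, 3], 0), (1, [3, 0, 3, 0, 3, 0, 3, 3, 0, 3, 3, 0, 3, 0, 3, 0, 2, 0, 3], 0)], [(1, false), (0, false), (0, false), (1, false), (0,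 true), (1, false), (0, true), (1, false), (1, false), (0, true), (1, false), (1, false)])
  , ([(6, [3, 0, 2, 0, 2, 0, 3, 0, 3, 3, 0, 2, 2, 2, 0, 3, 0, 3, 0, 3], 1), (26, [2, 0, 3, 0, 2, 2, 0, 3, 0, 3, 3, 0, 2, 2, 0, 2, 0, 2, 0, 2, 2, 0, 2, 2], 1), (3, [2, 0, 2, 2, 0, 2, 0, 2, 0, 3, 3, 0, 3, 0, 3, 3, 0, 3, 3, 1, 2], 0), (0, [2, 0, 3, 0, 3, 3, 0, 2, 0, 2, 2, 0, 3, 3, 0, 2, 2, 0, 2, 2, 0], 0), (50, [0, 3, 0, 2, 2, 2, 0, 3, 0, 2, 2, 0, 3, 0, 3, 3, 0, 2, 2, 2, 1, 2], 4), (4, [3, 3, 0, 2, 2, 0, 3, 0, 3, 3, 0, 2, 2, 0, 3, 0, 3, 3, 0], 4), (287, [0, 3, 0, 3, 0, 3, 0, 2, 2, 0, 2, 2, 0, 2, 1], 0), (1, [2, 2, 0, 3, 0, 2, 2, 0, 2, 2, 0, 3, 0, 3, 0, 3, 3, 0, 2, 0, 3], 0)], [(1, false), (0, false), (0, false), (1, true), (0,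 true), (1, false), (1, false), (0, false), (0, false), (1, true), (0, false), (0, false)])
  , ([(28, [3, 0, 2, 0, 2, 0, 3, 0, 3, 3, 0, 2, 2, 2, 0, 3, 0, 3, 0, 3], 1), (179, [0, 3, 3, 0, 2, 0, 2, 2, 0, 3, 3, 0, 3, 0, 3, 3, 0, 3, 0, 2, 2, 0, 2, 1, 2], 1), (113, [0, 3, 0, 2, 2, 0, 2, 0, 2, 2, 2, 0, 2, 2, 0, 2, 0, 2, 2, 0, 3, 3], 0), (0, [0, 2, 2, 0, 3, 3, 0, 3, 0, 3, 0, 2, 2, 2, 0, 3, 3, 0, 2, 0], 0), (3, [2, 0, 2, 2, 0, 2, 2, 0, 2, 0, 2, 0, 2, 2, 0, 2, 2, 0, 2, 2, 0, 3], 4), (18, [2, 0, 3, 3, 0, 2, 2, 0, 2, 0, 3, 3, 0, 2, 0, 2, 2, 0, 2, 2], 4), (4, [3, 0, 3, 0, 2, 2, 0, 3, 0, 2, 2, 2, 0, 2, 2, 0, 3, 0], 0), (1, [0, 3, 3, 0, 3, 3, 0, 3, 3, 0, 2, 2, 0, 2, 0, 2, 0, 3, 0, 3], 0)], [(1, true), (0, true), (0, true), (0,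 true), (1, true), (0, true), (1, false), (0, false), (1, true), (0, true), (0, true), (0, true)])
  , ([(0, [3, 0, 2, 0, 2, 0, 3, 0, 3, 3, 0, 2, 2, 2, 0, 3, 0, 3, 0, 3], 1), (333, [2, 2, 2, 0, 2, 2, 0, 3, 0, 2, 2, 0, 2, 2, 0], 3), (347, [2, 0, 2, 2, 0, 2, 0, 3, 3, 0, 3, 0, 2, 2, 2, 0], 0), (35, [2, 2, 0, 2, 2, 0, 2, 2, 0, 3, 0, 2, 2, 2, 0, 2, 2, 2, 1, 3], 0), (303, [3, 0, 3, 3, 0, 2, 0, 2, 2, 0, 3, 3, 0, 2, 2, 0, 2, 2, 0, 2, 0, 3], 3), (0, [2, 0, 3, 0, 2, 2, 0, 2, 0, 3, 0, 3, 0, 2, 0, 2, 0, 2, 0, 2], 2), (24, [0, 2, 2, 0, 2, 2, 0, 2, 2, 0, 2, 2, 0, 2, 0, 3, 3, 0, 2], 0), (1, [3, 3, 0, 3, 0, 2, 2, 2, 0, 2, 0, 3, 3, 0, 3, 3, 1], 0)], [(0, false), (1, false), (0, true), (1, true), (0, false), (0, false), (1, true),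 (0, false), (1, true), (0, false), (1, false), (1, false)])]

/-- Walks of relation 40. -/
def cert40 : List (List StepCert × List (ℕ × Bool)) :=
  [([(0, [0, 2, 0, 3, 0, 3, 0, 3, 0, 2, 0, 2, 0, 3, 3, 0, 3, 1, 2, 2], 3), (326, [0, 3, 0, 3, 3, 0, 3, 3, 0, 2, 2, 0, 3, 3, 0, 3, 0, 2, 2, 2, 0], 1), (0, [3, 3, 0, 2, 0, 2, 0, 3, 0, 3, 0, 3, 0, 2, 2, 2, 0, 3, 3], 0), (0, [3, 0, 2, 0, 3, 3, 0, 3, 0, 2, 2, 2, 0, 3, 3, 0, 3, 0, 2, 0, 2, 1, 2], 0), (0, [0, 2, 2, 0, 3, 0, 3, 3, 0, 3, 3, 0, 3, 0, 3, 0, 2, 1], 4), (0, [3, 3, 0, 3, 3, 0, 3, 3, 0, 3, 0, 2, 0, 2, 0, 3], 4), (0, [2, 0, 2, 0, 2, 2, 0, 3, 0, 2, 2, 2, 0, 2, 0, 3, 0, 3, 0, 2, 0], 0), (0, [3, 0, 2, 2, 0, 2, 0, 3, 0, 3, 0, 2, 2, 0, 2, 0, 2, 0, 3, 0, 3], 0)], [(1, true),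 (0, false), (1, false), (1, false), (0, false), (1, false), (0, false), (1, true), (0, false), (1, true), (0, false), (1, false), (1, false), (0, false), (1, false), (0, false), (1, false), (0, false), (1, true), (0, false), (1, true)])
  , ([(0, [0, 2, 0, 3, 0, 3, 0, 3, 0, 2, 0, 2, 0, 3, 3, 0, 3, 1, 2, 2], 3), (103, [2, 0, 3, 0, 3, 3, 0, 2, 2, 0, 2, 0, 2, 2, 0, 3, 0, 3, 3, 1], 2), (303, [2, 0, 3, 3, 0, 3, 3, 0, 3, 3, 0, 2, 2, 0, 3, 3, 0, 3, 1, 2], 0), (303, [3, 0, 3, 0, 3, 0, 2, 0, 2, 0, 2, 2, 0, 3, 3, 1, 3], 0), (303, [2, 2, 2, 0, 3, 0, 3, 0, 3, 0, 2, 0, 2, 1, 2], 3), (0, [2, 0, 2, 2, 0, 2, 2, 0, 2, 2, 0, 3, 0, 3, 0, 3, 3, 0, 3, 0, 2, 1, 2], 3), (0, [0, 2, 0, 3, 3, 0, 2, 2, 0, 2, 0, 2, 2, 0, 3, 0, 3, 3, 0], 0),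 (0, [2, 2, 2, 0, 3, 0, 3, 0, 3, 3, 0, 2, 0, 2, 2, 1, 2, 2, 2], 0)], [(1, false), (0, false), (1, true), (0, false), (1, false), (0, true), (0, true), (0, true)])
  , ([(1, [0, 2, 0, 3, 0, 3, 0, 3, 0, 2, 0, 2, 0, 3, 3, 0, 3, 1, 2, 2], 3), (306, [2, 2, 2, 0, 2, 2, 0, 2, 0, 2, 2, 0, 3, 0, 3, 1, 3], 4), (285, [3, 3, 0, 3, 0, 2, 2, 0, 2, 2, 0, 2, 2, 0, 2, 0, 3, 0, 3, 3, 0, 3], 0), (285, [2, 0, 2, 2, 0, 2, 0, 3, 3, 0, 3, 0, 2, 2, 1, 2, 2, 2], 0), (285, [3, 0, 3, 3, 0, 3, 0, 2, 2, 0, 3, 0, 3, 3, 0, 3, 0, 2, 2], 4), (101, [0, 3, 0, 3, 0, 3, 0, 3, 3, 0, 2, 2, 0, 2, 0, 2, 2, 0, 2, 0, 3, 3, 0, 2], 1), (1, [2, 0, 3, 3, 0, 2, 0, 2, 2, 0, 2, 0, 3, 3, 0, 3, 0, 2, 2, 0, 3, 3], 0), (1, [3, 0, 3, 0, 2, 2, 0, 2, 0, 3, 3, 0, 2, 0, 2,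 2, 0, 3, 3, 0, 2], 0)], [(0, false), (0, false), (0, false), (1, false), (0, false), (0, false), (1, false), (0, false), (0, false), (0, false), (1, true), (0, false), (1, false), (0, false)])
  , ([(1, [2, 0, 2, 0, 3, 0, 3, 0, 3, 0, 2, 0, 2, 0, 3, 3, 0, 3, 1, 2, 2], 3), (90, [0, 2, 0, 3, 3, 0, 3, 0, 2, 2, 0, 2, 0, 3, 0, 3, 0, 2, 0, 2, 2, 0, 3, 3, 0, 2], 3), (219, [2, 0, 2, 2, 2, 0, 2, 2, 2, 0, 2, 0, 3, 3, 0, 2, 0, 2, 2, 0, 3, 3, 1], 0), (219, [0, 3, 3, 0, 2, 0, 2, 2, 0, 2, 0, 3, 3, 0, 3, 0, 3, 0, 2, 0, 2, 2, 0], 0), (219, [3, 0, 3, 0, 3, 0, 3, 3, 0, 3, 0, 2, 0, 2, 2, 1, 2, 2, 2], 3), (236, [0, 2, 0, 2, 2, 2, 0, 2, 0, 2, 2, 0, 3, 0, 2, 2, 0], 4), (1, [0, 3, 0, 3, 3, 0, 3, 3, 0, 3, 0, 3, 0, 2, 0, 2, 2, 0, 2, 0, 3,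 1], 0), (1, [3, 0, 2, 0, 3, 3, 0, 3, 0, 2, 2, 0, 2, 0, 3, 0, 3, 0, 2, 2, 2], 0)], [(1, true), (0, false), (1, false), (0, true), (0, true), (0, true), (1, false), (1, false), (0, true)])
  , ([(1, [0, 2, 2, 0, 2, 0, 2, 0, 3, 0, 3, 3, 0, 2, 0, 2, 0, 3, 1, 3], 3), (137, [0, 2, 2, 0, 2, 0, 2, 0, 2, 2, 0, 3, 3, 0, 3, 3, 0, 2, 0, 2, 2, 0, 3], 2), (219, [3, 0, 3, 0, 2, 2, 2, 0, 3, 3, 0, 3, 0, 2, 0, 2, 0, 3, 1, 3], 0), (219, [3, 3, 0, 2, 0, 2, 2, 0, 2, 2, 0, 2, 0, 2, 0, 2, 2, 0, 2, 2, 1], 0), (219, [3, 0, 2, 2, 0, 2, 2, 0, 2, 0, 2, 0, 3, 0, 2, 2, 2, 1, 3], 3), (205, [0, 2, 0, 3, 0, 2, 2, 0, 2, 2, 2, 0, 3, 0, 3, 3, 0, 3, 0, 2, 1, 2], 1), (1, [2, 2, 0, 3, 3, 0, 3, 0, 2, 0, 2, 0, 3, 0, 3, 3, 0, 3, 0, 2, 2], 0), (1, [0, 3,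 0, 2, 2, 2, 0, 2, 0, 2, 0, 3, 0, 2, 2, 0, 2, 2, 2, 0, 3, 3], 0)], [(0, true), (0, true), (1, false), (1, false), (0, false), (1, true), (0, true), (1, true)])
  , ([(1, [2, 2, 0, 2, 0, 3, 0, 3, 0, 3, 0, 2, 0, 2, 0, 3, 3, 0, 3, 1, 2, 2], 3), (62, [2, 2, 0, 2, 0, 3, 0, 3, 0, 2, 0, 2, 0, 2, 2, 0, 2, 0, 3, 0, 3, 0, 3, 0], 4), (285, [3, 3, 0, 2, 2, 0, 2, 0, 2, 0, 3, 0, 3, 0, 2, 2, 2, 0, 3, 0, 3], 0), (285, [2, 0, 3, 3, 0, 2, 0, 2, 0, 3], 0), (285, [2, 0, 2, 0, 3, 3, 0, 2, 0, 2, 2, 0, 3, 0, 3, 3, 0, 2, 2], 4), (269, [2, 0, 3, 0, 2, 2, 0, 2, 2, 0, 2, 0, 3, 3, 0, 2, 0, 2, 2, 0], 1), (1, [3, 0, 3, 0, 2, 0, 2, 2, 2, 0, 2, 2, 0, 3, 1], 0), (1, [0, 2, 0, 2, 2, 0, 2, 0, 3, 3, 0, 3, 3, 0, 3, 0, 3, 3, 0], 0)], [(1, false), (0,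 true), (1, false), (0, false), (1, false), (0, true), (0, true), (0, true), (1, false), (0, false), (0, false)])]

/-- Walks of relation 41. -/
def cert41 : List (List StepCert × List (ℕ × Bool)) :=
  [([(0, [0, 2, 0, 3, 0, 3, 0, 3, 0, 2, 0, 2, 0, 3, 3, 0, 3, 1, 2, 2], 3), (326, [0, 3, 0, 3, 3, 0, 3, 3, 0, 2, 2, 0, 3, 3, 0, 3, 0, 2, 2, 2, 0], 1), (0, [3, 3, 0, 2, 0, 2, 0, 3, 0, 3, 0, 3, 0, 2, 2, 2, 0, 3, 3], 0), (18, [3, 0, 2, 2, 2, 0, 2, 2, 0, 3, 3, 0, 3, 0, 3, 3, 0], 2), (74, [3, 0, 2, 0, 2, 2, 0, 2, 0, 3, 0, 3, 0, 2, 2, 0, 2, 0, 2, 0, 3, 0], 3), (174, [3, 0, 2, 0, 2, 0, 2, 2, 0, 3, 3, 0, 2, 2, 0, 2, 2, 1, 2, 2], 0), (1, [0, 3, 3, 0, 2, 2, 0, 2, 0, 2, 0, 3, 0, 3, 3, 0, 2, 0, 2, 1, 2, 2], 3), (280, [0, 3, 3, 0,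 3, 0, 2, 0, 2, 0, 2, 2, 0, 3, 0, 3, 3, 0, 2, 2, 0, 3, 0], 2), (0, [3, 3, 0, 3, 0, 3, 0, 2, 0, 2, 0, 3, 3, 0, 3, 0, 3, 3, 1], 0), (171, [2, 2, 0, 2, 2, 0, 2, 2, 0, 3, 3, 0, 2, 2, 0, 3, 3, 0, 3, 0, 3, 0], 4), (0, [3, 0, 3, 0, 2, 2, 2, 0, 2, 2, 0, 2, 2, 0, 2, 0, 2, 0, 2, 2, 1], 4), (240, [0, 3, 3, 0, 3, 0, 2, 0, 2, 2, 0, 3, 3, 0, 3, 3, 0, 2, 2, 0, 2, 0, 3, 0], 0)], [(2, false), (1, false), (1, false), (1, false), (2, false), (1, false), (2, false), (1, false), (2, false), (1, false), (1, false), (0, true), (1, false), (2, false), (1, false), (0, false), (1, true), (2, false), (1, true), (0, false), (1, true)])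
  , ([(0, [0, 2, 0, 3, 0, 3, 0, 3, 0, 2, 0, 2, 0, 3, 3, 0, 3, 1, 2, 2], 3), (103, [2, 0, 3, 0, 3, 3, 0, 2, 2, 0, 2, 0, 2, 2, 0, 3, 0, 3, 3, 1], 2), (303, [2, 0, 3, 3, 0, 3, 3, 0, 3, 3, 0, 2, 2, 0, 3, 3, 0, 3, 1, 2], 0), (192, [2, 0, 3, 3, 0, 2, 0, 3, 3, 0, 2, 0, 2, 0, 3], 2), (109, [0, 2, 2, 2, 0, 3, 0, 3, 0, 3, 0, 2, 0, 3, 3, 0, 2, 2, 0, 2, 0], 3), (12, [2, 0, 2, 0, 3, 0, 3, 3, 0, 2, 0, 2, 0, 3, 0, 3, 0, 3, 0, 2, 2, 2], 0), (12, [0, 3, 3, 0, 3, 0, 2, 0, 2, 0, 3, 0, 3, 3, 0, 2, 0], 2), (3, [0, 3, 0, 2, 0, 2, 2, 0, 3, 3, 0, 3, 0, 2, 0, 2, 0, 3, 0, 3, 3, 0, 3, 1], 1), (303, [0, 2, 0, 2, 0, 2, 2, 0, 3, 0, 2, 2, 0, 3, 0, 2, 2, 2, 0], 0), (146, [3, 3, 0, 3, 0, 3, 3, 0, 2, 0, 2, 2, 0, 3, 3, 0, 2, 2, 1], 2), (35, [3, 3,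 0, 3, 0, 3, 0, 2, 0, 3, 3, 0, 3, 0, 2, 2, 0, 2, 0, 3, 1, 3], 4), (0, [0, 2, 2, 0, 3, 0, 2, 2, 2, 0, 2, 2, 0, 3, 3, 1], 0)], [(1, false), (0, false), (1, true), (0, true), (1, false), (0, true), (0, true), (0, true), (1, false), (0, true), (1, false), (0, false), (0, false), (0, false)])
  , ([(1, [0, 2, 0, 3, 0, 3, 0, 3, 0, 2, 0, 2, 0, 3, 3, 0, 3, 1, 2, 2], 3), (306, [2, 2, 2, 0, 2, 2, 0, 2, 0, 2, 2, 0, 3, 0, 3, 1, 3], 4), (285, [3, 3, 0, 3, 0, 2, 2, 0, 2, 2, 0, 2, 2, 0, 2, 0, 3, 0, 3, 3, 0, 3], 0), (61, [2, 2, 0, 3, 0, 3, 3, 0, 2, 0, 2, 2, 0, 3, 3, 0, 2, 0, 2, 2, 0, 3, 1], 4), (338, [0, 2, 2, 0, 3, 0, 3, 3, 0, 3, 0, 2, 1], 4), (276, [0, 2, 0, 2, 2, 0, 2, 0, 2, 0, 3, 3, 0, 2, 0, 3, 3, 1, 3], 0), (285, [3, 0, 2, 2,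 2, 0, 3, 3, 0, 3, 0, 3, 1, 3, 3], 4), (101, [2, 0, 2, 2, 0, 2, 0, 2, 0, 3, 0, 3, 3, 0, 2, 0, 2, 1, 2, 2], 1), (1, [2, 2, 0, 2, 2, 0, 3, 0, 3, 3, 0, 3, 3, 0, 3, 0, 2, 2, 0, 3, 0, 3], 0), (58, [2, 0, 2, 0, 3, 0, 3, 0, 2, 0, 2, 2, 0, 2, 2, 1, 2, 2], 4), (111, [0, 3, 0, 3, 0, 2, 0, 2, 0, 2, 2, 2, 0, 2, 0, 2, 1, 3], 4), (7, [0, 3, 0, 2, 0, 3, 3, 0, 3, 0, 2, 0, 2, 2, 0, 3, 3, 0, 3, 1, 3], 0)], [(0, false), (1, false), (0, true), (1, false), (0, false), (0, false), (1, false), (0, false), (0, false), (1, false), (0, false), (0, false)])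
  , ([(1, [2, 0, 2, 0, 3, 0, 3, 0, 3, 0, 2, 0, 2, 0, 3, 3, 0, 3, 1, 2, 2], 3), (90, [0, 2, 0, 3, 3, 0, 3, 0, 2, 2, 0, 2, 0, 3, 0, 3, 0, 2, 0, 2, 2, 0, 3, 3, 0, 2], 3), (219, [2, 0, 2, 2, 2, 0, 2, 2, 2, 0, 2, 0, 3, 3, 0, 2, 0, 2, 2, 0, 3, 3, 1], 0), (350, [0, 3, 3, 0, 2, 2, 0, 3, 0, 3, 3, 0, 3, 0, 2, 0, 2, 0, 3, 0, 3, 3], 4), (143, [2, 2, 2, 0, 2, 2, 0, 2, 0, 2, 0, 3, 0, 3, 0, 2, 0, 2, 2, 0, 2], 2), (295, [2, 0, 3, 0, 3, 0, 2, 0, 3, 3, 0, 3, 0, 2, 2, 0, 2, 2, 0, 2, 2, 0, 3], 0), (24, [2, 0, 2, 2, 2, 0, 3, 0, 3, 3, 0, 3, 1, 3], 1), (1, [3, 3, 0, 2, 2, 0, 2, 2, 0, 3, 0, 3, 0, 2, 0, 2, 0, 2, 1], 4), (1, [3, 0, 3, 3, 0, 2, 0, 2, 0, 3, 0, 2, 2, 2, 1], 0), (176, [2, 0, 2, 0, 2, 2, 0, 3, 0, 3, 0, 2, 0, 3, 3, 0, 3, 0, 3,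 3], 4), (171, [2, 0, 2, 2, 0, 3, 3, 0, 2, 0, 2, 2, 0, 3, 0, 2, 2, 0, 3, 0], 4), (240, [2, 0, 2, 2, 0, 2, 2, 0, 3, 3, 0, 2, 2, 0, 2, 0, 3, 3, 0, 3, 3, 0], 0)], [(1, false), (1, false), (0, false), (1, true), (0, true), (0, true), (1, false), (0, true), (1, false), (0, true), (0, true), (1, false), (0, false)])
  , ([(1, [0, 2, 2, 0, 2, 0, 2, 0, 3, 0, 3, 3, 0, 2, 0, 2, 0, 3, 1, 3], 3), (137, [0, 2, 2, 0, 2, 0, 2, 0, 2, 2, 0, 3, 3, 0, 3, 3, 0, 2, 0, 2, 2, 0, 3], 2), (219, [3, 0, 3, 0, 2, 2, 2, 0, 3, 3, 0, 3, 0, 2, 0, 2, 0, 3, 1, 3], 0), (265, [0, 2, 0, 2, 0, 2, 2, 0, 3, 0, 3, 0, 2, 2, 2, 0, 2, 1, 3], 4), (266, [0, 2, 2, 0, 3, 0, 2, 2, 0, 3, 0, 3, 3, 0, 2, 2, 0, 3, 0, 3, 3, 0, 3, 0], 4), (111, [0, 2, 2, 0, 3, 3, 0, 3,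 0, 3, 3, 0, 2, 0, 2, 0, 2, 0, 3], 0), (30, [2, 0, 2, 2, 0, 3, 3, 0, 2, 0, 2, 2, 0, 3, 3, 0, 3, 0, 2, 2, 0, 2, 2, 1], 3), (35, [2, 2, 0, 2, 2, 0, 2, 0, 2, 2, 0, 3, 3, 0, 2, 2, 0, 2], 2), (9, [2, 0, 2, 0, 2, 0, 3, 0, 3, 0, 2, 0, 2, 2, 0, 3, 1, 2], 0), (62, [2, 0, 2, 2, 2, 0, 3, 3, 0, 3, 3, 0, 2, 2, 0, 3, 3, 1], 1), (76, [2, 0, 2, 0, 2, 0, 2, 2, 0, 3, 3, 0, 2, 2], 4), (49, [3, 3, 0, 2, 2, 0, 3, 3, 0, 3, 3, 0, 2, 2, 0], 0)], [(0, false), (1, true), (0, false), (0, false), (0, false), (1, false), (0, false), (1, false), (0, true), (0, true), (1, false), (0, true), (0, true), (0, true)])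
  , ([(1, [2, 2, 0, 2, 0, 3, 0, 3, 0, 3, 0, 2, 0, 2, 0, 3, 3, 0, 3, 1, 2, 2], 3), (62, [2, 2, 0, 2, 0, 3, 0, 3, 0, 2, 0, 2, 0, 2, 2, 0, 2, 0, 3, 0, 3, 0, 3, 0], 4), (285, [3, 3, 0, 2, 2, 0, 2, 0, 2, 0, 3, 0, 3, 0, 2, 2, 2, 0, 3, 0, 3], 0), (303, [2, 0, 2, 2, 0, 2, 0, 2, 0, 3, 0, 3, 0, 3, 0, 2, 2, 0, 2, 1, 3, 3], 4), (199, [3, 0, 2, 0, 2, 0, 3, 0, 2, 2, 2, 0, 3, 1, 2, 2], 1), (285, [3, 3, 0, 2, 2, 2, 0, 2, 2, 0, 2, 0, 2, 0, 2, 2, 0, 2, 2, 0, 2, 0], 0), (285, [3, 0, 2, 2, 0, 2, 0, 3, 3, 0, 3, 0, 2, 2, 0, 3, 0, 2, 2, 0, 3, 1], 4), (269, [0, 2, 0, 3, 0, 2, 2, 0, 2, 2, 0, 3, 0, 3, 0, 3, 3, 0, 2, 2, 2], 1), (1, [0, 2, 0, 2, 0, 3, 0, 3, 3, 0, 2, 2, 0, 2, 0, 2, 0, 3, 0, 3, 3, 1, 2], 0), (0, [0, 3, 0, 3, 0, 2, 2, 0, 2, 0,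 3, 0, 3, 0, 3, 3, 0, 3, 3, 0, 2, 0], 4), (241, [0, 2, 0, 2, 0, 3, 0, 3, 0, 2, 0, 3, 3, 1, 2, 2, 2], 3), (50, [0, 2, 0, 2, 0, 2, 2, 0, 2, 0, 3, 3, 0, 3, 3], 0)], [(1, true), (0, false), (1, false), (0, true), (0, true), (0, true), (1, true), (0, false), (1, false)])]

/-- Walks of relation 42. -/
def cert42 : List (List StepCert × List (ℕ × Bool)) :=
  [([(0, [0, 2, 0, 3, 0, 3, 0, 3, 0, 2, 0, 2, 0, 3, 3, 0, 3, 1, 2, 2], 3), (326, [0, 3, 0, 3, 3, 0, 3, 3, 0, 2, 2, 0, 3, 3, 0, 3, 0, 2, 2, 2, 0], 1), (0, [3, 3, 0, 2, 0, 2, 0, 3, 0, 3, 0, 3, 0, 2, 2, 2, 0, 3, 3], 0), (0, [3, 3, 0, 2, 2, 0, 2, 0, 3, 3, 0, 3, 3, 0, 3, 0, 3, 0], 0), (0, [2, 2, 0, 3, 0, 3, 0, 3, 3, 0, 2, 0, 2, 2, 0, 2, 0, 2, 1], 4), (0, [0, 3, 0, 2, 0, 2,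 0, 2, 2, 2, 0, 3, 3, 0, 3, 0, 3, 1, 3, 3], 4), (0, [0, 3, 0, 3, 0, 2, 2, 2, 0, 3, 0, 3, 0, 2, 0, 3, 3, 0, 2, 0], 0), (0, [3, 0, 2, 2, 0, 2, 0, 3, 0, 3, 0, 2, 2, 0, 2, 0, 2, 0, 3, 0, 3], 0)], [(1, true), (0, false), (1, false), (1, false), (0, false), (1, false), (0, false), (1, true), (0, false), (1, true), (0, false), (1, false), (1, false), (0, false), (1, false), (0, false), (1, false), (0, false), (1, true), (0, false), (1, true)])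
  , ([(0, [0, 2, 0, 3, 0, 3, 0, 3, 0, 2, 0, 2, 0, 3, 3, 0, 3, 1, 2, 2], 3), (103, [2, 0, 3, 0, 3, 3, 0, 2, 2, 0, 2, 0, 2, 2, 0, 3, 0, 3, 3, 1], 2), (303, [2, 0, 3, 3, 0, 3, 3, 0, 3, 3, 0, 2, 2, 0, 3, 3, 0, 3, 1, 2], 0), (303, [3, 0, 2, 0, 2, 0, 3, 0, 3, 3, 0, 2, 0, 2, 0, 3, 0, 3, 0, 3, 0, 2, 1], 0), (303, [0, 2, 0, 2, 0, 2, 2, 0, 3, 0, 3, 0, 3, 0, 3, 3, 0, 2], 3), (0, [0, 2, 2, 0, 3, 0, 3, 0, 2, 0, 2, 0, 2, 2, 0, 3, 0, 3, 1, 3], 3), (0, [0, 2, 0, 3, 0, 2, 2, 0, 2, 2, 2, 0, 3, 1, 3, 3], 0), (0, [2, 2, 2, 0, 3, 0, 3, 0, 3, 3, 0, 2, 0, 2, 2, 1, 2, 2, 2], 0)], [(1, false), (0, false), (1, true), (0, false), (1, false), (0, true), (0, true), (0, true)])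
  , ([(1, [0, 2, 0, 3, 0, 3, 0, 3, 0, 2, 0, 2, 0, 3, 3, 0, 3, 1, 2, 2], 3), (306, [2, 2, 2, 0, 2, 2, 0, 2, 0, 2, 2, 0, 3, 0, 3, 1, 3], 4), (285, [3, 3, 0, 3, 0, 2, 2, 0, 2, 2, 0, 2, 2, 0, 2, 0, 3, 0, 3, 3, 0, 3], 0), (285, [3, 3, 0, 3, 0, 3, 3, 0, 2, 2, 2, 0, 3, 0, 3, 1], 0), (285, [0, 2, 2, 0, 3, 0, 3, 3, 0, 3, 3, 0, 2, 0, 2, 2, 0, 3], 4), (101, [2, 0, 3, 0, 2, 2, 0, 2, 2, 2, 0, 2, 0, 3, 3, 0, 2, 0, 2, 2, 1, 2], 1), (1, [0, 3, 3, 0, 3, 0, 3, 3, 0, 3, 0, 2, 0, 2, 0, 2, 0, 3, 0, 3, 1, 3], 0), (1, [3, 0, 3, 0, 2, 2, 0, 2, 0, 3, 3, 0, 2, 0, 2, 2, 0, 3, 3, 0, 2], 0)], [(0, false), (0, false), (0, false), (1, false), (0, false), (0, false), (1, false), (0, false), (0, false), (0, false), (1, true), (0, false), (1, false),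 (0, false)])
  , ([(1, [2, 0, 2, 0, 3, 0, 3, 0, 3, 0, 2, 0, 2, 0, 3, 3, 0, 3, 1, 2, 2], 3), (90, [0, 2, 0, 3, 3, 0, 3, 0, 2, 2, 0, 2, 0, 3, 0, 3, 0, 2, 0, 2, 2, 0, 3, 3, 0, 2], 3), (219, [2, 0, 2, 2, 2, 0, 2, 2, 2, 0, 2, 0, 3, 3, 0, 2, 0, 2, 2, 0, 3, 3, 1], 0), (219, [2, 2, 0, 2, 0, 2, 0, 3, 0, 3, 0, 2, 2, 2, 0, 3], 0), (219, [0, 2, 2, 0, 2, 0, 3, 3, 0, 3, 0, 2, 2, 0, 2, 2, 1, 2], 3), (236, [3, 3, 0, 2, 2, 0, 2, 0, 2, 0, 3, 0, 3, 0, 2, 0, 2, 0, 2, 1], 4), (1, [0, 3, 0, 3, 0, 2, 0, 2, 0, 2, 2, 2, 0, 2, 0, 2, 0, 3], 0), (1, [3, 0, 2, 0, 3, 3, 0, 3, 0, 2, 2, 0, 2, 0, 3, 0, 3, 0, 2, 2, 2], 0)], [(1, true), (0, false), (1, false), (0, true), (0, true), (0, true), (1, false), (1, false), (0, true)])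
  , ([(1, [0, 2, 2, 0, 2, 0, 2, 0, 3, 0, 3, 3, 0, 2, 0, 2, 0, 3, 1, 3], 3), (137, [0, 2, 2, 0, 2, 0, 2, 0, 2, 2, 0, 3, 3, 0, 3, 3, 0, 2, 0, 2, 2, 0, 3], 2), (219, [3, 0, 3, 0, 2, 2, 2, 0, 3, 3, 0, 3, 0, 2, 0, 2, 0, 3, 1, 3], 0), (219, [0, 2, 0, 2, 2, 0, 3, 0, 3, 0, 3, 0, 2, 0, 3, 3, 0, 2, 0, 2, 2, 0, 3], 0), (219, [2, 2, 2, 0, 3, 0, 3, 0, 2, 0, 2, 2, 0, 3, 0, 3, 3, 1, 2], 3), (205, [0, 2, 0, 2, 0, 3, 0, 2, 2, 0, 3, 3, 0, 3, 0, 3, 0, 2, 1, 2, 2], 1), (1, [3, 0, 3, 3, 0, 2, 2, 0, 2, 0, 3], 0), (1, [0, 3, 0, 2, 2, 2, 0, 2, 0, 2, 0, 3, 0, 2, 2, 0, 2, 2, 2, 0, 3, 3], 0)], [(0, true), (0, true), (1, false), (1, false), (0, false), (1, true), (0, true), (1, true)])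
  , ([(1, [2, 2, 0, 2, 0, 3, 0, 3, 0, 3, 0, 2, 0, 2, 0, 3, 3, 0, 3, 1, 2, 2], 3), (62, [2, 2, 0, 2, 0, 3, 0, 3, 0, 2, 0, 2, 0, 2, 2, 0, 2, 0, 3, 0, 3, 0, 3, 0], 4), (285, [3, 3, 0, 2, 2, 0, 2, 0, 2, 0, 3, 0, 3, 0, 2, 2, 2, 0, 3, 0, 3], 0), (285, [0, 2, 2, 0, 3, 0, 2, 2, 0, 3, 3, 0, 3, 0, 2, 2, 0, 2, 2, 0, 3], 0), (285, [2, 2, 0, 3, 0, 3, 0, 2, 0, 3, 3, 0, 3, 3, 0, 2, 0, 2, 2], 4), (269, [2, 0, 2, 0, 2, 2, 0, 2, 2, 0, 2, 0, 3, 3, 1, 3], 1), (1, [0, 3, 3, 0, 3, 0, 3, 3, 0, 2, 2, 0, 3, 0, 3, 3, 0, 3, 0, 3, 3], 0), (1, [0, 2, 0, 2, 2, 0, 2, 0, 3, 3, 0, 3, 3, 0, 3, 0, 3, 3, 0], 0)], [(1, false), (0, true), (1, false), (0, false), (1, false), (0, true), (0, true), (0, true), (1, false), (0, false), (0, false)])]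

/-- Walks of relation 43. -/
def cert43 : List (List StepCert × List (ℕ × Bool)) :=
  [([(0, [0, 2, 0, 3, 0, 3, 0, 3, 0, 2, 0, 2, 0, 3, 3, 0, 3, 1, 2, 2], 3), (326, [0, 3, 0, 3, 3, 0, 3, 3, 0, 2, 2, 0, 3, 3, 0, 3, 0, 2, 2, 2, 0], 1), (0, [3, 3, 0, 2, 0, 2, 0, 3, 0, 3, 0, 3, 0, 2, 2, 2, 0, 3, 3], 0), (46, [0, 2, 0, 2, 2, 2, 0, 2, 0, 3, 0, 3, 0, 3, 3, 0, 2, 2, 0, 3, 1, 2, 2], 0), (0, [2, 2, 2, 0, 2, 0, 2, 0, 2, 2, 0, 2, 2, 0, 2, 2, 2, 0, 3], 4), (0, [3, 0, 3, 0, 2, 2, 2, 0, 2, 2, 0, 2, 2, 0, 2, 0, 2, 0, 2, 2, 1], 4), (0, [0, 3, 0, 3, 3, 0, 2, 0, 2, 2, 0, 2, 2, 0, 2, 0, 2, 0, 2, 2, 0, 2], 0), (201, [0, 3, 0, 2, 2, 0, 3, 0, 3, 3, 0, 3, 3, 0, 3, 0, 3, 0, 3, 3, 0, 2], 0)], [(0, false), (1, true), (0, false), (1, false),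 (1, false), (0, false), (1, true), (0, false), (1, true), (1, true), (0, false), (1, true), (1, true), (0, false), (1, true), (0, false), (1, true), (0, false), (1, true), (1, true), (0, false), (1, false)])
  , ([(0, [0, 2, 0, 3, 0, 3, 0, 3, 0, 2, 0, 2, 0, 3, 3, 0, 3, 1, 2, 2], 3), (103, [2, 0, 3, 0, 3, 3, 0, 2, 2, 0, 2, 0, 2, 2, 0, 3, 0, 3, 3, 1], 2), (303, [2, 0, 3, 3, 0, 3, 3, 0, 3, 3, 0, 2, 2, 0, 3, 3, 0, 3, 1, 2], 0), (61, [0, 2, 0, 3, 0, 2, 2, 2, 0, 2, 0, 3, 3, 0, 2, 0, 2, 2, 2, 0, 3, 0, 2], 0), (285, [2, 0, 2, 0, 2, 0, 3, 0, 3, 0, 3, 3, 0, 3, 3, 0, 3, 3, 0, 2], 3), (280, [3, 0, 3, 0, 3, 3, 0, 2, 2, 0, 2, 2, 0, 2, 1, 3], 3), (6, [2, 2, 0, 3, 0, 3, 0, 3, 3, 0, 3, 0, 2, 2, 2, 1, 2, 2, 2], 0), (0, [2, 0, 2, 2,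 2, 0, 3, 0, 3, 3, 0, 2, 0, 2, 0, 2, 2, 0, 3, 3, 0], 0)], [(1, true), (0, true), (1, false), (0, true), (0, true), (0, true), (1, false), (1, false), (0, true), (1, true), (0, true)])
  , ([(1, [0, 2, 0, 3, 0, 3, 0, 3, 0, 2, 0, 2, 0, 3, 3, 0, 3, 1, 2, 2], 3), (306, [2, 2, 2, 0, 2, 2, 0, 2, 0, 2, 2, 0, 3, 0, 3, 1, 3], 4), (285, [3, 3, 0, 3, 0, 2, 2, 0, 2, 2, 0, 2, 2, 0, 2, 0, 3, 0, 3, 3, 0, 3], 0), (25, [0, 2, 0, 2, 0, 2, 2, 0, 3, 3, 0, 3, 0, 2, 0, 2, 0, 3, 1, 2, 2, 2], 0), (285, [2, 0, 3, 0, 2, 2, 0, 2, 2, 2, 0, 3, 3, 0, 3, 0, 3, 3, 0, 2], 4), (101, [3, 3, 0, 3, 3, 0, 3, 0, 2, 2, 0, 2, 2, 0, 3, 3, 0, 3, 0, 2, 2, 1, 2], 1), (1, [2, 0, 3, 0, 2, 2, 0, 2, 0, 2, 2, 0, 3, 3, 0, 2, 2, 0, 2, 0, 2], 0), (27, [3, 3, 0, 3, 3,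 0, 3, 3, 0, 2, 2, 0, 2, 0, 2, 0, 3, 0], 0)], [(0, false), (0, false), (1, false), (0, true), (1, true), (0, true), (0, true), (1, true), (0, true), (0, true)])
  , ([(1, [2, 0, 2, 0, 3, 0, 3, 0, 3, 0, 2, 0, 2, 0, 3, 3, 0, 3, 1, 2, 2], 3), (90, [0, 2, 0, 3, 3, 0, 3, 0, 2, 2, 0, 2, 0, 3, 0, 3, 0, 2, 0, 2, 2, 0, 3, 3, 0, 2], 3), (219, [2, 0, 2, 2, 2, 0, 2, 2, 2, 0, 2, 0, 3, 3, 0, 2, 0, 2, 2, 0, 3, 3, 1], 0), (161, [0, 2, 2, 0, 3, 0, 2, 2, 0, 3, 0, 2, 2, 2, 0, 2, 2, 2, 1, 3], 0), (0, [0, 2, 0, 2, 0, 2, 0, 2, 2, 2, 0, 2, 0, 2, 0, 3, 0, 3, 0, 2, 0], 4), (1, [2, 2, 0, 3, 3, 0, 3, 3, 0, 2, 2, 0, 2, 2, 0, 3, 1, 2], 1), (244, [0, 2, 0, 2, 0, 2, 2, 2, 0, 2, 0, 3, 0, 3, 0, 2, 0, 2, 2, 0, 3, 0], 0), (76, [0, 2, 0, 2, 2, 2, 0,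 3, 0, 2, 2, 0, 2, 2, 0, 3, 1, 3, 3], 0)], [(1, false), (1, false), (0, false), (0, false), (1, false), (0, true), (1, false), (0, true), (1, false), (0, false), (0, false), (1, false), (0, false), (1, true)])
  , ([(1, [0, 2, 2, 0, 2, 0, 2, 0, 3, 0, 3, 3, 0, 2, 0, 2, 0, 3, 1, 3], 3), (137, [0, 2, 2, 0, 2, 0, 2, 0, 2, 2, 0, 3, 3, 0, 3, 3, 0, 2, 0, 2, 2, 0, 3], 2), (219, [3, 0, 3, 0, 2, 2, 2, 0, 3, 3, 0, 3, 0, 2, 0, 2, 0, 3, 1, 3], 0), (258, [0, 3, 3, 0, 3, 3, 0, 3, 3, 0, 2, 0, 2, 2, 0, 3, 3, 1, 3], 0), (30, [3, 0, 2, 2, 0, 2, 0, 2, 0, 3, 3, 0, 2, 0, 2, 2, 0], 3), (35, [0, 3, 3, 0, 2, 0, 2, 0, 2, 2, 0, 3, 3, 1, 2, 2], 3), (1, [3, 3, 0, 2, 0, 2, 0, 3, 0, 3, 0, 3, 0, 2, 0, 2, 0, 2, 0, 3, 3, 0], 0), (148, [0, 2, 2, 0,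 2, 0, 2, 2, 0, 2, 2, 2, 0, 3, 0, 3, 0, 3, 3, 1, 3], 0)], [(1, false), (0, false), (1, true), (0, false), (0, false), (1, false), (0, true), (0, true), (1, false), (0, false), (0, false), (1, false)])
  , ([(1, [2, 2, 0, 2, 0, 3, 0, 3, 0, 3, 0, 2, 0, 2, 0, 3, 3, 0, 3, 1, 2, 2], 3), (62, [2, 2, 0, 2, 0, 3, 0, 3, 0, 2, 0, 2, 0, 2, 2, 0, 2, 0, 3, 0, 3, 0, 3, 0], 4), (285, [3, 3, 0, 2, 2, 0, 2, 0, 2, 0, 3, 0, 3, 0, 2, 2, 2, 0, 3, 0, 3], 0), (267, [2, 2, 0, 3, 0, 2, 2, 0, 3, 0, 3, 3, 0, 3, 0, 2, 2, 0, 2, 0, 2, 2, 2, 1], 0), (285, [0, 2, 0, 2, 2, 0, 3, 0, 3, 0, 3, 3, 0, 2, 2, 0, 2, 0, 2, 1, 2], 4), (101, [2, 0, 2, 0, 2, 0, 2, 2, 0, 3, 3, 0, 2, 2, 0, 3], 1), (1, [2, 0, 2, 0, 2, 0, 2, 2, 0, 2, 2, 2, 0, 2, 0, 3, 0, 3, 0, 2,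 0, 2, 1, 2], 0), (76, [0, 3, 0, 3, 0, 2, 0, 2, 0, 3, 0, 3, 0, 3, 3, 0, 2, 2, 2, 0, 2], 0)], [(1, false), (0, false), (0, false), (1, false), (0, true), (1, false), (0, true), (0, true), (0, true), (1, true), (0, true), (1, false), (0, false)])]

/-- Walks of relation 44. -/
def cert44 : List (List StepCert × List (ℕ × Bool)) :=
  [([(0, [0, 2, 0, 3, 0, 3, 0, 3, 0, 2, 0, 2, 0, 3, 3, 0, 3, 1, 2, 2], 3), (326, [0, 3, 0, 3, 3, 0, 3, 3, 0, 2, 2, 0, 3, 3, 0, 3, 0, 2, 2, 2, 0], 1), (0, [3, 3, 0, 2, 0, 2, 0, 3, 0, 3, 0, 3, 0, 2, 2, 2, 0, 3, 3], 0), (0, [3, 0, 2, 0, 2, 0, 2, 0, 3, 3, 0, 3, 0, 2, 2, 0, 3, 0, 2, 2, 1, 2], 0), (0, [3, 0, 2, 2, 2, 0, 2, 2, 0, 2, 0, 2, 0, 2, 2, 0, 3, 3, 0, 3, 1, 3], 4), (0, [0, 3, 3, 0, 3, 3,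 0, 2, 0, 2, 2, 0, 2, 2, 0, 2, 0, 3, 3, 0, 3, 0, 3, 0], 4), (0, [2, 2, 0, 2, 2, 0, 2, 0, 2, 0, 2, 2, 0, 2, 2, 0, 2, 1, 3], 0), (0, [3, 0, 2, 2, 0, 2, 0, 3, 0, 3, 0, 2, 2, 0, 2, 0, 2, 0, 3, 0, 3], 0)], [(1, true), (0, false), (1, false), (1, false), (0, false), (1, false), (0, false), (1, true), (0, false), (1, true), (0, false), (1, false), (1, false), (0, false), (1, false), (0, false), (1, false), (0, false), (1, true), (0, false), (1, true)])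
  , ([(0, [0, 2, 0, 3, 0, 3, 0, 3, 0, 2, 0, 2, 0, 3, 3, 0, 3, 1, 2, 2], 3), (103, [2, 0, 3, 0, 3, 3, 0, 2, 2, 0, 2, 0, 2, 2, 0, 3, 0, 3, 3, 1], 2), (303, [2, 0, 3, 3, 0, 3, 3, 0, 3, 3, 0, 2, 2, 0, 3, 3, 0, 3, 1, 2], 0), (303, [2, 0, 2, 0, 3, 0, 3, 0, 2, 0, 2, 0, 3, 0, 2, 2, 0, 2, 2, 2, 0], 0), (303, [0, 3, 3, 0, 2, 0, 2, 2, 0, 2, 2, 2, 0, 3, 0, 3, 0, 2, 0, 3], 3), (0, [2, 2, 0, 2, 2, 0, 3, 0, 3, 3, 0, 3, 3, 0, 3, 0, 2, 2, 0, 2, 2], 3), (0, [3, 3, 0, 3, 3, 0, 3, 3, 0, 2, 2, 2, 0, 2, 0, 3, 3, 1], 0), (0, [2, 2, 2, 0, 3, 0, 3, 0, 3, 3, 0, 2, 0, 2, 2, 1, 2, 2, 2], 0)], [(1, false), (0, false), (1, true), (0, false), (1, false), (0, true), (0, true), (0, true)])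
  , ([(1, [0, 2, 0, 3, 0, 3, 0, 3, 0, 2, 0, 2, 0, 3, 3, 0, 3, 1, 2, 2], 3), (306, [2, 2, 2, 0, 2, 2, 0, 2, 0, 2, 2, 0, 3, 0, 3, 1, 3], 4), (285, [3, 3, 0, 3, 0, 2, 2, 0, 2, 2, 0, 2, 2, 0, 2, 0, 3, 0, 3, 3, 0, 3], 0), (285, [3, 3, 0, 3, 0, 3, 3, 0, 2, 0, 2, 0, 2, 0, 3, 0, 3, 0], 0), (285, [2, 2, 0, 3, 0, 3, 0, 2, 2, 2, 0, 2, 2, 0, 2, 0, 3, 0, 3, 3], 4), (101, [0, 2, 0, 2, 2, 0, 3, 3, 0, 2, 2, 0, 2, 2, 0, 3], 1), (1, [3, 0, 2, 2, 0, 3, 3, 0, 3, 0, 3, 0, 3, 3, 0, 3, 3, 0, 3, 0, 2], 0), (1, [3, 0, 3, 0, 2, 2, 0, 2, 0, 3, 3, 0, 2, 0, 2, 2, 0, 3, 3, 0, 2], 0)], [(0, false), (0, false), (0, false), (1, false), (0, false), (0, false), (1, false), (0, false), (0, false), (0, false), (1, true), (0, false), (1, false), (0,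 false)])
  , ([(1, [2, 0, 2, 0, 3, 0, 3, 0, 3, 0, 2, 0, 2, 0, 3, 3, 0, 3, 1, 2, 2], 3), (90, [0, 2, 0, 3, 3, 0, 3, 0, 2, 2, 0, 2, 0, 3, 0, 3, 0, 2, 0, 2, 2, 0, 3, 3, 0, 2], 3), (219, [2, 0, 2, 2, 2, 0, 2, 2, 2, 0, 2, 0, 3, 3, 0, 2, 0, 2, 2, 0, 3, 3, 1], 0), (219, [0, 2, 0, 3, 3, 0, 3, 0, 2, 0, 2, 0, 2, 2, 0, 3, 1, 2], 0), (219, [2, 0, 2, 2, 0, 2, 2, 0, 3, 0, 3, 0, 3, 0, 2, 1, 3], 3), (236, [0, 2, 2, 0, 2, 0, 2, 0, 3, 0, 3, 0, 3, 0, 2, 0, 2, 0, 3, 0, 3, 0], 4), (1, [2, 0, 3, 0, 3, 0, 2, 2, 0, 2, 2, 0, 2, 2, 0, 2, 0, 2, 0, 3, 3], 0), (1, [3, 0, 2, 0, 3, 3, 0, 3, 0, 2, 2, 0, 2, 0, 3, 0, 3, 0, 2, 2, 2], 0)], [(1, true), (0, false), (1, false), (0, true), (0, true), (0, true), (1, false), (1, false), (0, true)])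
  , ([(1, [0, 2, 2, 0, 2, 0, 2, 0, 3, 0, 3, 3, 0, 2, 0, 2, 0, 3, 1, 3], 3), (137, [0, 2, 2, 0, 2, 0, 2, 0, 2, 2, 0, 3, 3, 0, 3, 3, 0, 2, 0, 2, 2, 0, 3], 2), (219, [3, 0, 3, 0, 2, 2, 2, 0, 3, 3, 0, 3, 0, 2, 0, 2, 0, 3, 1, 3], 0), (219, [2, 0, 2, 0, 3, 3, 0, 2, 0, 2, 2, 0, 2, 2, 2, 0, 2, 0, 2, 1, 2], 0), (219, [0, 2, 2, 0, 2, 0, 3, 3, 0, 3, 3, 0, 3], 3), (205, [0, 3, 3, 0, 3, 0, 2, 0, 2, 2, 0, 3, 3, 0, 3, 0, 3, 3, 0, 3, 1], 1), (1, [2, 2, 0, 3, 0, 3, 0, 3, 3, 0, 2, 0, 3, 3, 0, 2, 0, 2, 0, 3], 0), (1, [0, 3, 0, 2, 2, 2, 0, 2, 0, 2, 0, 3, 0, 2, 2, 0, 2, 2, 2, 0, 3, 3], 0)], [(0, true), (0, true), (1, false), (1, false), (0, false), (1, true), (0, true), (1, true)])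
  , ([(1, [2, 2, 0, 2, 0, 3, 0, 3, 0, 3, 0, 2, 0, 2, 0, 3, 3, 0, 3, 1, 2, 2], 3), (62, [2, 2, 0, 2, 0, 3, 0, 3, 0, 2, 0, 2, 0, 2, 2, 0, 2, 0, 3, 0, 3, 0, 3, 0], 4), (285, [3, 3, 0, 2, 2, 0, 2, 0, 2, 0, 3, 0, 3, 0, 2, 2, 2, 0, 3, 0, 3], 0), (285, [2, 2, 2, 0, 2, 0, 3, 0, 3, 3, 0, 2, 2, 0, 2, 1, 2, 2], 0), (285, [0, 2, 0, 3, 3, 0, 2, 0, 2, 2, 0, 3, 3, 0, 3, 3, 0], 4), (269, [2, 0, 2, 0, 3, 0, 3, 0, 2, 2, 0, 2, 2, 0, 3, 0, 2, 2, 0], 1), (1, [0, 2, 0, 2, 2, 2, 0, 3, 0, 3, 0, 3, 3, 1, 2], 0), (1, [0, 2, 0, 2, 2, 0, 2, 0, 3, 3, 0, 3, 3, 0, 3, 0, 3, 3, 0], 0)], [(1, false), (0, true), (1, false), (0, false), (1, false), (0, true), (0, true), (0, true), (1, false), (0, false), (0, false)])]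

/-- Walks of relation 45. -/
def cert45 : List (List StepCert × List (ℕ × Bool)) :=
  [([(0, [0, 3, 0, 2, 2, 0, 2, 0, 2, 0, 3, 0, 3, 0, 2, 0, 2], 0), (51, [2, 0, 2, 0, 2, 2, 0, 2, 0, 3, 3, 0, 2, 0, 2, 2, 1, 2], 3), (174, [3, 0, 3, 0, 3, 0, 2, 0, 3, 3, 0, 2, 2, 0, 2, 0, 3, 3, 1, 2], 4), (0, [2, 0, 2, 0, 2, 2, 0, 3, 3, 0, 3, 3, 0, 2, 2, 0, 2, 0, 2, 1, 2, 2, 2], 0), (0, [0, 2, 0, 2, 0, 3, 0, 3, 0, 3, 0, 2, 0, 2, 2, 0, 2, 0, 3, 3, 0, 3], 0), (171, [2, 2, 0, 2, 0, 3, 0, 3, 0, 2, 0, 3, 3, 0, 2, 0, 2, 2, 0, 2, 0, 2, 2, 1], 4), (0, [0, 2, 2, 0, 2, 2, 0, 2, 2, 0, 2, 2, 0, 2, 0, 3, 0, 3, 1, 3], 4), (240, [0, 2, 0, 2, 0, 2, 2, 0, 3, 0, 3, 0, 2, 0, 2, 0, 2, 2, 0, 3, 3, 0, 3], 0)], [(0, false), (2, false), (1, true), (0, false),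 (1, true), (2, false), (1, true), (1, true), (0, false), (1, true), (2, false), (0, false), (1, true), (2, false), (1, true), (2, false), (1, true), (2, false), (1, true), (0, false)])
  , ([(0, [0, 3, 0, 2, 2, 0, 2, 0, 2, 0, 3, 0, 3, 0, 2, 0, 2], 0), (51, [2, 0, 2, 0, 2, 2, 0, 2, 0, 3, 3, 0, 2, 0, 2, 2, 1, 2], 4), (74, [0, 2, 2, 2, 0, 2, 0, 2, 2, 0, 2, 0, 3, 3, 0, 3, 3, 0, 3, 1, 2], 3), (303, [0, 2, 0, 2, 2, 0, 2, 0, 2, 2], 0), (303, [0, 3, 0, 2, 0, 2, 0, 2, 2, 0, 2, 1, 2, 2], 0), (86, [3, 0, 2, 2, 2, 0, 2, 2, 0, 2, 2, 0, 3, 0, 3, 3, 0, 3, 3], 3), (35, [0, 2, 0, 2, 2, 0, 2, 0, 2, 2, 0, 3, 3, 0, 3, 0, 3, 3, 0, 2, 2, 1, 2], 4), (0, [2, 0, 2, 0, 3, 3, 0, 2, 2, 2, 0, 3, 0, 3, 1, 3, 3], 0)], [(0, true), (1, false), (0,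 true), (1, true), (0, false), (1, true), (0, true), (1, false), (1, false), (0, true), (0, true)])
  , ([(1, [0, 3, 0, 2, 2, 0, 2, 0, 2, 0, 3, 0, 3, 0, 2, 0, 2], 0), (103, [2, 0, 2, 0, 2, 2, 0, 2, 0, 3, 3, 0, 2, 0, 2, 2, 1, 2], 1), (107, [0, 3, 3, 0, 3, 3, 0, 3, 0, 3, 0, 3, 3, 0, 3, 3, 0, 3, 3, 1, 2, 2], 4), (12, [0, 2, 2, 0, 2, 2, 0, 2, 0, 2, 2, 0, 3, 3, 0, 2, 2, 0, 2, 0, 2, 2, 1, 2, 2], 0), (1, [0, 3, 0, 3, 0, 2, 0, 2, 0, 2, 2, 0, 3, 0, 3, 0, 2, 2], 0), (172, [3, 0, 3, 0, 3, 0, 2, 0, 3, 3, 0, 3, 0, 2, 2, 0, 2, 0, 3, 3, 1], 1), (46, [3, 3, 0, 2, 0, 2, 2, 0, 3, 3, 0, 2, 0, 2, 2, 2, 0], 4), (240, [2, 0, 2, 2, 0, 2, 0, 3, 3, 0, 3, 0, 2, 2, 0, 3, 0, 2, 2, 0, 3, 0, 3, 1, 3], 0)], [(1, false), (0, false), (1, true), (0,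 true), (0, true), (0, true), (1, false), (1, false), (0, false)])
  , ([(1, [0, 2, 0, 3, 3, 0, 3, 0, 3, 0, 3, 3, 0, 3, 0, 2, 0, 2], 0), (52, [2, 0, 2, 0, 2, 2, 0, 2, 0, 3, 3, 0, 2, 0, 2, 2, 1, 2], 1), (120, [0, 2, 2, 0, 3, 0, 2, 2, 2, 0, 3, 0, 3, 0, 3, 0, 2, 0, 2, 0, 3], 1), (1, [3, 3, 0, 3, 0, 3, 3, 0, 2, 2, 0, 2, 0, 3, 0, 3, 0, 3, 0], 0), (1, [0, 2, 0, 2, 0, 3, 0, 3, 0, 2, 0, 2, 2, 2, 0, 3, 0, 2, 2, 0, 3, 1, 3], 0), (235, [2, 0, 3, 0, 3, 3, 0, 2, 0, 3, 3, 0, 2, 0, 2, 2, 0, 3, 3, 0, 2], 4), (111, [2, 0, 3, 0, 3, 0, 2, 0, 3, 3, 0, 2, 0, 2, 2, 0, 2, 0, 3, 3, 0, 2, 0], 4), (240, [3, 0, 3, 0, 2, 2, 0, 3, 0, 3, 3, 0, 3, 0, 2, 0, 2, 0, 3, 0, 2, 2, 1], 0)], [(0, false), (0, false), (1, true), (0, false), (1, true), (0,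 false), (1, true), (0, true), (1, true)])
  , ([(1, [3, 0, 3, 0, 2, 2, 0, 2, 0, 2, 0, 3, 0, 3, 0, 2, 0, 2], 0), (80, [0, 2, 0, 2, 2, 0, 3, 0, 3, 3, 0, 3, 0, 2, 2, 0, 2, 2, 2, 0, 2, 0, 2], 1), (45, [0, 2, 2, 0, 2, 0, 2, 2, 0, 3, 0, 3, 3, 0, 3, 0, 2, 2, 1], 1), (9, [0, 2, 2, 0, 3, 3, 0, 3, 0, 2, 0, 2, 2, 0, 2, 0, 2, 2, 2, 1, 3], 0), (9, [2, 2, 2, 0, 2, 0, 3, 0, 3, 0, 3, 0, 2, 0, 2, 2], 0), (300, [0, 2, 2, 0, 2, 2, 2, 0, 3, 0, 2, 2, 2, 0, 2, 2, 2, 1, 3, 3], 1), (111, [0, 3, 0, 3, 0, 3, 3, 0, 3, 3, 0, 2, 0, 2, 2, 0, 2, 2, 0, 2, 0, 3, 3, 0], 4), (12, [3, 3, 0, 3, 3, 0, 3, 3, 0, 2, 2, 2, 0, 2, 0, 3, 0, 3, 0], 0)], [(1, false), (0, false), (1, false), (0, true), (0, true), (1, true), (0, true), (1, false), (0, false), (1,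 true), (0, false), (1, false)])
  , ([(1, [2, 0, 2, 0, 3, 3, 0, 3, 0, 3, 0, 3, 3, 0, 3, 0, 2, 0, 2], 0), (26, [2, 0, 2, 0, 2, 2, 0, 2, 0, 3, 3, 0, 2, 0, 2, 2, 1, 2], 1), (199, [0, 2, 0, 2, 2, 2, 0, 3, 0, 3, 0, 2, 2, 2, 0, 2, 0, 2, 2, 1, 3, 3], 4), (7, [0, 2, 2, 0, 3, 0, 3, 3, 0, 3, 0, 2, 2, 0, 3, 0, 3, 3, 0, 2, 2, 1, 3], 0), (1, [0, 2, 2, 0, 2, 0, 2, 2, 2, 0, 3, 0, 3, 0, 2, 2, 2, 0, 2, 0], 0), (0, [0, 3, 0, 2, 0, 2, 0, 2, 2, 0, 3, 0, 3, 3, 0, 3, 3, 0, 3, 0, 3, 0, 3, 3], 4), (19, [0, 2, 2, 2, 0, 2, 0, 2, 0, 2, 2, 0, 3, 3, 0, 2, 2, 0, 2, 0, 3, 3], 1), (1, [2, 2, 0, 3, 3, 0, 3, 0, 2, 2, 2, 0, 2, 0, 2, 2, 1], 0)], [(1, false), (0, true), (0, true), (0, true), (1, false), (0, true), (0, true), (1, false), (0, true), (1,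 true), (0, false), (0, false), (1, false)])]

/-- Walks of relation 46. -/
def cert46 : List (List StepCert × List (ℕ × Bool)) :=
  [([(0, [0, 3, 0, 2, 2, 0, 2, 0, 2, 0, 3, 0, 3, 0, 2, 0, 2], 0), (0, [0, 3, 0, 2, 2, 0, 2, 0, 2, 2, 0, 3, 1, 2], 0), (0, [0, 3, 0, 2, 0, 3, 3, 0, 3, 0, 2, 1, 2], 0), (0, [], 0)], [])
  , ([(0, [0, 3, 0, 2, 2, 0, 2, 0, 2, 0, 3, 0, 3, 0, 2, 0, 2], 0), (0, [0, 3, 0, 2, 2, 0, 2, 0, 2, 2, 0, 3, 1, 2], 0), (0, [0, 3, 0, 2, 0, 3, 3, 0, 3, 0, 2, 1, 2], 0), (0, [], 0)], [])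
  , ([(1, [0, 3, 0, 2, 2, 0, 2, 0, 2, 0, 3, 0, 3, 0, 2, 0, 2], 0), (1, [0, 3, 0, 2, 2, 0, 2, 0, 2, 2, 0, 3, 1, 2], 0), (1, [0, 3, 0, 2, 0, 3, 3, 0, 3, 0, 2, 1, 2], 0), (1, [], 0)], [])
  , ([(1, [0, 2, 0, 3, 3, 0, 3, 0, 3, 0, 3, 3, 0, 3, 0, 2, 0, 2], 0), (1, [0, 2, 0, 3, 3, 0, 3, 0, 3, 3, 0, 2, 1], 0), (1, [0, 2, 0, 3, 0, 3, 0, 3, 0, 2, 1, 2], 0), (1, [2], 0)], [])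
  , ([(1, [3, 0, 3, 0, 2, 2, 0, 2, 0, 2, 0, 3, 0, 3, 0, 2, 0, 2], 0), (1, [3, 0, 3, 0, 2, 2, 0, 2, 0, 2, 2, 0, 3, 1, 2], 0), (1, [3, 0, 3, 0, 2, 0, 3, 3, 0, 3, 0, 2, 1, 2], 0), (1, [3], 0)], [])
  , ([(1, [2, 0, 2, 0, 3, 3, 0, 3, 0, 3, 0, 3, 3, 0, 3, 0, 2, 0, 2], 0), (1, [2, 0, 2, 0, 3, 3, 0, 3, 0, 3, 3, 0, 2, 1], 0), (1, [2, 0, 2, 0, 3, 0, 3, 0, 3, 0, 2, 1, 2], 0), (1, [2, 2], 0)], [])]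

/-- Walks of relation 47. -/
def cert47 : List (List StepCert × List (ℕ × Bool)) :=
  [([(0, [0, 3, 0, 2, 2, 0, 2, 0, 2, 0, 3, 0, 3, 0, 2, 0, 2], 0), (38, [0, 2, 2, 2, 0, 2, 0, 3, 0, 3, 0, 2, 2, 0, 2, 2, 0, 2, 2, 2], 0), (0, [0, 2, 0, 2, 2, 0, 2, 0, 2, 0, 3, 3, 0, 3, 3, 1, 2], 0), (14, [0], 0)], [(0, false)])
  , ([(0, [0, 3, 0, 2, 2, 0, 2, 0, 2, 0, 3, 0, 3, 0, 2, 0, 2], 0), (38, [0, 2, 2, 2, 0, 2, 0, 3, 0, 3, 0, 2, 2, 0, 2, 2, 0, 2, 2, 2], 0), (6, [0, 2, 0, 3, 3, 0, 2, 0, 2, 2, 0, 2, 0, 3, 0, 3, 0, 3, 0, 2, 1, 2], 0), (0, [0, 2, 0, 2, 2, 0, 3, 0, 3, 0, 2, 0, 2, 2, 2, 0, 2, 0, 3], 0)], [(0, false), (1, false), (0, true), (1, false)])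
  , ([(1, [0, 3, 0, 2, 2, 0, 2, 0, 2, 0, 3, 0, 3, 0, 2, 0, 2], 0), (18, [0, 2, 2, 2, 0, 2, 0, 3, 0, 3, 0, 2, 2, 0, 2, 2, 0, 2, 2, 2], 0), (1, [0, 2, 0, 2, 2, 0, 2, 0, 3, 0, 3, 0, 2, 0, 2, 2, 0, 3, 3, 0, 3, 1, 3], 0), (175, [3, 3, 0, 3, 3, 0, 2, 0, 2, 2, 0, 3, 3, 0, 3, 3, 0, 2, 0, 2, 2, 0, 3, 0, 3], 0)], [(0, true), (0, true), (0, true), (1, false), (0, true), (0, true)])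
  , ([(1, [0, 2, 0, 3, 3, 0, 3, 0, 3, 0, 3, 3, 0, 3, 0, 2, 0, 2], 0), (152, [0, 2, 2, 2, 0, 2, 0, 3, 0, 3, 0, 2, 2, 0, 2, 2, 0, 2, 2, 2], 0), (244, [0, 3, 0, 2, 2, 0, 2, 0, 3, 3, 0, 3, 3, 0, 2, 2], 0), (95, [0, 2, 0, 2, 0, 2, 2, 0, 2, 0, 3, 0, 3, 0, 3, 0, 2, 0, 2, 0, 3, 3], 0)], [(1, false), (1, false), (0, false), (1, false), (0, true), (1, true), (0, true), (0, true), (0, true)])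
  , ([(1, [3, 0, 3, 0, 2, 2, 0, 2, 0, 2, 0, 3, 0, 3, 0, 2, 0, 2], 0), (110, [3, 0, 2, 0, 3, 3, 0, 2, 2, 0, 2, 2, 1, 2, 2, 2], 0), (1, [0, 2, 2, 2, 0, 2, 0, 3, 3, 0, 2, 0, 2, 2, 0, 2, 0, 2, 2, 1], 0), (173, [0, 3, 3, 0, 3, 0, 3, 3, 0, 2, 2, 0, 2, 0, 2, 0, 3, 0, 2, 2, 2, 0, 2], 0)], [(0, false), (0, false), (1, true), (0, false), (0, false), (0, false)])
  , ([(1, [2, 0, 2, 0, 3, 3, 0, 3, 0, 3, 0, 3, 3, 0, 3, 0, 2, 0, 2], 0), (51, [3, 0, 3, 0, 2, 2, 2, 0, 2, 2, 0, 2, 0, 3, 3, 0, 3, 3, 0, 2, 2], 0), (1, [0, 2, 2, 2, 0, 2, 2, 0, 3, 0, 3, 3, 0, 3, 0, 2, 2, 0, 2, 2, 0, 3], 0), (37, [3, 0, 2, 0, 2, 0, 2, 0, 3, 0, 2, 2, 0, 2, 0, 3, 0, 2, 2, 2, 1], 0)], [(0, true), (0, true), (0, true), (1, false), (0, true), (0, true)])]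

/-- Walks of relation 48. -/
def cert48 : List (List StepCert × List (ℕ × Bool)) :=
  [([(0, [0, 3, 0, 2, 2, 0, 2, 0, 2, 0, 3, 0, 3, 0, 2, 0, 2], 0), (0, [2, 0, 2, 2, 0, 3, 0, 3, 3, 0, 2, 0, 3, 3, 0, 2, 2, 0, 2, 0, 3], 0), (0, [0, 2, 0, 2, 2, 0, 2, 2, 0, 3, 0, 3, 0, 3, 3, 0, 3, 0], 0), (0, [], 0)], [])
  , ([(0, [0, 3, 0, 2, 2, 0, 2, 0, 2, 0, 3, 0, 3, 0, 2, 0, 2], 0), (0, [2, 0, 2, 2, 0, 3, 0, 3, 3, 0, 2, 0, 3, 3, 0, 2, 2, 0, 2, 0, 3], 0), (0, [0, 2, 0, 2, 2, 0, 2, 2, 0, 3, 0, 3, 0, 3, 3, 0, 3, 0], 0), (0, [], 0)], [])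
  , ([(1, [0, 3, 0, 2, 2, 0, 2, 0, 2, 0, 3, 0, 3, 0, 2, 0, 2], 0), (1, [2, 0, 2, 2, 0, 3, 0, 3, 3, 0, 2, 0, 3, 3, 0, 2, 2, 0, 2, 0, 3], 0), (1, [0, 2, 0, 2, 2, 0, 2, 2, 0, 3, 0, 3, 0, 3, 3, 0, 3, 0], 0), (1, [], 0)], [])
  , ([(1, [0, 2, 0, 3, 3, 0, 3, 0, 3, 0, 3, 3, 0, 3, 0, 2, 0, 2], 0), (1, [3, 0, 2, 0, 2, 2, 2, 0, 3, 0, 2, 2, 0, 3, 0, 2, 2, 2, 0, 2, 0], 0), (1, [0, 3, 0, 2, 2, 0, 2, 0, 2, 0, 2, 2, 0, 2, 0, 3, 0, 2], 0), (1, [2], 0)], [])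
  , ([(1, [3, 0, 3, 0, 2, 2, 0, 2, 0, 2, 0, 3, 0, 3, 0, 2, 0, 2], 0), (1, [0, 2, 2, 0, 3, 0, 3, 3, 0, 2, 0, 3, 3, 0, 2, 2, 0, 2, 0, 3], 0), (1, [0, 3, 0, 2, 2, 0, 2, 0, 2, 0, 2, 2, 2, 0, 2, 2, 0, 3, 0], 0), (1, [3], 0)], [])
  , ([(1, [2, 0, 2, 0, 3, 3, 0, 3, 0, 3, 0, 3, 3, 0, 3, 0, 2, 0, 2], 0), (1, [0, 2, 0, 2, 2, 2, 0, 3, 0, 2, 2, 0, 3, 0, 2, 2, 2, 0, 2, 0], 0), (1, [0, 2, 0, 2, 2, 0, 2, 2, 0, 3, 0, 3, 0, 2, 0, 2, 0], 0), (1, [2, 2], 0)], [])]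

/-- Walks of relation 49. -/
def cert49 : List (List StepCert × List (ℕ × Bool)) :=
  [([(5, [3, 0, 2, 0, 2, 0, 3, 0, 3, 3, 0, 2, 2, 2, 0, 3, 0, 3, 1, 3], 4), (26, [2, 0, 3, 0, 2, 2, 0, 3, 0, 3, 3, 0, 2, 2, 0, 2, 0, 2, 0, 2, 2, 0, 2, 2], 1), (76, [2, 0, 3, 0, 2, 2, 0, 2, 0, 3, 3, 0, 3, 3, 0, 2, 2, 0, 2, 0, 3, 3, 0, 3], 0), (0, [0, 2, 0, 2, 2, 0, 3, 0, 3, 3, 0, 3, 0, 3, 3, 0, 2, 2, 0, 2, 0, 3, 0, 3], 0), (111, [3, 0, 3, 3, 0, 3, 0, 3, 3, 0, 2, 2, 0, 3, 0, 2, 2], 4), (0, [0, 3, 3, 0, 2, 0, 2, 2, 0, 2, 0, 3, 3, 0], 4), (240, [0, 2, 0, 2, 2, 0, 3, 0, 3, 3, 0, 2, 0, 2, 0, 2, 2, 0, 3, 3, 0, 3, 0], 0), (0, [2, 2, 2, 0, 2, 2, 2, 0, 3, 0, 3, 0, 2, 0, 2, 0, 3], 0)], [(1, false), (1, false), (1, false), (0, false), (1, false),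 (1, false), (1, false), (0, false), (1, true), (0, false), (1, true), (0, false), (1, false), (0, false), (1, false), (0, false), (1, true)])
  , ([(5, [3, 0, 2, 0, 2, 0, 3, 0, 3, 3, 0, 2, 2, 2, 0, 3, 0, 3, 1, 3], 4), (274, [0, 2, 2, 2, 0, 2, 2, 0, 3, 0, 3, 3, 0, 3, 3, 0, 3, 0, 2, 2, 0, 2, 2], 3), (303, [0, 2, 0, 3, 0, 3, 3, 0, 3, 0, 2, 0, 2, 0, 3, 0, 2, 2, 0, 2, 2, 1, 3], 0), (303, [3, 3, 0, 3, 0, 3, 0, 2, 0, 2, 2, 0, 3, 0, 3, 3, 0, 3, 3, 0], 0), (35, [2, 2, 0, 2, 0, 2, 2, 2, 0, 2, 0, 2, 0, 3, 0, 2, 2, 0, 2, 2, 1, 3], 2), (35, [2, 2, 0, 2, 0, 3, 3, 0, 2, 0, 2, 2, 0, 2, 0, 3, 0, 3, 0, 2, 2, 1], 4), (0, [0, 3, 0, 2, 2, 0, 3, 0, 3, 3, 0, 3, 3, 1, 2], 0), (0, [3, 0, 2, 0, 2, 0, 3, 0, 3, 0, 2, 0, 2, 2, 0, 2, 2, 0, 2],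 0)], [(1, false), (1, false), (0, false), (1, false), (0, true), (0, true), (1, false), (1, false), (0, true), (1, true), (0, true)])
  , ([(14, [3, 0, 2, 0, 2, 0, 3, 0, 3, 3, 0, 2, 2, 2, 0, 3, 0, 3, 1, 3], 1), (199, [0, 3, 0, 3, 3, 0, 3, 0, 3, 0, 3, 3, 0, 2, 2, 0, 2, 1], 4), (7, [2, 0, 3, 0, 2, 2, 0, 2, 0, 3, 0, 3, 3, 0, 2, 2, 0, 2, 0, 2, 1], 0), (1, [0, 3, 0, 2, 0, 3, 3, 0, 3, 0, 2, 1, 2], 0), (14, [0, 3, 0, 3, 0, 3, 0, 2, 0, 2, 2, 0, 2, 0, 3, 3, 0, 3, 3, 0, 2, 0, 3], 1), (46, [0, 3, 0, 2, 0, 2, 2, 0, 2, 0, 3, 3, 0, 3, 3, 0, 2, 0, 2, 2, 0, 2, 0, 3], 4), (12, [0, 2, 0, 3, 3, 0, 3, 3, 0, 2, 2, 0, 3, 3, 0, 3, 0, 3], 0), (1, [0, 3, 0, 2, 0, 3, 3, 0, 2, 0, 3, 3, 0, 3, 0, 2, 2, 0, 3], 0)], [(0, false), (0, false), (1,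 false), (1, false), (0, true), (1, false), (1, false), (0, false), (1, false), (0, false)])
  , ([(6, [3, 0, 2, 0, 2, 0, 3, 0, 3, 3, 0, 2, 2, 2, 0, 3, 0, 3, 1, 3], 4), (335, [3, 3, 0, 2, 0, 2, 0, 3, 0, 3, 0, 3, 0, 3, 3, 1], 1), (1, [2, 0, 2, 2, 0, 3, 0, 3, 3, 0, 3, 0, 3, 3, 1], 0), (1, [2, 0, 3, 3, 0, 2, 0, 2, 0, 3, 0, 3, 3, 1, 2], 0), (0, [0, 2, 2, 0, 2, 2, 0, 2, 0, 2, 0, 3, 0, 3, 3, 0, 2, 0, 2, 0, 2, 0], 4), (18, [0, 3, 0, 2, 0, 2, 0, 2, 2, 2, 0, 2, 0, 2, 2, 0, 3, 3, 0, 2, 2, 1, 2, 2], 4), (240, [3, 3, 0, 3, 0, 3, 0, 2, 0, 2, 2, 0, 3, 0, 3, 0, 2, 0, 3], 0), (1, [0, 3, 3, 0, 3, 3, 0, 3, 3, 0, 2, 2, 2, 0, 2, 1, 3], 0)], [(0, false), (0, false), (1, true), (0, true), (0, true), (1, false), (1, false), (0, true), (0,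 true), (1, true), (0, true)])
  , ([(28, [3, 0, 2, 0, 2, 0, 3, 0, 3, 3, 0, 2, 2, 2, 0, 3, 0, 3, 1, 3], 4), (208, [0, 3, 0, 2, 0, 2, 0, 2, 0, 3, 0, 2, 2, 0, 3, 0, 3, 3], 4), (1, [0, 3, 0, 3, 0, 2, 0, 2, 0, 2, 0, 3, 0, 2, 2, 0, 3, 3, 0, 3, 1, 2], 0), (1, [3, 3, 0, 2, 2, 0, 2, 0, 2, 0, 3, 0, 2, 2, 2, 0, 3, 0, 2, 2, 0, 3], 0), (0, [2, 0, 3, 3, 0, 2, 0, 2, 0, 3, 0, 3, 0, 3, 0, 3, 3, 1], 4), (171, [2, 0, 2, 2, 0, 2, 2, 0, 2, 0, 2, 0, 2, 2, 1], 4), (240, [2, 2, 0, 2, 0, 2, 2, 0, 2, 2, 0, 2, 0, 2, 0, 3, 0, 2, 2, 2, 0, 2], 0), (1, [2, 0, 3, 3, 0, 3, 0, 3, 0, 3], 0)], [(1, true), (0, false), (1, false), (0, false), (0, false), (0, false), (1, false), (0, false), (1, false), (0, true), (1, true), (0, false), (0, false)])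
  , ([(0, [3, 0, 2, 0, 2, 0, 3, 0, 3, 3, 0, 2, 2, 2, 0, 3, 0, 3, 1, 3], 4), (26, [2, 0, 3, 0, 2, 2, 0, 3, 0, 3, 3, 0, 2, 2, 0, 2, 0, 2, 0, 2, 2, 1, 2, 2], 2), (240, [2, 2, 0, 3, 3, 0, 3, 0, 3, 3, 0, 2, 0, 2, 2, 0, 2, 0, 2, 2, 0, 3], 0), (1, [3, 3, 0, 3, 0, 3, 0, 2, 2, 2, 0, 3, 0, 3, 1], 0), (0, [0, 3, 0, 3, 0, 3, 0, 3, 3, 0, 2, 2, 0, 3, 3], 4), (38, [3, 0, 3, 0, 2, 0, 3, 3, 0, 2, 2, 0, 2, 0, 3, 0, 3, 0, 2, 1, 2, 2], 2), (240, [3, 3, 0, 2, 2, 0, 2, 0, 3, 3, 0, 2, 0, 3, 3, 0, 2, 0, 2, 2, 0, 2, 0, 2, 1], 0), (1, [2, 2, 0, 3, 3, 0, 3, 3, 0, 3, 3, 0, 3, 3], 0)], [(1, false), (0, false), (0, false), (0, false), (1, true), (0, false), (1, false), (0, true), (1, false), (1, false), (0, false), (1, true), (0, false), (0,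 false)])]

/-- Walks of relation 50. -/
def cert50 : List (List StepCert × List (ℕ × Bool)) :=
  [([(5, [3, 0, 2, 0, 2, 0, 3, 0, 3, 3, 0, 2, 2, 2, 0, 3, 0, 3, 1, 3], 4), (26, [2, 0, 3, 0, 2, 2, 0, 3, 0, 3, 3, 0, 2, 2, 0, 2, 0, 2, 0, 2, 2, 0, 2, 2], 1), (76, [2, 0, 3, 0, 2, 2, 0, 2, 0, 3, 3, 0, 3, 3, 0, 2, 2, 0, 2, 0, 3, 3, 0, 3], 0), (96, [3, 3, 0, 3, 3, 0, 2, 0, 2, 2, 0, 2, 0, 2, 2, 0, 3, 0, 3, 0, 3], 0), (111, [2, 2, 0, 2, 0, 2, 2, 0, 3, 0, 2, 2, 0, 2, 0, 2, 2, 2, 0, 2, 1, 2], 4), (0, [0, 2, 2, 0, 2, 2, 0, 3, 0, 2, 2, 0, 2, 2, 0], 4), (240, [2, 0, 2, 2, 0, 2, 0, 2, 2, 0, 3, 3, 0, 3, 0, 2, 0, 2, 2, 1, 3, 3], 0), (106, [0, 3, 3, 0, 3, 3, 0, 2, 0, 2, 2, 0, 3, 3, 0, 2, 2, 0, 2, 1, 2, 2], 0)], [(1, true), (2, false),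 (1, false), (1, false), (0, true), (1, false), (1, false), (1, false), (2, false), (1, false), (1, false), (2, false), (0, false), (1, false), (0, false), (1, true), (0, false), (1, true), (1, true), (2, false)])
  , ([(5, [3, 0, 2, 0, 2, 0, 3, 0, 3, 3, 0, 2, 2, 2, 0, 3, 0, 3, 1, 3], 4), (274, [0, 2, 2, 2, 0, 2, 2, 0, 3, 0, 3, 3, 0, 3, 3, 0, 3, 0, 2, 2, 0, 2, 2], 3), (303, [0, 2, 0, 3, 0, 3, 3, 0, 3, 0, 2, 0, 2, 0, 3, 0, 2, 2, 0, 2, 2, 1, 3], 0), (272, [2, 0, 3, 0, 3, 0, 2, 0, 2, 0, 3, 0, 3, 1, 3, 3], 0), (74, [3, 3, 0, 2, 2, 2, 0, 2, 2, 0, 2, 0, 3, 3, 0, 2, 0, 2, 2, 2], 3), (35, [0, 2, 2, 2, 0, 3, 0, 3, 0, 2, 0, 2, 0, 2, 2, 0, 2, 2, 0, 3, 1, 3], 4), (342, [3, 3, 0, 2, 2, 0, 2, 0, 2, 0, 2, 2, 2, 0, 2, 0, 3, 1], 0),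 (0, [2, 0, 2, 0, 2, 2, 0, 3, 3, 0, 3, 0, 3, 0, 2, 0, 2, 2, 0, 3], 0)], [(1, false), (0, true), (1, false), (1, false), (0, false), (0, false), (1, false), (0, false), (1, false), (0, true), (0, true), (1, true)])
  , ([(14, [3, 0, 2, 0, 2, 0, 3, 0, 3, 3, 0, 2, 2, 2, 0, 3, 0, 3, 1, 3], 1), (199, [0, 3, 0, 3, 3, 0, 3, 0, 3, 0, 3, 3, 0, 2, 2, 0, 2, 1], 4), (7, [2, 0, 3, 0, 2, 2, 0, 2, 0, 3, 0, 3, 3, 0, 2, 2, 0, 2, 0, 2, 1], 0), (18, [0, 2, 0, 2, 2, 0, 2, 2, 0, 3, 0, 2, 2, 0, 2, 2, 0, 2], 0), (235, [3, 0, 3, 3, 0, 2, 2, 2, 0, 2, 0, 2, 0, 3, 3, 1, 3], 1), (46, [0, 3, 0, 3, 3, 0, 3, 0, 2, 2, 0, 2, 0, 3, 0, 3, 0, 2, 2, 2, 0, 3, 0], 4), (49, [3, 0, 3, 3, 0, 2, 0, 2, 2, 0, 2, 0, 2, 2, 0, 3, 3, 0, 3, 0, 2, 0], 0), (171, [0,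 2, 2, 0, 2, 2, 0, 2, 2, 0, 2, 0, 2, 0, 3, 0, 2, 2, 2, 0], 0)], [(0, false), (1, true), (0, false), (1, true), (0, true), (1, false), (0, false), (1, false), (1, false), (0, false)])
  , ([(6, [3, 0, 2, 0, 2, 0, 3, 0, 3, 3, 0, 2, 2, 2, 0, 3, 0, 3, 1, 3], 4), (335, [3, 3, 0, 2, 0, 2, 0, 3, 0, 3, 0, 3, 0, 3, 3, 1], 1), (1, [2, 0, 2, 2, 0, 3, 0, 3, 3, 0, 3, 0, 3, 3, 1], 0), (111, [0, 2, 0, 2, 0, 3, 0, 3, 0, 2, 0, 2, 2, 2, 0, 3, 1, 2, 2], 0), (112, [0, 2, 2, 2, 0, 3, 0, 2, 2, 0, 3, 0, 3], 4), (111, [2, 2, 0, 3, 0, 3, 0, 3, 3, 0, 2, 2, 0, 2, 0, 3, 0, 3, 3, 1, 2], 4), (137, [2, 0, 2, 0, 3, 0, 2, 2, 0, 3, 0, 3, 3, 0, 3, 0, 2, 0, 2, 0, 3, 1, 2], 0), (24, [0, 3, 0, 3, 0, 2, 0, 2, 2, 0, 3, 3, 0, 2, 0, 2, 2], 0)], [(0, true),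 (1, false), (1, false), (0, false), (1, false), (1, false), (0, false)])
  , ([(28, [3, 0, 2, 0, 2, 0, 3, 0, 3, 3, 0, 2, 2, 2, 0, 3, 0, 3, 1, 3], 4), (208, [0, 3, 0, 2, 0, 2, 0, 2, 0, 3, 0, 2, 2, 0, 3, 0, 3, 3], 4), (1, [0, 3, 0, 3, 0, 2, 0, 2, 0, 2, 0, 3, 0, 2, 2, 0, 3, 3, 0, 3, 1, 2], 0), (175, [0, 3, 3, 0, 3, 3, 0, 2, 2, 0, 3, 3, 0, 3, 0, 3, 1, 2, 2, 2], 0), (113, [0, 3, 0, 2, 0, 2, 0, 3, 0, 3, 0, 2, 0, 2, 2, 1, 2], 4), (4, [0, 2, 0, 2, 0, 2, 0, 3, 3, 0, 3, 3, 0, 3, 0, 3, 0, 2, 1, 2, 2], 4), (287, [0, 3, 0, 3, 0, 2, 0, 2, 0, 2, 0, 3, 0, 3, 3, 0, 2, 1], 0), (57, [3, 0, 3, 0, 3, 0, 2, 0, 3, 3, 0, 2, 0, 2, 2, 0, 3, 0, 3, 1, 3], 0)], [(1, false), (0, true), (1, false), (0, false), (1, false), (0, true), (1, false),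 (0, false), (1, false), (0, false)])
  , ([(0, [3, 0, 2, 0, 2, 0, 3, 0, 3, 3, 0, 2, 2, 2, 0, 3, 0, 3, 1, 3], 4), (26, [2, 0, 3, 0, 2, 2, 0, 3, 0, 3, 3, 0, 2, 2, 0, 2, 0, 2, 0, 2, 2, 1, 2, 2], 2), (240, [2, 2, 0, 3, 3, 0, 3, 0, 3, 3, 0, 2, 0, 2, 2, 0, 2, 0, 2, 2, 0, 3], 0), (51, [2, 2, 0, 2, 2, 0, 3, 3, 0, 3, 3, 0, 3, 3, 1, 2, 2], 0), (0, [3, 3, 0, 3, 3, 0, 2, 0, 2, 2, 0, 2, 2, 0, 2, 0, 2, 2], 4), (193, [2, 0, 2, 2, 0, 3, 0, 3, 0, 2, 0, 2, 0, 2, 0, 3, 0, 3, 0, 3, 3, 0, 3, 3], 4), (1, [0, 2, 2, 0, 2, 2, 0, 2, 0, 2, 0, 2, 2, 0, 2, 2, 2, 0, 3, 0, 3], 0), (173, [0, 2, 0, 2, 0, 2, 2, 0, 2, 0, 2, 0, 3, 0, 2, 2, 2, 0, 3, 0, 3], 0)], [(0, true), (1, false), (1, false), (0, false), (0, false), (0, false), (1, false), (1, false),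 (0, false), (0, false), (1, true), (0, false), (1, false)])]

/-- Walks of relation 51. -/
def cert51 : List (List StepCert × List (ℕ × Bool)) :=
  [([(5, [3, 0, 2, 0, 2, 0, 3, 0, 3, 3, 0, 2, 2, 2, 0, 3, 0, 3, 1, 3], 4), (26, [2, 0, 3, 0, 2, 2, 0, 3, 0, 3, 3, 0, 2, 2, 0, 2, 0, 2, 0, 2, 2, 0, 2, 2], 1), (76, [2, 0, 3, 0, 2, 2, 0, 2, 0, 3, 3, 0, 3, 3, 0, 2, 2, 0, 2, 0, 3, 3, 0, 3], 0), (0, [2, 0, 3, 3, 0, 2, 2, 0, 2, 0, 2, 2, 0, 3, 3, 0, 3, 0, 3, 1, 2, 2, 2], 0), (111, [0, 3, 0, 3, 3, 0, 3, 3, 0, 3, 3, 0, 3, 0, 2, 0, 2, 1, 2], 4), (0, [0, 3, 3, 0, 3, 0, 3, 3, 0, 2, 2, 2, 0, 2, 0, 2, 0, 2, 2, 1], 4), (240, [3, 0, 2, 0, 3, 3, 0, 2, 0, 2, 2, 0, 2, 0, 3, 3, 0, 2, 1, 3, 3], 0), (0, [2, 2, 2, 0, 2, 2, 2, 0, 3, 0, 3, 0, 2,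 0, 2, 0, 3], 0)], [(1, false), (1, false), (1, false), (0, false), (1, false), (1, false), (1, false), (0, false), (1, true), (0, false), (1, true), (0, false), (1, false), (0, false), (1, false), (0, false), (1, true)])
  , ([(5, [3, 0, 2, 0, 2, 0, 3, 0, 3, 3, 0, 2, 2, 2, 0, 3, 0, 3, 1, 3], 4), (274, [0, 2, 2, 2, 0, 2, 2, 0, 3, 0, 3, 3, 0, 3, 3, 0, 3, 0, 2, 2, 0, 2, 2], 3), (303, [0, 2, 0, 3, 0, 3, 3, 0, 3, 0, 2, 0, 2, 0, 3, 0, 2, 2, 0, 2, 2, 1, 3], 0), (303, [0, 3, 0, 2, 0, 2, 0, 3, 0, 2, 2, 0, 2, 2, 2, 0, 2, 0, 3, 3], 0), (35, [3, 0, 3, 0, 3, 0, 2, 0, 2, 0, 3, 0, 3, 0, 3, 0, 2, 0, 2, 2, 0, 2, 2], 2), (35, [2, 0, 2, 2, 2, 0, 2, 2, 0, 2, 0, 3, 3, 0, 2, 0, 2, 2, 2, 0, 2], 4), (0, [0, 2, 0, 2, 0, 2, 0, 2, 2, 0, 3,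 3, 0, 3, 3, 0, 2, 0, 2, 2], 0), (0, [3, 0, 2, 0, 2, 0, 3, 0, 3, 0, 2, 0, 2, 2, 0, 2, 2, 0, 2], 0)], [(1, false), (1, false), (0, false), (1, false), (0, true), (0, true), (1, false), (1, false), (0, true), (1, true), (0, true)])
  , ([(14, [3, 0, 2, 0, 2, 0, 3, 0, 3, 3, 0, 2, 2, 2, 0, 3, 0, 3, 1, 3], 1), (199, [0, 3, 0, 3, 3, 0, 3, 0, 3, 0, 3, 3, 0, 2, 2, 0, 2, 1], 4), (7, [2, 0, 3, 0, 2, 2, 0, 2, 0, 3, 0, 3, 3, 0, 2, 2, 0, 2, 0, 2, 1], 0), (1, [3, 0, 3, 0, 2, 2, 0, 2, 0, 2, 2, 0, 3, 1, 2, 2], 0), (14, [2, 0, 3, 0, 3, 0, 3, 3, 0, 2, 2, 0, 2, 2, 0, 2, 2, 0, 3, 1], 1), (46, [0, 3, 3, 0, 3, 0, 2, 2, 0, 3, 0, 3, 3, 0, 2, 0, 2, 0, 2, 0, 3, 0], 4), (12, [2, 0, 3, 0, 3, 0, 3, 0, 3, 3, 0, 2, 2, 0, 2, 0, 2, 2, 0, 2, 1, 3],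 0), (1, [0, 3, 0, 2, 0, 3, 3, 0, 2, 0, 3, 3, 0, 3, 0, 2, 2, 0, 3], 0)], [(0, false), (0, false), (1, false), (1, false), (0, true), (1, false), (1, false), (0, false), (1, false), (0, false)])
  , ([(6, [3, 0, 2, 0, 2, 0, 3, 0, 3, 3, 0, 2, 2, 2, 0, 3, 0, 3, 1, 3], 4), (335, [3, 3, 0, 2, 0, 2, 0, 3, 0, 3, 0, 3, 0, 3, 3, 1], 1), (1, [2, 0, 2, 2, 0, 3, 0, 3, 3, 0, 3, 0, 3, 3, 1], 0), (1, [2, 2, 0, 3, 0, 3, 0, 3, 0, 2, 2, 2, 0, 3, 0, 3, 0, 2, 0], 0), (0, [3, 3, 0, 3, 0, 2, 2, 2, 0, 2, 2, 2, 0, 2, 0, 3, 0, 3, 3], 4), (18, [0, 2, 0, 3, 3, 0, 2, 0, 2, 2, 0, 3, 0, 3, 3, 0, 2, 2, 0, 3, 3, 1, 2, 2], 4), (240, [3, 0, 2, 0, 2, 0, 2, 0, 2, 2, 0, 3, 3, 0, 2, 2, 0, 2, 2, 0, 3, 3], 0), (1, [0, 3, 3, 0, 3, 3, 0, 3, 3, 0, 2, 2, 2,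 0, 2, 1, 3], 0)], [(0, false), (0, false), (1, true), (0, true), (0, true), (1, false), (1, false), (0, true), (0, true), (1, true), (0, true)])
  , ([(28, [3, 0, 2, 0, 2, 0, 3, 0, 3, 3, 0, 2, 2, 2, 0, 3, 0, 3, 1, 3], 4), (208, [0, 3, 0, 2, 0, 2, 0, 2, 0, 3, 0, 2, 2, 0, 3, 0, 3, 3], 4), (1, [0, 3, 0, 3, 0, 2, 0, 2, 0, 2, 0, 3, 0, 2, 2, 0, 3, 3, 0, 3, 1, 2], 0), (1, [2, 2, 0, 3, 0, 2, 2, 0, 3, 0, 3, 3, 0, 3, 3, 0, 2, 2, 0, 3, 0], 0), (0, [2, 0, 3, 3, 0, 3, 3, 0, 2, 2, 1, 3], 4), (171, [2, 0, 2, 2, 0, 3, 3, 0, 2, 2, 0, 3, 3], 4), (240, [2, 0, 3, 0, 2, 2, 0, 2, 0, 3, 3, 0, 2, 1], 0), (1, [2, 0, 3, 3, 0, 3, 0, 3, 0, 3], 0)], [(1, true), (0, false), (1, false), (0, false), (0, false), (0, false), (1, false), (0, false),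 (1, false), (0, true), (1, true), (0, false), (0, false)])
  , ([(0, [3, 0, 2, 0, 2, 0, 3, 0, 3, 3, 0, 2, 2, 2, 0, 3, 0, 3, 1, 3], 4), (26, [2, 0, 3, 0, 2, 2, 0, 3, 0, 3, 3, 0, 2, 2, 0, 2, 0, 2, 0, 2, 2, 1, 2, 2], 2), (240, [2, 2, 0, 3, 3, 0, 3, 0, 3, 3, 0, 2, 0, 2, 2, 0, 2, 0, 2, 2, 0, 3], 0), (1, [3, 3, 0, 3, 0, 3, 0, 2, 0, 2, 0, 2, 0, 3, 0, 3, 0], 0), (0, [3, 0, 3, 0, 2, 0, 2, 2, 2, 0, 2, 2, 0, 2, 0, 2, 2, 0, 2, 1], 4), (38, [0, 2, 0, 3, 0, 3, 0, 2, 0, 2, 2, 0, 3, 3, 0, 3, 0, 2, 2, 2, 1, 2], 2), (240, [3, 0, 2, 2, 2, 0, 2, 2, 0, 2, 0, 2, 0, 3, 0, 3, 3, 0, 2, 2, 0, 3], 0), (1, [2, 2, 0, 3, 3, 0, 3, 3, 0, 3, 3, 0, 3, 3], 0)], [(1, false), (0, false), (0, false), (0, false), (1, true), (0, false), (1, false), (0,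 true), (1, false), (1, false), (0, false), (1, true), (0, false), (0, false)])]

/-- Walks of relation 52. -/
def cert52 : List (List StepCert × List (ℕ × Bool)) :=
  [([(0, [3, 0, 3, 0, 2, 0, 2, 0, 2, 0, 3, 1, 2], 0), (38, [0, 2, 0, 2, 2, 0, 2, 2, 0, 3, 0, 2, 2, 0, 2, 2, 0, 2], 0), (0, [0, 2, 0, 2, 2, 0, 2, 0, 2, 0, 3, 3, 0, 3, 3, 1, 2], 0), (14, [0], 0)], [(0, false)])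
  , ([(0, [3, 0, 3, 0, 2, 0, 2, 0, 2, 0, 3, 1, 2], 0), (38, [0, 2, 0, 2, 2, 0, 2, 2, 0, 3, 0, 2, 2, 0, 2, 2, 0, 2], 0), (6, [0, 2, 0, 3, 3, 0, 2, 0, 2, 2, 0, 2, 0, 3, 0, 3, 0, 3, 0, 2, 1, 2], 0), (0, [0, 2, 0, 2, 2, 0, 3, 0, 3, 0, 2, 0, 2, 2, 2, 0, 2, 0, 3], 0)], [(0, false), (1, false), (0, true), (1, false)])
  , ([(1, [3, 0, 3, 0, 2, 0, 2, 0, 2, 0, 3, 1, 2], 0), (18, [0, 2, 0, 2, 2, 0, 2, 2, 0, 3, 0, 2, 2, 0, 2, 2, 0, 2], 0), (1, [0, 2, 0, 2, 2, 0, 2, 0, 3, 0, 3, 0, 2, 0, 2, 2, 0, 3, 3, 0, 3, 1, 3], 0), (175, [3, 3, 0, 3, 3, 0, 2, 0, 2, 2, 0, 3, 3, 0, 3, 3, 0, 2, 0, 2, 2, 0, 3, 0, 3], 0)], [(0, true), (0, true), (0, true), (1, false), (0, true), (0, true)])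
  , ([(1, [0, 3, 0, 2, 0, 2, 0, 2, 0, 3, 1, 2], 0), (152, [0, 2, 0, 2, 2, 0, 2, 2, 0, 3, 0, 2, 2, 0, 2, 2, 0, 2], 0), (244, [0, 3, 0, 2, 2, 0, 2, 0, 3, 3, 0, 3, 3, 0, 2, 2], 0), (95, [0, 2, 0, 2, 0, 2, 2, 0, 2, 0, 3, 0, 3, 0, 3, 0, 2, 0, 2, 0, 3, 3], 0)], [(1, false), (1, false), (0, false), (1, false), (0, true), (1, true), (0, true), (0, true), (0, true)])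
  , ([(1, [3, 3, 0, 3, 0, 2, 0, 2, 0, 2, 0, 3, 1, 2], 0), (110, [2, 2, 0, 2, 2, 0, 2, 0, 3, 0, 2, 2, 0, 2, 0, 3, 0, 2], 0), (1, [0, 2, 2, 2, 0, 2, 0, 3, 3, 0, 2, 0, 2, 2, 0, 2, 0, 2, 2, 1], 0), (173, [0, 3, 3, 0, 3, 0, 3, 3, 0, 2, 2, 0, 2, 0, 2, 0, 3, 0, 2, 2, 2, 0, 2], 0)], [(0, false), (0, false), (1, true), (0, false), (0, false), (0, false)])
  , ([(1, [0, 2, 0, 3, 0, 2, 2, 0, 2, 0, 3, 1, 2], 0), (51, [2, 0, 2, 0, 2, 2, 2, 0, 3, 0, 3, 3, 0, 2, 2, 0, 3, 0, 2], 0), (1, [0, 2, 2, 2, 0, 2, 2, 0, 3, 0, 3, 3, 0, 3, 0, 2, 2, 0, 2, 2, 0, 3], 0), (37, [3, 0, 2, 0, 2, 0, 2, 0, 3, 0, 2, 2, 0, 2, 0, 3, 0, 2, 2, 2, 1], 0)], [(0, true), (0, true), (0, true), (1, false), (0, true), (0, true)])]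

/-- Walks of relation 53. -/
def cert53 : List (List StepCert × List (ℕ × Bool)) :=
  [([(0, [3, 0, 3, 0, 2, 0, 2, 0, 2, 0, 3, 1, 2], 0), (0, [3, 0, 3, 0, 2, 2, 0, 2, 0, 2, 2, 0, 3, 1, 2, 2], 0), (0, [0, 2, 0, 2, 2, 0, 2, 2, 0, 3, 0, 3, 0, 3, 3, 0, 3, 0], 0), (0, [], 0)], [])
  , ([(0, [3, 0, 3, 0, 2, 0, 2, 0, 2, 0, 3, 1, 2], 0), (0, [3, 0, 3, 0, 2, 2, 0, 2, 0, 2, 2, 0, 3, 1, 2, 2], 0), (0, [0, 2, 0, 2, 2, 0, 2, 2, 0, 3, 0, 3, 0, 3, 3, 0, 3, 0], 0), (0, [], 0)], [])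
  , ([(1, [3, 0, 3, 0, 2, 0, 2, 0, 2, 0, 3, 1, 2], 0), (1, [3, 0, 3, 0, 2, 2, 0, 2, 0, 2, 2, 0, 3, 1, 2, 2], 0), (1, [0, 2, 0, 2, 2, 0, 2, 2, 0, 3, 0, 3, 0, 3, 3, 0, 3, 0], 0), (1, [], 0)], [])
  , ([(1, [0, 3, 0, 2, 0, 2, 0, 2, 0, 3, 1, 2], 0), (1, [0, 3, 0, 2, 2, 0, 2, 0, 2, 2, 0, 3, 1, 2, 2], 0), (1, [0, 3, 0, 2, 2, 0, 2, 0, 2, 0, 2, 2, 0, 2, 0, 3, 0, 2], 0), (1, [2], 0)], [])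
  , ([(1, [3, 3, 0, 3, 0, 2, 0, 2, 0, 2, 0, 3, 1, 2], 0), (1, [2, 2, 2, 0, 2, 0, 3, 3, 0, 3, 0, 3, 3, 0, 2, 1, 2], 0), (1, [0, 3, 0, 2, 2, 0, 2, 0, 2, 0, 2, 2, 2, 0, 2, 2, 0, 3, 0], 0), (1, [3], 0)], [])
  , ([(1, [0, 2, 0, 3, 0, 2, 2, 0, 2, 0, 3, 1, 2], 0), (1, [0, 2, 0, 3, 3, 0, 3, 0, 3, 3, 0, 2, 1, 2], 0), (1, [0, 2, 0, 2, 2, 0, 2, 2, 0, 3, 0, 3, 0, 2, 0, 2, 0], 0), (1, [2, 2], 0)], [])]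

/-- Walks of relation 54. -/
def cert54 : List (List StepCert × List (ℕ × Bool)) :=
  [([(103, [0, 2, 0, 3, 3, 0, 3, 0, 3, 0, 2, 0, 2, 0, 3, 0, 3, 1], 0), (0, [2, 0, 2, 0, 2, 2, 2, 0, 3, 3, 0, 3, 0, 2, 2, 0, 2, 2, 1], 0), (103, [0, 2, 0, 2, 2, 0, 2, 2, 0, 3, 0, 3, 0, 3, 3, 0, 3, 0], 0), (0, [3, 3, 0, 2, 2, 0, 3, 3], 0)], [(1, true), (1, true), (0, false), (1, false), (1, false), (0, false), (1, true), (1, true)])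
  , ([(103, [0, 2, 0, 3, 3, 0, 3, 0, 3, 0, 2, 0, 2, 0, 3, 0, 3, 1], 0), (6, [2, 0, 2, 0, 3, 0, 3, 3, 0, 2, 0, 2, 2, 0, 2, 0, 2, 1, 2], 0), (0, [0, 3, 0, 3, 3, 0, 2, 2, 0, 2, 0, 3, 3, 0, 3, 3, 0, 2, 2, 0, 3], 0), (0, [2, 0, 3, 0, 3, 0, 3, 0, 2, 0, 2, 2, 0, 2, 0, 2, 0, 2], 0)], [(0, true), (0, true), (1, true), (0, false), (1, false)])
  , ([(51, [0, 2, 0, 3, 3, 0, 3, 0, 3, 0, 2, 0, 2, 0, 3, 0, 3, 1], 0), (1, [2, 2, 2, 0, 3, 3, 0, 2, 0, 2, 2, 0, 2, 0, 3, 3, 0, 3, 3, 0, 2, 0], 0), (37, [2, 0, 3, 3, 0, 3, 3, 0, 2, 0, 2, 2, 0, 2, 0, 2, 2, 2, 0, 3], 0), (1, [0, 3, 0, 2, 0, 3, 3, 0, 2, 0, 3, 3, 0, 3, 0, 3, 3, 0, 2], 0)], [(0, true), (0, true), (0, true), (1, false), (0, true), (0, true)])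
  , ([(109, [0, 3, 0, 2, 2, 0, 2, 2, 0, 3, 0, 3, 0, 3, 3, 0, 2], 0), (244, [0, 2, 0, 2, 0, 3, 0, 3, 3, 0, 3, 0, 2, 2, 0, 3, 0, 3, 3, 0, 3, 3], 0), (12, [0, 2, 0, 2, 0, 2, 0, 2, 2, 0, 2, 0, 3, 0, 2, 2, 0, 2, 1, 3, 3], 0), (1, [0, 2, 2, 0, 3, 3, 0, 2, 2, 0, 2, 0, 2, 0, 2, 2, 2, 0, 3, 0], 0)], [(0, true), (1, false), (1, false), (0, true), (0, true), (1, false), (1, false), (0, false)])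
  , ([(152, [3, 0, 2, 0, 3, 3, 0, 2, 2, 0, 2, 2, 0, 2, 0, 3, 3, 0], 0), (244, [2, 0, 2, 0, 2, 2, 2, 0, 3, 3, 0, 3, 3, 0, 2, 0, 2, 2, 0, 3, 3, 1], 0), (95, [2, 0, 3, 3, 0, 3, 3, 0, 3, 3, 0, 2, 0, 2, 2, 0, 2, 0, 3, 1], 0), (1, [0, 2, 2, 0, 2, 0, 2, 2, 0, 2, 0, 3, 0, 3, 0, 3, 3, 0, 3], 0)], [(1, false), (1, false), (0, false), (1, false), (0, true), (1, true), (0, true), (0, true), (0, true)])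
  , ([(12, [0, 3, 0, 2, 2, 0, 2, 2, 0, 3, 0, 3, 0, 3, 3, 0, 2], 0), (1, [2, 2, 0, 2, 0, 2, 2, 0, 3, 3, 0, 3, 0, 3, 0, 2, 0, 2, 2, 2, 0], 0), (79, [0, 2, 2, 0, 2, 0, 3, 3, 0, 3, 3, 0, 2, 2, 2, 0, 2, 0, 2, 1, 3], 0), (1, [2, 2], 0)], [])]

/-- All walks. -/
def certs : List (List (List StepCert × List (ℕ × Bool))) :=
  [cert0, cert1, cert2, cert3, cert4, cert5, cert6, cert7, cert8, cert9, cert10, cert11, cert12, cert13, cert14, cert15, cert16, cert17, cert18, cert19, cert20, cert21, cert22, cert23, cert24, cert25, cert26, cert27, cert28, cert29, cert30, cert31, cert32, cert33, cert34, cert35, cert36, cert37, cert38, cert39, cert40, cert41, cert42, cert43, cert44, cert45, cert46, cert47, cert48, cert49, cert50, cert51,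 cert52, cert53, cert54]

end Cfsg.Agent.Lib.HNAlt13
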