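import Cfsg.Agent.Lib.HNAlt13.Relations
import Cfsg.Agent.Lib.ShortPresSLn.Carmichael
import Cfsg.Prelude.Def_Sporadic

/-!
The presented Harada-Norton group has a subgroup isomorphic to the alternating group of degree 12,
so it acts on 1140000 points with that stabiliser.
-/

set_option autoImplicit false
set_option maxRecDepth 20000

namespace Cfsg.Agent.Lib.HNAlt13

open Cfsg.Agent.Lib.CosetEnum Cfsg.Agent.Lib.CosetEnum.HNP Cfsg.Agent.Lib.ExactCover
open Cfsg.Agent.Lib.ShortPresSLn

theorem pairs_complete : ∀ i < 10, ∀ j < 10, i < j →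
    ∃ n < 45, pairs.getD n (0, 0) = (i, j) := by
  decide +kernel

theorem gen_cube (i : ℕ) (hi : i < 10) : gen i ^ 3 = 1 := by
  have h := rel_eq_one i (by omega)
  simp only [relPath, if_pos hi, pathElt_append] at h
  rw [pow_three, ← mul_assoc]
  exact h

theorem gen_sq_lt (i j : ℕ) (hj : j < 10) (hij : i < j) : (gen i * gen j) ^ 2 = 1 := by
  obtain ⟨n, hn, hp⟩ := pairs_complete i (by omega) j hj hij
  have h := rel_eq_one (10 + n) (by omega)
  simp only [relPath, if_neg (show ¬ 10 + n < 10 by omega), show 10 + n - 10 = n by omega, hp,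
    pathElt_append] at h
  rw [pow_two]
  exact h

theorem gen_rel : CarmRel 10 gen where
  cube := gen_cube
  sq i hi j hj hij := by
    rcases lt_or_gt_of_ne hij with h | h
    · exact gen_sq_lt i j hj h
    · have h2 := gen_sq_lt j i hi h
      rw [pow_two] at h2 ⊢
      have h3 : gen i * gen j * (gen i * gen j) =
          (gen j)⁻¹ * (gen j * gen i * (gen j * gen i)) * gen j := by group
      rw [h3, h2, mul_one, inv_mul_cancel]

theorem gen_zero_data : ∃ w, elts.getD 0 [] = [(w, 0)] ∧ okWord w = true ∧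
    ¬ ([0, 3, 7, 8, 16].all fun b => Nat.beq (scan 6 table w b) b) = true :=
  ⟨_, rfl, by decide +kernel, by decide +kernel⟩

theorem gen_zero_ne : gen 0 ≠ 1 := by
  obtain ⟨w, hw, hok, hne⟩ := gen_zero_data
  intro h
  apply hne
  have h1 : toHN (val w) = 1 := by
    rw [gen, hw] at h
    simpa [FullCert.pathElt, Setting.el, setting] using h
  have h2 : val w = 1 := toHN_injective (by rw [h1, map_one])
  simp only [List.all_eq_true, Nat.beq_eq]
  intro b hb
  have hb' : b < 1408 := by
    simp only [List.mem_cons, List.not_mem_nil, or_false] at hb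
    omega
  have h3 := act_word w (okWord_iff.1 hok) ⟨b, hb'⟩
  rw [h2] at h3
  simpa using h3.symm

/-- A subgroup isomorphic to the alternating group of degree 12. -/
theorem exists_alt12 :
    ∃ A : Subgroup Cfsg.Spor.HN, Nonempty (alternatingGroup (Fin 12) ≃* A) := by
  obtain ⟨ρ, hρ⟩ := exists_hom gen_rel
  haveI : IsSimpleGroup (alternatingGroup (Fin (10 + 2))) := alternatingGroup.isSimpleGroup (by simp)
  have hinj : Function.Injective ρ := by
    rw [← MonoidHom.ker_eq_bot_iff]
    refine (Subgroup.Normal.eq_bot_or_eq_top inferInstance).resolve_right fun htop => gen_zero_ne ?_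
    rw [← hρ 0 (by omega), ← MonoidHom.mem_ker, htop]
    trivial
  exact ⟨ρ.range, ⟨MonoidHom.ofInjective hinj⟩⟩

/-- The transitive action on 1140000 points. -/
theorem exists_perm : ∃ H : Subgroup (Equiv.Perm (Fin 1140000)), Cfsg.IsHN H ∧
    MulAction.IsPretransitive H (Fin 1140000) ∧
    Nonempty (MulAction.stabilizer H (0 : Fin 1140000) ≃* alternatingGroup (Fin 12)) := by
  classical
  obtain ⟨A, ⟨eA⟩⟩ := exists_alt12
  haveI : Finite Cfsg.Spor.HN := Nat.finite_of_card_ne_zero (by rw [card_HN]; norm_num)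
  haveI := simple_HN
  have hA : Nat.card A = 239500800 := by
    have h2 : 2 * Nat.card (alternatingGroup (Fin 12)) = Nat.factorial 12 := by
      rw [two_mul_nat_card_alternatingGroup, Nat.card_perm, Nat.card_eq_fintype_card, Fintype.card_fin]
    rw [← Nat.card_congr eA.toEquiv]
    have h12 : Nat.factorial 12 = 479001600 := by decide +kernel
    rw [h12] at h2
    have h3 : Nat.card (alternatingGroup (Fin 12)) = 239500800 := by omega
    exact h3
  have hidx : A.index = 1140000 := by
    have h := A.card_mul_index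
    rw [card_HN, hA] at h
    omega
  have hcard : Nat.card (Cfsg.Spor.HN ⧸ A) = 1140000 := hidx
  let e₀ : (Cfsg.Spor.HN ⧸ A) ≃ Fin 1140000 := (Finite.equivFin _).trans (finCongr hcard)
  let e := e₀.trans (Equiv.swap (e₀ ((1 : Cfsg.Spor.HN) : Cfsg.Spor.HN ⧸ A)) 0)
  have he : e ((1 : Cfsg.Spor.HN) : Cfsg.Spor.HN ⧸ A) = 0 := by simp [e]
  let σ : Cfsg.Spor.HN →* Equiv.Perm (Fin 1140000) :=
    (e.permCongrHom.toMonoidHom).comp (MulAction.toPermHom Cfsg.Spor.HN (Cfsg.Spor.HN ⧸ A))
  have hσ : ∀ g x, σ g x = e (g • e.symm x) := fun g x => rfl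
  have h0 : e.symm 0 = ((1 : Cfsg.Spor.HN) : Cfsg.Spor.HN ⧸ A) := by rw [Equiv.symm_apply_eq, he]
  have hstab : ∀ g, σ g 0 = 0 ↔ g ∈ A := by
    intro g
    rw [hσ, h0, ← he, e.injective.eq_iff, MulAction.Quotient.smul_coe, smul_eq_mul, mul_one,
      QuotientGroup.eq]
    simp
  have hinj : Function.Injective σ := by
    rw [← MonoidHom.ker_eq_bot_iff]
    refine (Subgroup.Normal.eq_bot_or_eq_top inferInstance).resolve_right fun htop => ?_
    have h1 : (⊤ : Subgroup Cfsg.Spor.HN) ≤ A := fun g _ => by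
      rw [← hstab g, MonoidHom.mem_ker.1 (htop ▸ Subgroup.mem_top g : g ∈ σ.ker)]
      rfl
    have h2 := congrArg (fun K : Subgroup Cfsg.Spor.HN => Nat.card K) (top_le_iff.1 h1)
    simp only [hA, Subgroup.card_top, card_HN] at h2
    omega
  let eσ : Cfsg.Spor.HN ≃* σ.range := MonoidHom.ofInjective hinj
  haveI : IsSimpleGroup σ.range := eσ.symm.isSimpleGroup
  refine ⟨σ.range, ⟨inferInstance, ?_⟩, ⟨fun x y => ?_⟩, ⟨?_⟩⟩
  · rw [← Nat.card_congr eσ.toEquiv, card_HN]
  · obtain ⟨g, hg⟩ := MulAction.exists_smul_eq Cfsg.Spor.HN (e.symm x) (e.symm y)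
    exact ⟨⟨σ g, g, rfl⟩, by simp [Subgroup.smul_def, hσ, hg]⟩
  · have hmap : A.map eσ.toMonoidHom = MulAction.stabilizer σ.range (0 : Fin 1140000) := by
      ext ⟨z, g, rfl⟩
      rw [MulAction.mem_stabilizer_iff]
      constructor
      · rintro ⟨a, ha, hz⟩
        have hga : σ a = σ g := congrArg Subtype.val hz
        change σ g 0 = 0
        rw [← hga]
        exact (hstab a).2 ha
      · intro h
        exact ⟨g, (hstab g).1 h, rfl⟩
    exact (MulEquiv.subgroupCongr hmap.symm).trans ((A.equivMapOfInjective _ eσ.injective).symm.trans eA.symm)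

end Cfsg.Agent.Lib.HNAlt13
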