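import Cfsg.Agent.Lib.CosetEnum.HNP.Final
import Cfsg.Agent.Lib.HNAlt13.Data

/-!
A path is the identity of the presented Harada-Norton group when its walks from six starting points
close: the base point and five points of node 1 lying over the base of the action on 1408 points.
-/

set_option autoImplicit false

namespace Cfsg.Agent.Lib.HNAlt13

open Cfsg.Agent.Lib.CosetEnum Cfsg.Agent.Lib.CosetEnum.HNP Cfsg.Agent.Lib.ExactCover

/-- The walk of a path from a starting point returns to it. -/
noncomputable def closes (B : BlockData) (nds : List NodeData) (ps : List (List ℕ × ℕ))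
    (s : ℕ × List ℕ) (c : List StepCert × List (ℕ × Bool)) : Bool :=
  match walkPath B nds ps c.1 s.1 s.2 with
  | none => false
  | some q => sameCoset nds q.1 q.2 s.1 s.2 c.2

/-- All six walks of a path close. -/
noncomputable def closesAll (ps : List (List ℕ × ℕ))
    (cs : List (List StepCert × List (ℕ × Bool))) : Bool :=
  (List.range starts.length).all fun k =>
    closes blocks allNodes ps (starts.getD k (0, [])) (cs.getD k ([], []))

theorem starts_ok : starts.length = 6 ∧ starts.getD 0 (0, []) = (0, []) ∧
    ∀ k < 5, (starts.getD (k + 1) (0, [])).1 = 1 ∧ okWord (starts.getD (k + 1) (0, [])).2 = true ∧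
      scan 6 table (starts.getD (k + 1) (0, [])).2 0 = [0, 3, 7, 8, 16].getD k 0 := by
  decide +kernel

/-- A closing walk fixes its starting point. -/
theorem closes_sound {ps : List (List ℕ × ℕ)} {s : ℕ × List ℕ}
    {c : List StepCert × List (ℕ × Bool)} (hs : s.1 < fullCert.C.nds.length)
    (h : closes blocks allNodes ps s c = true) :
    fullCert.hom (FullCert.pathElt ps)⁻¹ (fullCert.C.pt ⟨s.1, hs⟩ (val s.2)) =
      fullCert.C.pt ⟨s.1, hs⟩ (val s.2) := by
  simp only [closes] at h
  cases hw : walkPath blocks allNodes ps c.1 s.1 s.2 with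
  | none => simp [hw] at h
  | some q =>
    simp only [hw] at h
    obtain ⟨hq, he⟩ := fullCert.walk_sound ps c.1 ⟨s.1, hs⟩ s.2 _ q hw
      (fullCert.hom_point ⟨s.1, hs⟩ (val s.2))
    obtain ⟨hj, e⟩ := Cert.sameCoset_sound (C := fullCert.C) hq h
    rw [mul_inv_rev, map_mul, Equiv.Perm.mul_apply, fullCert.hom_point] at he
    exact he.trans e

/-- A path all of whose six walks close is the identity. -/
theorem pathElt_eq_one {ps : List (List ℕ × ℕ)} {cs : List (List StepCert × List (ℕ × Bool))}
    (h : closesAll ps cs = true) : FullCert.pathElt ps = 1 := by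
  simp only [closesAll, List.all_eq_true, List.mem_range] at h
  obtain ⟨hlen, h0, h5⟩ := starts_ok
  set W := FullCert.pathElt ps with hW
  -- the base point is fixed
  have hb : fullCert.hom W⁻¹ fullCert.base = fullCert.base := by
    have hc := h 0 (by omega)
    rw [h0] at hc
    have := closes_sound (s := (0, [])) (Nat.zero_lt_succ _) hc
    rw [val_nil] at this
    exact this
  obtain ⟨p, hp⟩ := (fullCert.exact.2 _).2 hb
  obtain ⟨b, hb', k, hk, hpv⟩ := exists_block blocks_ok p
  have hbok : okWord (blocks.rep b) = true := ((block_facts blocks_ok).1 b hb').1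
  set w := blocks.rep b ++ k with hw
  have hwok : okWord w = true := okWord_append hbok (kWord_okWord hk)
  have hpw : p = val w := by rw [hpv, hw, val_append]
  have hone : val w = val [] := by
    refine val_eq_of_base w [] (okWord_iff.1 hwok) (by simp) fun x hx => ?_
    obtain ⟨c, hc, rfl⟩ : ∃ c < 5, [0, 3, 7, 8, 16].getD c 0 = x := by
      simp only [List.mem_cons, List.not_mem_nil, or_false] at hx
      rcases hx with rfl | rfl | rfl | rfl | rfl
      exacts [⟨0, by omega, rfl⟩, ⟨1, by omega, rfl⟩, ⟨2, by omega, rfl⟩, ⟨3, by omega, rfl⟩,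
        ⟨4, by omega, rfl⟩]
    obtain ⟨hi, hrok, hr⟩ := h5 c hc
    have hc' := h (c + 1) (by omega)
    generalize starts.getD (c + 1) (0, []) = s at hi hrok hr hc'
    obtain ⟨i, r⟩ := s
    simp only at hi hrok hr
    subst hi
    have hfix := closes_sound (s := (1, r)) (by decide : 1 < fullCert.C.nds.length) hc'
    rw [← hW, ← hp, fullCert.hom_toHN] at hfix
    change fullCert.C.right p⁻¹ _ = _ at hfix
    rw [Cert.right_pt, Cert.pt_eq_iff] at hfix
    have h2 := node1_fixes _ hfix
    simp only [map_mul, map_inv, Equiv.Perm.mul_apply, Equiv.Perm.inv_def] at h2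
    -- `act` read on words
    have key : ∀ (l : List ℕ), okWord l = true → ∀ i : Fin 1408,
        ((act (val l)).symm i).1 = scan 6 table l i.1 := fun l hl i =>
      act_word l (okWord_iff.1 hl) i
    have hr0 : ((act (val r)).symm (⟨0, by omega⟩ : Fin 1408)).1 = [0, 3, 7, 8, 16].getD c 0 := by
      rw [key r hrok, hr]
    have h3 : (act p).symm ((act (val r)).symm ⟨0, by omega⟩) = (act (val r)).symm ⟨0, by omega⟩ := by
      have h5 := congrArg (act (val r)).symm h2
      simp only [Equiv.symm_apply_apply] at h5
      exact h5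
    have h6 := key w hwok ((act (val r)).symm (⟨0, by omega⟩ : Fin 1408))
    rw [← hpw, h3, hr0] at h6
    simpa [scan] using h6.symm
  have hinv : W⁻¹ = 1 := by rw [← hp, hpw, hone, val_nil, map_one]
  simpa using hinv

/-- Paths multiply by concatenation. -/
theorem pathElt_append (u v : List (List ℕ × ℕ)) :
    FullCert.pathElt (u ++ v) = FullCert.pathElt u * FullCert.pathElt v := by
  simp [FullCert.pathElt, List.map_append, List.prod_append]

/-- The ten elements. -/
noncomputable def gen (i : ℕ) : Cfsg.Spor.HN := FullCert.pathElt (elts.getD i [])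

/-- The relation with the given number. -/
def relPath (n : ℕ) : List (List ℕ × ℕ) :=
  if n < 10 then elts.getD n [] ++ elts.getD n [] ++ elts.getD n []
  else
    let p := pairs.getD (n - 10) (0, 0)
    (elts.getD p.1 [] ++ elts.getD p.2 []) ++ (elts.getD p.1 [] ++ elts.getD p.2 [])

end Cfsg.Agent.Lib.HNAlt13
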