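import Cfsg.Agent.Lib.HNAlt13.Rel

/-! The Carmichael relations hold between the ten elements. -/

set_option autoImplicit false
set_option maxRecDepth 100000
set_option Elab.async false

namespace Cfsg.Agent.Lib.HNAlt13

open Cfsg.Agent.Lib.CosetEnum.HNP

theorem rels0 : ((List.range 10).all fun n => closesAll (relPath (0 + n)) (certs.getD (0 + n) [])) =
    true := by decide +kernel

theorem rels1 : ((List.range 15).all fun n => closesAll (relPath (10 + n)) (certs.getD (10 + n) [])) =
    true := by decide +kernel

theorem rels2 : ((List.range 15).all fun n => closesAll (relPath (25 + n)) (certs.getD (25 + n) [])) =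
    true := by decide +kernel

theorem rels3 : ((List.range 15).all fun n => closesAll (relPath (40 + n)) (certs.getD (40 + n) [])) =
    true := by decide +kernel

theorem rel_eq_one (n : ℕ) (hn : n < 55) : FullCert.pathElt (relPath n) = 1 := by
  refine pathElt_eq_one (cs := certs.getD n []) ?_
  have h0 := rels0
  have h1 := rels1
  have h2 := rels2
  have h3 := rels3
  simp only [List.all_eq_true, List.mem_range] at h0 h1 h2 h3
  rcases (by omega : n < 10 ∨ (10 ≤ n ∧ n < 25) ∨ (25 ≤ n ∧ n < 40) ∨ 40 ≤ n) with h | h | h | h
  · simpa using h0 n h
  · have := h1 (n - 10) (by omega); rwa [show 10 + (n - 10) = n by omega] at this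
  · have := h2 (n - 25) (by omega); rwa [show 25 + (n - 25) = n by omega] at this
  · have := h3 (n - 40) (by omega); rwa [show 40 + (n - 40) = n by omega] at this

end Cfsg.Agent.Lib.HNAlt13
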